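import Cfsg.Agent.CoOneType.Setting

/-!
The part of `oc w` inside the centraliser of `z`, for a conjugate `w` of `z` above the first
coordinate vector: it realises all Siegel maps.
-/

set_option autoImplicit false

open Cfsg Cfsg.Agent.ThreeTrans.OrthCohom Cfsg.Agent.Classical.Quad QuadraticMap Cfsg.Agent.LargeExtra

namespace Cfsg.Agent.CoOneType

/-- An isometry fixing `e` moves a singular vector of `e⊥` off its perpendicular space. -/
theorem stab_move {v : V} (hq : qP 4 v = 0) (hv : Bp v (dc 1) = 0) (h0 : v ≠ 0) (h1 : v ≠ dc 1) :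
    ∃ g : O, dsign g = 1 ∧ g.1 (dc 1) = dc 1 ∧ Bp (g.1 v) v = 1 := by
  obtain ⟨j, hj⟩ := wc_surj (cd v) (code_Bn (by norm_num) hv)
  have hj' : v = dc (wc j.val) ∨ v = dc (wc j.val) + dc 1 := by
    rw [← dc_cd v]; rcases hj with e | e <;> rw [e]
    · exact Or.inl rfl
    · exact Or.inr (dc_xor _ _)
  have hj0 : j.val ≠ 0 := fun e => by
    rw [e, show wc 0 = 0 from rfl, dc_zero, zero_add] at hj'
    exact hj'.elim h0 h1
  obtain ⟨k, hk1, -, hk3⟩ := stab_a 0 j hj0 (fun e => hj0 (by rw [e]; rfl))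
  obtain ⟨l, hl1, -, hl3⟩ := stab_b 0 j
  obtain ⟨g, hg, hgx⟩ := exists_rr (a := dc (wc k.val)) (b := dc (wc l.val))
    (by rw [q_dc (wc_lt k).1, hk1]; rfl) (by rw [q_dc (wc_lt l).1, hl1]; rfl)
  have hone : ∀ m : Fin 64, Bp (dc 1) (dc (wc m.val)) = 0 := fun m => by
    rw [Bp_comm, Bp_dc (wc_lt m).1 (by norm_num), (wc_lt m).2]; rfl
  have pk : Bp v (dc (wc k.val)) = 1 := by rw [Bp_comm, wc_Bp j hj' k, hk3]; rfl
  have pl : Bp v (dc (wc l.val)) = 0 := by rw [Bp_comm, wc_Bp j hj' l, hl3]; rfl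
  refine ⟨g, hg, by rw [hgx, hone, zero_smul, add_zero, hone, zero_smul, add_zero], ?_⟩
  rw [hgx, pl, zero_smul, add_zero, pk, one_smul, Bp_add_left, Bp_self, Bp_comm, pk, zero_add]

variable {G : Type*} [Group G] [Finite G]

namespace CoOne

variable {z : G} (S : CoOne z)
include S

/-- A conjugate of `z` above the first coordinate vector. -/
structure Fr (w : G) : Prop where
  mem : w ∈ oc z
  conj : ∃ g : G, g * z * g⁻¹ = w
  pr_eq : S.pr w = dc 1

theorem exists_fr : ∃ w, S.Fr w := by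
  obtain ⟨g, h1, h2⟩ := S.exists_frame
  exact ⟨_, ⟨h1, ⟨g, rfl⟩, h2⟩⟩

variable {S}

omit S in
theorem cw {w x : G} {a : G} (hx : x * w = w * x) (ha : a * w = w * a) :
    x * a * w = w * (x * a) := Commute.mul_left hx ha

variable {w : G} (F : S.Fr w)
include F

theorem wset : Setting w := by
  obtain ⟨g, rfl⟩ := F.conj
  exact S.sett.conj g

theorem zmem_oc : z ∈ oc w := by
  obtain ⟨g, rfl⟩ := F.conj
  exact S.sett.symm F.mem

theorem ww : w * w = 1 := (wset F).sq_one

theorem wne : w ≠ 1 := (wset F).ne_one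

theorem w_ne_z : w ≠ z := fun e => by
  have h := F.pr_eq
  rw [e, S.pr_z, ← dc_zero] at h
  exact absurd (dc_inj (by norm_num) (by norm_num) h) (by norm_num)

theorem wz : w * z = z * w := S.comm F.mem

theorem Fr_mul_z : S.Fr (w * z) := by
  refine ⟨mul_mem F.mem S.zmem, ?_, by rw [S.pr_mul _ F.mem _ S.zmem, F.pr_eq, S.pr_z, add_zero]⟩
  obtain ⟨y, -, hy⟩ := S.sett.exists_mover F.mem (wne F) (w_ne_z F)
  obtain ⟨g, hg⟩ := F.conj
  exact ⟨y * g, by rw [← hy, ← hg]; group⟩

theorem comm_w {x : G} (hx : x ∈ oc w) : x * w = w * x := ((wset F).comm_z hx).eq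

theorem nrm_w {c x : G} (hc : c * w = w * c) (hx : x ∈ oc w) : c * x * c⁻¹ ∈ oc w :=
  oc_conj_mem (Subgroup.mem_centralizer_singleton_iff.2 hc) hx

theorem perp_of_comm {a : G} (ha : a ∈ oc z) (h : a * w = w * a) : Bp (S.pr a) (dc 1) = 0 := by
  rw [← F.pr_eq]; exact (S.commute_iff ha F.mem).1 h

/-- Isometries fixing the base vector are induced by elements centralising `z` and `w`. -/
theorem exists_stab (g : O) (hg : dsign g = 1) (he : g.1 (dc 1) = dc 1) :
    ∃ c, c * z = z * c ∧ c * w = w * c ∧ S.act c = g := by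
  obtain ⟨c, hc, rfl⟩ := S.act_surj g hg
  rcases S.pr_eq F.mem (S.nrm hc F.mem) (by rw [S.act_spec c hc w F.mem, F.pr_eq, he]) with e | e
  · exact ⟨c, hc, mul_inv_eq_iff_eq_mul.1 e, rfl⟩
  · obtain ⟨y, hy, hym⟩ := S.sett.exists_mover F.mem (wne F) (w_ne_z F)
    refine ⟨y * c, Commute.mul_left (S.comm hy) hc, ?_, by rw [S.act_mul (S.comm hy) hc, S.act_inner hy, one_mul]⟩
    refine mul_inv_eq_iff_eq_mul.1 ?_
    calc y * c * w * (y * c)⁻¹ = y * (c * w * c⁻¹) * y⁻¹ := by group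
      _ = y * w * y⁻¹ * (y * z * y⁻¹) := by rw [e]; group
      _ = w * z * z := by rw [hym, mul_inv_eq_of_eq_mul (S.comm hy)]
      _ = w := by rw [mul_assoc, S.zz, mul_one]

/-- The intersection of the two extraspecial groups. -/
theorem inter {k : G} (hk : k ∈ oc z) (hk' : k ∈ oc w) : k = 1 ∨ k = z ∨ k = w ∨ k = w * z := by
  have hperp := perp_of_comm F hk (comm_w F hk')
  have hboth : ∀ c : G, (c = 1 ∨ c = z) → (c = 1 ∨ c = w) → c = 1 := by
    rintro c (rfl | rfl) (h | h) <;> first | rfl | exact h | exact absurd h.symm (w_ne_z F)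
  have hsq : k * k = 1 := by
    refine hboth _ ?_ ((wset F).center_cases (mul_mem hk' hk') fun q hq => ?_)
    · rw [S.pr_sq k hk]
      rcases zmod_cases (qP 4 (S.pr k)) with e | e <;> simp [e, zp_zero, zp_one]
    · rcases (wset F).commutator_cases hq hk' with h | h
      · exact Commute.mul_right (commutatorElement_eq_one_iff_mul_comm.1 h)
          (commutatorElement_eq_one_iff_mul_comm.1 h)
      · have hqk : q * k = w * (k * q) := by rw [← h]; group
        show q * (k * k) = k * k * q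
        calc q * (k * k) = q * k * k := (mul_assoc _ _ _).symm
          _ = w * (k * q) * k := by rw [hqk]
          _ = w * (k * (q * k)) := by group
          _ = w * (k * w) * (k * q) := by rw [hqk]; group
          _ = k * k * q := by rw [comm_w F hk', ← mul_assoc w w, ww F]; group
  have hq : qP 4 (S.pr k) = 0 := zp_inj S.zne (by rw [← S.pr_sq k hk, hsq, zp_zero])
  by_cases h0 : S.pr k = 0
  · rcases S.pr_ker k hk h0 with e | e
    exacts [Or.inl e, Or.inr (Or.inl e)]
  by_cases h1 : S.pr k = dc 1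
  · rcases S.pr_eq F.mem hk (F.pr_eq.trans h1.symm) with e | e
    exacts [Or.inr (Or.inr (Or.inl e)), Or.inr (Or.inr (Or.inr e))]
  exfalso
  obtain ⟨r, hr, he, hab⟩ := stab_move hq hperp h0 h1
  obtain ⟨c, hc, hcw, rfl⟩ := exists_stab F r hr he
  have hk1 := S.nrm hc hk
  have hk1' := nrm_w F hcw hk'
  have h := hboth _ (S.sett.commutator_cases hk1 hk) ((wset F).commutator_cases hk1' hk')
  have h' := (S.commute_iff hk1 hk).1 (commutatorElement_eq_one_iff_mul_comm.1 h)
  rw [S.act_spec c hc k hk, hab] at h'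
  exact one_ne_zero h'

theorem inter_comm {k x : G} (hk : k ∈ oc z) (hk' : k ∈ oc w) (hxz : x * z = z * x)
    (hxw : x * w = w * x) : x * k = k * x := by
  rcases inter F hk hk' with rfl | rfl | rfl | rfl
  exacts [by simp, hxz, hxw, by rw [← mul_assoc, hxw, mul_assoc, hxz, ← mul_assoc]]

theorem inter_sq {k : G} (hk : k ∈ oc z) (hk' : k ∈ oc w) : k * k = 1 := by
  rcases inter F hk hk' with rfl | rfl | rfl | rfl
  · exact one_mul 1
  · exact S.zz
  · exact ww F
  · calc w * z * (w * z) = w * (z * w) * z := by group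
      _ = w * w * (z * z) := by rw [← wz F]; group
      _ = 1 := by rw [ww F, S.zz, one_mul]

/-- Every element of `oc w` centralising `z` acts as a Siegel map. -/
theorem act_sg {x : G} (hx : x ∈ oc w) (hxz : x * z = z * x) :
    ∃ v, Bp v (dc 1) = 0 ∧ ∀ y, (S.act x).1 y = sg v y := by
  have he : (S.act x).1 (dc 1) = dc 1 := by
    rw [← F.pr_eq, ← S.act_spec x hxz w F.mem, mul_inv_eq_of_eq_mul (comm_w F hx)]
  refine exists_sg_of (S.act x) he fun y hy => ?_
  obtain ⟨a, ha, rfl⟩ := S.pr_surj y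
  rw [← F.pr_eq] at hy
  have haw : a * w = w * a := (S.commute_iff ha F.mem).2 hy
  have h1 : x * a * x⁻¹ * a⁻¹ ∈ oc z := mul_mem (S.nrm hxz ha) (inv_mem ha)
  have h2 : x * a * x⁻¹ * a⁻¹ ∈ oc w := by
    rw [show x * a * x⁻¹ * a⁻¹ = x * (a * x⁻¹ * a⁻¹) by group]
    exact mul_mem hx (nrm_w F haw (inv_mem hx))
  have h3 : S.pr (x * a * x⁻¹ * a⁻¹) = (S.act x).1 (S.pr a) + S.pr a := by
    rw [S.pr_mul _ (S.nrm hxz ha) _ (inv_mem ha), S.act_spec x hxz a ha, S.pr_inv ha]
  rw [← h3]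
  rcases inter F h1 h2 with e | e | e | e <;> rw [e]
  · exact Or.inl S.pr_one
  · exact Or.inl S.pr_z
  · exact Or.inr F.pr_eq
  · exact Or.inr (by rw [S.pr_mul _ F.mem _ S.zmem, F.pr_eq, S.pr_z, add_zero])

/-- Elements with the same action differ by an element of the intersection. -/
theorem same_act {x y : G} (hx : x ∈ oc w) (hxz : x * z = z * x) (hy : y ∈ oc w)
    (hyz : y * z = z * y) (h : ∀ u, (S.act x).1 u = (S.act y).1 u) :
    ∃ k, k ∈ oc z ∧ k ∈ oc w ∧ y = x * k := by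
  have hxi := (Commute.inv_left hxz).eq
  refine ⟨x⁻¹ * y, S.act_ker _ (Commute.mul_left hxi hyz) ?_, mul_mem (inv_mem hx) hy,
    (mul_inv_cancel_left x y).symm⟩
  rw [S.act_mul hxi hyz, S.act_inv hxz, ext_oG h, inv_mul_cancel]

theorem sq_eq_of_same {x y : G} (hx : x ∈ oc w) (hxz : x * z = z * x) (hy : y ∈ oc w)
    (hyz : y * z = z * y) (h : ∀ u, (S.act x).1 u = (S.act y).1 u) : x * x = y * y := by
  obtain ⟨k, hk, hk', rfl⟩ := same_act F hx hxz hy hyz h
  rw [show x * k * (x * k) = x * (k * x) * k by group, ← inter_comm F hk hk' hxz (comm_w F hx),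
    show x * (x * k) * k = x * x * (k * k) by group, inter_sq F hk hk', mul_one]

theorem card_comm {a : G} (ha : a ∈ oc z) (h0 : S.pr a ≠ 0) :
    Nat.card ↥(oc z ⊓ Subgroup.centralizer ({a} : Set G)) = 256 := by
  classical
  let f : ↥(oc z) →* Multiplicative (ZMod 2) := MonoidHom.mk'
    (fun q => Multiplicative.ofAdd (Bp (S.pr q) (S.pr a))) fun p q => by
      rw [← ofAdd_add, Subgroup.coe_mul, S.pr_mul p p.2 q q.2]
      exact congrArg _ (polar_add_left _ _ _ _)
  have hsurj : Function.Surjective f := by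
    obtain ⟨y, hy⟩ : ∃ y, Bp y (S.pr a) ≠ 0 := by
      by_contra hcon
      push Not at hcon
      exact h0 (eq_zero_of_polar nondegP4 fun y => (polar_comm _ _ _).trans (hcon y))
    obtain ⟨b, hb, rfl⟩ := S.pr_surj y
    intro c
    rcases zmod_cases c.toAdd with e | e
    · exact ⟨1, by rw [map_one]; exact (congrArg Multiplicative.ofAdd e).symm⟩
    · exact ⟨⟨b, hb⟩, by
        show Multiplicative.ofAdd (Bp (S.pr b) (S.pr a)) = c
        rw [zmod_ne_zero _ hy]; exact (congrArg Multiplicative.ofAdd e).symm⟩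
  have hi : f.ker.index = 2 := by
    rw [Subgroup.index_ker, MonoidHom.range_eq_top.2 hsurj, Subgroup.card_top]
    simp
  have hc := f.ker.card_mul_index
  rw [hi, S.card] at hc
  have he : Nat.card f.ker = Nat.card ↥(oc z ⊓ Subgroup.centralizer ({a} : Set G)) := by
    refine Nat.card_congr
      { toFun := fun q => ⟨q.1.1, q.1.2, ?_⟩
        invFun := fun q => ⟨⟨q.1, q.2.1⟩, ?_⟩
        left_inv := fun q => rfl
        right_inv := fun q => rfl }
    · refine Subgroup.mem_centralizer_singleton_iff.2 ((S.commute_iff q.1.2 ha).2 ?_)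
      exact Multiplicative.ofAdd.injective (MonoidHom.mem_ker.1 q.2)
    · refine MonoidHom.mem_ker.2 ?_
      show Multiplicative.ofAdd (Bp (S.pr q.1) (S.pr a)) = 1
      rw [(S.commute_iff q.2.1 ha).1 (Subgroup.mem_centralizer_singleton_iff.1 q.2.2), ofAdd_zero]
  omega

/-- Transport from `oc z`. -/
theorem transport : ∃ g : G, g * z * g⁻¹ = w ∧ g⁻¹ * z * g ∈ oc z ∧ S.pr (g⁻¹ * z * g) ≠ 0 ∧
    ∀ a, a ∈ oc z → a * (g⁻¹ * z * g) = g⁻¹ * z * g * a →
      g * a * g⁻¹ ∈ oc w ∧ g * a * g⁻¹ * z = z * (g * a * g⁻¹) := by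
  obtain ⟨g, hg⟩ := F.conj
  have hm : g⁻¹ * z * g ∈ oc z := by
    have h1 := conj_mem_oc (g := g⁻¹) (zmem_oc F)
    rwa [show g⁻¹ * w * g⁻¹⁻¹ = z by rw [← hg]; group, inv_inv] at h1
  refine ⟨g, hg, hm, fun e => ?_, fun a ha hc => ⟨hg ▸ conj_mem_oc ha, ?_⟩⟩
  · rcases S.pr_ker _ hm e with h | h
    · exact S.zne (by
        calc z = g * (g⁻¹ * z * g) * g⁻¹ := by group
          _ = 1 := by rw [h]; group)
    · exact w_ne_z F (by
        calc w = g * z * g⁻¹ := hg.symm
          _ = g * (g⁻¹ * z * g) * g⁻¹ := by rw [h]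
          _ = z := by group)
  · calc g * a * g⁻¹ * z = g * (a * (g⁻¹ * z * g)) * g⁻¹ := by group
      _ = z * (g * a * g⁻¹) := by rw [hc]; group

/-- Every Siegel map is realised. -/
theorem exists_sg {v : V} (hv : Bp v (dc 1) = 0) :
    ∃ x, x ∈ oc w ∧ x * z = z * x ∧ ∀ y, (S.act x).1 y = sg v y := by
  classical
  set X : Subgroup G := oc w ⊓ Subgroup.centralizer ({z} : Set G)
  have hX : Nat.card X = 256 := by
    obtain ⟨g, hg, hm, h0, htr⟩ := transport F
    rw [← card_comm F hm h0]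
    have hback : ∀ x : X, g⁻¹ * x.1 * g ∈ oc z ⊓ Subgroup.centralizer ({g⁻¹ * z * g} : Set G) := by
      intro x
      refine ⟨?_, Subgroup.mem_centralizer_singleton_iff.2 ?_⟩
      · have h1 := conj_mem_oc (g := g⁻¹) x.2.1
        rwa [show g⁻¹ * w * g⁻¹⁻¹ = z by rw [← hg]; group, inv_inv] at h1
      · calc g⁻¹ * x.1 * g * (g⁻¹ * z * g) = g⁻¹ * (x.1 * z) * g := by group
          _ = g⁻¹ * z * g * (g⁻¹ * x.1 * g) := by
            rw [Subgroup.mem_centralizer_singleton_iff.1 x.2.2]; group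
    exact Nat.card_congr
      { toFun := fun x => ⟨g⁻¹ * x.1 * g, hback x⟩
        invFun := fun a => ⟨g * a.1 * g⁻¹,
          (htr a.1 a.2.1 (Subgroup.mem_centralizer_singleton_iff.1 a.2.2)).1,
          Subgroup.mem_centralizer_singleton_iff.2
            (htr a.1 a.2.1 (Subgroup.mem_centralizer_singleton_iff.1 a.2.2)).2⟩
        left_inv := fun x => Subtype.ext (by simp [mul_assoc])
        right_inv := fun a => Subtype.ext (by simp [mul_assoc]) }
  have hsel : ∀ x : X, ∃ u : Fin 64, ∀ y, (S.act x.1).1 y = sg (dc (wc u.val)) y := by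
    intro x
    obtain ⟨u, hu, hact⟩ := act_sg F x.2.1 (Subgroup.mem_centralizer_singleton_iff.1 x.2.2)
    obtain ⟨i, hi⟩ := wc_surj (cd u) (code_Bn (by norm_num) hu)
    refine ⟨i, fun y => ?_⟩
    rw [hact, ← dc_cd u]
    rcases hi with e | e <;> rw [e]
    rw [dc_xor, sg_shift (by rw [Bp_dc (wc_lt i).1 (by norm_num), (wc_lt i).2]; rfl)]
  choose f hf using hsel
  have : Fintype X := Fintype.ofFinite _
  obtain ⟨i, hi⟩ := wc_surj (cd v) (code_Bn (by norm_num) hv)
  have hfib : ∀ u ∈ (Finset.univ : Finset (Fin 64)), (Finset.univ.filter fun x : X => f x = u).card ≤ 4 := by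
    intro u _
    rcases Finset.eq_empty_or_nonempty (Finset.univ.filter fun x : X => f x = u) with h | ⟨x, hx⟩
    · simp [h]
    simp only [Finset.mem_filter, Finset.mem_univ, true_and] at hx
    have hsub : (Finset.univ.filter fun y : X => f y = u).image (fun y : X => x.1⁻¹ * y.1) ⊆
        ({1, z, w, w * z} : Finset G) := by
      intro k hk
      simp only [Finset.mem_image, Finset.mem_filter, Finset.mem_univ, true_and] at hk
      obtain ⟨y, hy, rfl⟩ := hk
      obtain ⟨k, hk1, hk2, e⟩ := same_act F x.2.1 (Subgroup.mem_centralizer_singleton_iff.1 x.2.2)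
        y.2.1 (Subgroup.mem_centralizer_singleton_iff.1 y.2.2)
        fun t => by rw [hf, hf, hx, hy]
      rw [e, inv_mul_cancel_left]
      rcases inter F hk1 hk2 with rfl | rfl | rfl | rfl <;> simp
    rw [← Finset.card_image_of_injective _ (f := fun y : X => x.1⁻¹ * y.1)
      fun a b h => Subtype.ext (mul_left_cancel h)]
    exact (Finset.card_le_card hsub).trans Finset.card_le_four
  by_cases hex : ∃ x, f x = i
  · obtain ⟨x, hx⟩ := hex
    refine ⟨x.1, x.2.1, Subgroup.mem_centralizer_singleton_iff.1 x.2.2, fun y => ?_⟩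
    rw [hf, hx, ← dc_cd v]
    rcases hi with e | e <;> rw [e]
    rw [dc_xor, sg_shift (by rw [Bp_dc (wc_lt i).1 (by norm_num), (wc_lt i).2]; rfl)]
  · exfalso
    push Not at hex
    have hm : ∀ x ∈ (Finset.univ : Finset X), f x ∈ (Finset.univ : Finset (Fin 64)).erase i :=
      fun x _ => Finset.mem_erase.2 ⟨hex x, Finset.mem_univ _⟩
    have := Finset.card_le_mul_card_image_of_maps_to hm 4 fun u hu => hfib u (Finset.mem_of_mem_erase hu)
    rw [Finset.card_univ, ← Nat.card_eq_fintype_card, hX, Finset.card_erase_of_mem (Finset.mem_univ _),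
      Finset.card_univ, Fintype.card_fin] at this
    omega

/-- Involutions of `oc w` other than `w` are conjugate to `z`. -/
theorem conj_of_invol {x : G} (hx : x ∈ oc w) (h2 : x * x = 1) (h1 : x ≠ 1) : IsConj z x := by
  obtain ⟨g, hg⟩ := F.conj
  by_cases hxw : x = w
  · exact hxw ▸ isConj_iff.2 ⟨g, hg⟩
  have hq : g⁻¹ * x * g ∈ oc z := by
    have h1 := conj_mem_oc (g := g⁻¹) hx
    rwa [show g⁻¹ * w * g⁻¹⁻¹ = z by rw [← hg]; group, inv_inv] at h1
  refine (S.conj_of_singular hq (fun e => ?_) (zp_inj S.zne ?_)).trans (isConj_iff.2 ⟨g, by group⟩)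
  · rcases S.pr_ker _ hq e with h | h
    · exact h1 (by
        calc x = g * (g⁻¹ * x * g) * g⁻¹ := by group
          _ = 1 := by rw [h]; group)
    · exact hxw (by
        calc x = g * (g⁻¹ * x * g) * g⁻¹ := by group
          _ = w := by rw [h, hg])
  · rw [← S.pr_sq _ hq, zp_zero]
    calc g⁻¹ * x * g * (g⁻¹ * x * g) = g⁻¹ * (x * x) * g := by group
      _ = 1 := by rw [h2]; group

theorem sq_cases {x : G} (hx : x ∈ oc w) : x * x = 1 ∨ x * x = w := by
  obtain ⟨g, hg⟩ := F.conj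
  have hq : g⁻¹ * x * g ∈ oc z := by
    have h1 := conj_mem_oc (g := g⁻¹) hx
    rwa [show g⁻¹ * w * g⁻¹⁻¹ = z by rw [← hg]; group, inv_inv] at h1
  have h := S.pr_sq _ hq
  have e : x * x = g * zp z (qP 4 (S.pr (g⁻¹ * x * g))) * g⁻¹ := by rw [← h]; group
  rcases zmod_cases (qP 4 (S.pr (g⁻¹ * x * g))) with e' | e'
  · exact Or.inl (by rw [e, e', zp_zero]; group)
  · exact Or.inr (by rw [e, e', zp_one, hg])

end CoOne

end Cfsg.Agent.CoOneType
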