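import Cfsg.Agent.CoOneType.Fix

/-!
Orders of the centralisers of the standard involutions in the centraliser of `z` and `w`.
-/

set_option autoImplicit false

open Cfsg Cfsg.Agent.ThreeTrans.OrthCohom Cfsg.Agent.Classical.Quad QuadraticMap Cfsg.Agent.LargeExtra

namespace Cfsg.Agent.CoOneType

/-- The codes of vector pairs in the orbit of a standard pair. -/
def pairOK (k : Bool) (v u : ℕ) : Bool :=
  if k then qn v && qn u && Bn v u
  else !qn v && !qn u && !Bn v u && v != 0 && u != 0 && v != u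

theorem pair_card : ∀ k : Bool,
    Fintype.card {p : Fin 64 × Fin 64 // pairOK k (wc p.1.val) (wc p.2.val) = true} =
      if k then 336 else 630 := by decide +kernel

theorem sing_card : Fintype.card {v : Fin 256 // v.val ≠ 0 ∧ qn v.val = false} = 135 := by
  decide +kernel

theorem wc_inj : ∀ i j : Fin 64, (wc i.val = wc j.val ∨ wc i.val = wc j.val ^^^ 1) → i = j := by
  decide +kernel

theorem wc_one : ∀ i : Fin 64, wc i.val ≠ 1 := by decide +kernel

theorem pair_rep : ∀ k : Bool, pairOK k (repV k) (repU k) = true := by decide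

variable {G : Type*} [Group G] [Finite G]

/-- Orbit counting for conjugation. -/
theorem card_conj_orbit (K : Subgroup G) (x : G) (O : Set G)
    (hO : ∀ y, y ∈ O ↔ ∃ c ∈ K, c * x * c⁻¹ = y) :
    Nat.card K = Nat.card O * Nat.card ↥(K ⊓ Subgroup.centralizer ({x} : Set G)) := by
  classical
  let rep : O → K := fun y => ⟨((hO y.1).1 y.2).choose, ((hO y.1).1 y.2).choose_spec.1⟩
  have hrep : ∀ y : O, (rep y : G) * x * (rep y : G)⁻¹ = y.1 := fun y =>
    ((hO y.1).1 y.2).choose_spec.2
  let f : K → O := fun c => ⟨c.1 * x * c.1⁻¹, (hO _).2 ⟨c.1, c.2, rfl⟩⟩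
  rw [← Nat.card_prod]
  refine Nat.card_congr
    { toFun := fun c => (f c, ⟨(rep (f c) : G)⁻¹ * c.1, K.mul_mem (K.inv_mem (rep _).2) c.2,
        Subgroup.mem_centralizer_singleton_iff.2 ?_⟩)
      invFun := fun p => ⟨(rep p.1 : G) * p.2.1, mul_mem (rep p.1).2 p.2.2.1⟩
      left_inv := fun c => Subtype.ext (mul_inv_cancel_left _ _)
      right_inv := fun p => ?_ }
  · have h := hrep (f c)
    set r : G := (rep (f c) : G)
    have h' : r * x * r⁻¹ = c.1 * x * c.1⁻¹ := h
    calc r⁻¹ * c.1 * x = r⁻¹ * (c.1 * x * c.1⁻¹) * c.1 := by group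
      _ = x * (r⁻¹ * c.1) := by rw [← h']; group
  · have hf : f ⟨(rep p.1 : G) * p.2.1, mul_mem (rep p.1).2 p.2.2.1⟩ = p.1 := by
      refine Subtype.ext ?_
      show (rep p.1 : G) * p.2.1 * x * ((rep p.1 : G) * p.2.1)⁻¹ = p.1.1
      calc (rep p.1 : G) * p.2.1 * x * ((rep p.1 : G) * p.2.1)⁻¹
          = (rep p.1 : G) * (p.2.1 * x) * (p.2.1)⁻¹ * (rep p.1 : G)⁻¹ := by group
        _ = p.1.1 := by
          rw [Subgroup.mem_centralizer_singleton_iff.1 p.2.2.2, ← hrep p.1]; group
    refine Prod.ext hf (Subtype.ext ?_)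
    show (rep (f ⟨(rep p.1 : G) * p.2.1, _⟩) : G)⁻¹ * ((rep p.1 : G) * p.2.1) = p.2.1
    rw [hf, inv_mul_cancel_left]

namespace CoOne

variable {z : G} {S : CoOne z} {w : G} (F : S.Fr w)
include F

/-- The common centraliser of the two base involutions. -/
def Lz (z w : G) : Subgroup G :=
  Subgroup.centralizer ({z} : Set G) ⊓ Subgroup.centralizer ({w} : Set G)

omit F in
theorem mem_Lz {c : G} : c ∈ Lz z w ↔ c * z = z * c ∧ c * w = w * c :=
  and_congr Subgroup.mem_centralizer_singleton_iff Subgroup.mem_centralizer_singleton_iff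

theorem card_Lz : Nat.card ↥(Lz z w) = 330301440 := by
  classical
  let Orb : Set G := {a | a ∈ oc z ∧ S.pr a ≠ 0 ∧ qP 4 (S.pr a) = 0}
  have hw0 : S.pr w ≠ 0 ∧ qP 4 (S.pr w) = 0 := by
    rw [F.pr_eq]
    exact ⟨fun e => absurd (dc_inj (by norm_num) (by norm_num) (e.trans dc_zero.symm)) (by norm_num), q_e⟩
  have hO : ∀ y, y ∈ Orb ↔ ∃ c ∈ Subgroup.centralizer ({z} : Set G), c * w * c⁻¹ = y := by
    intro y
    constructor
    · rintro ⟨hy, h0, hq⟩
      obtain ⟨r, hr, hre⟩ := move_e h0 hq
      obtain ⟨c, hc, rfl⟩ := S.act_surj r hr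
      rcases S.pr_eq F.mem (S.nrm hc hy) (by rw [F.pr_eq, S.act_spec c hc y hy, hre]) with e | e
      · exact ⟨c⁻¹, Subgroup.mem_centralizer_singleton_iff.2 (Commute.inv_left hc).eq, by
          rw [← e]; group⟩
      · obtain ⟨m, hm, hmw⟩ := S.sett.exists_mover F.mem (wne F) (w_ne_z F)
        refine ⟨c⁻¹ * m, Subgroup.mem_centralizer_singleton_iff.2
          (Commute.mul_left (Commute.inv_left hc) (S.comm hm)).eq, ?_⟩
        calc c⁻¹ * m * w * (c⁻¹ * m)⁻¹ = c⁻¹ * (m * w * m⁻¹) * c := by group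
          _ = y := by rw [hmw, ← e]; group
    · rintro ⟨c, hc, rfl⟩
      have hc' := Subgroup.mem_centralizer_singleton_iff.1 hc
      refine ⟨S.nrm hc' F.mem, ?_, ?_⟩
      · rw [S.act_spec c hc' w F.mem]
        exact fun e => hw0.1 ((S.act c).1.map_eq_zero_iff.1 e)
      · rw [S.act_spec c hc' w F.mem, (S.act c).2, hw0.2]
  have hcard : Nat.card Orb = 270 := by
    have hsel : ∀ v : V, ∃ a, a ∈ oc z ∧ S.pr a = v := fun v => by
      obtain ⟨a, ha, e⟩ := S.pr_surj v
      exact ⟨a, ha, e⟩
    choose a ha hpa using hsel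
    let f : {v : Fin 256 // v.val ≠ 0 ∧ qn v.val = false} × ZMod 2 → Orb := fun p =>
      ⟨a (dc p.1.1.val) * zp z p.2, mul_mem (ha _) (S.zp_mem _), by
        rw [S.pr_mul _ (ha _) _ (S.zp_mem _), hpa, S.pr_zp, add_zero]
        exact fun e => p.1.2.1 (dc_inj p.1.1.isLt (by norm_num) (e.trans dc_zero.symm)), by
        rw [S.pr_mul _ (ha _) _ (S.zp_mem _), hpa, S.pr_zp, add_zero, q_dc p.1.1.isLt, p.1.2.2]; rfl⟩
    have hf : Function.Bijective f := by
      refine ⟨fun p q h => ?_, fun y => ?_⟩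
      · have h' : a (dc p.1.1.val) * zp z p.2 = a (dc q.1.1.val) * zp z q.2 := congrArg Subtype.val h
        have h1 := congrArg S.pr h'
        rw [S.pr_mul _ (ha _) _ (S.zp_mem _), hpa, S.pr_zp, add_zero, S.pr_mul _ (ha _) _ (S.zp_mem _),
          hpa, S.pr_zp, add_zero] at h1
        have h2 : p.1.1 = q.1.1 := Fin.ext (dc_inj p.1.1.isLt q.1.1.isLt h1)
        rw [h2] at h'
        exact Prod.ext (Subtype.ext h2) (zp_inj S.zne (mul_left_cancel h'))
      · obtain ⟨y, hy, h0, hq⟩ := y
        refine ⟨(⟨cd (S.pr y), code_ne (by rw [dc_zero]; exact h0), code_qn hq⟩,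
          if y = a (dc (cd (S.pr y)).val) then 0 else 1), Subtype.ext ?_⟩
        show a (dc (cd (S.pr y)).val) * zp z _ = y
        split_ifs with he
        · rw [zp_zero, mul_one]; exact he.symm
        · rcases S.pr_eq (ha _) hy ((hpa _).trans (dc_cd _)) with e | e
          · exact absurd e he
          · rw [zp_one]; exact e.symm
    rw [← Nat.card_eq_of_bijective f hf, Nat.card_prod, Nat.card_eq_fintype_card, sing_card,
      Nat.card_zmod]
  have := card_conj_orbit _ w Orb hO
  rw [S.cent_card, hcard] at this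
  show Nat.card ↥(Subgroup.centralizer ({z} : Set G) ⊓ Subgroup.centralizer ({w} : Set G)) = _
  omega

theorem T_inj {t : G} {v u v' u' : V} (hv : Bp v (dc 1) = 0) (hu : Bp u (dc 1) = 0)
    (hv' : Bp v' (dc 1) = 0) (hu' : Bp u' (dc 1) = 0) (h : InT S w t v u) (h' : InT S w t v' u') :
    (u' = u ∨ u' = u + dc 1) ∧ (v' = v ∨ v' = v + dc 1) := by
  have hA := (T_basic F hv hu h).2.2.1
  have hA' := (T_basic F hv' hu' h').2.2.1
  have hU : u' = u ∨ u' = u + dc 1 := by
    rcases sg_inj (v := u + u') (by rw [Bp_add_left, hu, hu', add_zero]) (fun x => by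
      rw [← sg_comp hu hu', ← hA', hA, sg_invol hu]) with e | e
    · exact Or.inl (v_eq_of_add e).symm
    · exact Or.inr (by rw [← e, ← add_assoc, v_add_self, zero_add])
  refine ⟨hU, ?_⟩
  obtain ⟨a, b, ha, hpa, hb, hbz, -, rfl⟩ := h
  obtain ⟨a', b', ha', hpa', hb', hbz', -, e⟩ := h'
  have hm : a'⁻¹ * a = b' * b⁻¹ := by
    rw [eq_mul_inv_iff_mul_eq, mul_assoc, e, inv_mul_cancel_left]
  obtain ⟨i, j, hk⟩ := k_cases F (mul_mem (inv_mem ha') ha) (hm ▸ mul_mem hb' (inv_mem hb))
  have hp := congrArg S.pr hk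
  rw [(k_spec F i j).2.2, S.pr_mul _ (inv_mem ha') _ ha, S.pr_inv ha'] at hp
  have hd : v' = v ∨ v' = v + dc 1 := by
    have hp' : S.pr a' + S.pr a = 0 ∨ S.pr a' + S.pr a = dc 1 := by
      rcases zmod_cases i with rfl | rfl
      · exact Or.inl (hp.trans (zero_smul _ _))
      · exact Or.inr (hp.trans (one_smul _ _))
    have hc : v' + v = 0 ∨ v' + v = dc 1 := by
      rcases hpa with e1 | e1 <;> rcases hpa' with e2 | e2 <;> rw [e1, e2] at hp'
      · exact hp'
      · rw [add_right_comm] at hp'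
        rcases hp' with e3 | e3
        · exact Or.inr (v_eq_of_add e3)
        · exact Or.inl (add_eq_right.1 e3)
      · rw [← add_assoc] at hp'
        rcases hp' with e3 | e3
        · exact Or.inr (v_eq_of_add e3)
        · exact Or.inl (add_eq_right.1 e3)
      · rw [show v' + dc 1 + (v + dc 1) = v' + v + (dc 1 + dc 1) by abel, v_add_self, add_zero] at hp'
        exact hp'
    rcases hc with e1 | e1
    · exact Or.inl (v_eq_of_add e1)
    · exact Or.inr (by rw [← e1, add_comm v' v, ← add_assoc, v_add_self, zero_add])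
  exact hd

theorem card_stab (k : Bool) {t : G} (h : InT S w t (dc (repV k)) (dc (repU k))) :
    Nat.card ↥(Lz z w ⊓ Subgroup.centralizer ({t} : Set G)) = if k then 245760 else 131072 := by
  classical
  obtain ⟨lv, lu, -, hv1, hu1, hu0, hue, -⟩ := rep_facts k
  set P := {p : Fin 64 × Fin 64 // pairOK k (wc p.1.val) (wc p.2.val) = true}
  have hP1 : ∀ i : Fin 64, Bp (dc (wc i.val)) (dc 1) = 0 := fun i => by
    rw [Bp_dc (wc_lt i).1 (by norm_num), (wc_lt i).2]; rfl
  let Orb : Set G := {y | ∃ p : P, InT S w y (dc (wc p.1.1.val)) (dc (wc p.1.2.val))}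
  have hO : ∀ y, y ∈ Orb ↔ ∃ c ∈ Lz z w, c * t * c⁻¹ = y := by
    intro y
    constructor
    · rintro ⟨⟨⟨i, j⟩, hp⟩, hy⟩
      -- move the pair to the standard one
      obtain ⟨g, hg, he, hgv, hgu⟩ : ∃ g : O, dsign g = 1 ∧ g.1 (dc 1) = dc 1 ∧
          (dc (repV k) = g.1 (dc (wc i.val)) ∨ dc (repV k) = g.1 (dc (wc i.val)) + dc 1) ∧
          (dc (repU k) = g.1 (dc (wc j.val)) ∨ dc (repU k) = g.1 (dc (wc j.val)) + dc 1) := by
        have hi := (wc_lt i).1
        have hj := (wc_lt j).1
        have hflip : ∀ {a b : V}, (a = b ∨ a = b + dc 1) → (b = a ∨ b = a + dc 1) := by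
          rintro a b (rfl | rfl)
          · exact Or.inl rfl
          · exact Or.inr (add_cancel_pair _ _).symm
        have hsurv : ∀ {g : O}, g.1 (dc 1) = dc 1 → Bp (g.1 (dc (wc i.val))) (dc 1) = 0 := fun {g} he => by
          rw [← he, polar_g, hP1]
        rcases k with _ | _
        · have hp' : qn (wc i.val) = false ∧ qn (wc j.val) = false ∧ Bn (wc i.val) (wc j.val) = false ∧
              wc i.val ≠ 0 ∧ wc j.val ≠ 0 ∧ wc i.val ≠ wc j.val := by
            simpa [pairOK, and_assoc] using hp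
          obtain ⟨q1, q2, hB, i0, j0, hij⟩ := hp'
          obtain ⟨g, hg, he, hgu⟩ := move_two (hP1 j) (by rw [q_dc hj, q2]; rfl)
            (fun e => j0 (dc_inj hj (by norm_num) (e.trans dc_zero.symm)))
            (fun e => wc_one j (dc_inj hj (by norm_num) e))
          have hne : ∀ x, g.1 (dc (wc i.val)) = g.1 x → dc (wc i.val) = x := fun x e => g.1.injective e
          have hB' : Bp (g.1 (dc (wc i.val))) (dc 2) = 0 := by
            rcases hflip hgu with e | e <;> rw [e]
            · rw [polar_g, Bp_dc hi hj, hB]; rfl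
            · rw [Bp_add_right, polar_g, Bp_dc hi hj, hB, hsurv he]; rfl
          have hd : ∀ m : ℕ, m < 256 → dc (wc i.val) = dc m → wc i.val = m := fun m hm e => dc_inj hi hm e
          obtain ⟨g', hg', he', hg2, hgv⟩ := move_four (hsurv he) hB' (by rw [g.2, q_dc hi, q1]; rfl)
            ⟨fun e => i0 (hd 0 (by norm_num) (by rw [dc_zero]; exact g.1.map_eq_zero_iff.1 e)),
             fun e => wc_one i (hd 1 (by norm_num) (hne _ (e.trans he.symm))),
             fun e => by
              rcases hflip hgu with e' | e'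
              · exact hij (hd _ hj (hne _ (e.trans e')))
              · rw [e', ← he, ← map_add, ← dc_xor] at e
                exact absurd (wc_inj i j (Or.inr (hd _ (xor_lt hj (by norm_num)) (hne _ e)))) fun e2 =>
                  hij (by rw [e2]),
             fun e => by
              rcases hflip hgu with e' | e'
              · rw [e', ← he, ← map_add, ← dc_xor] at e
                exact absurd (wc_inj i j (Or.inr (hd _ (xor_lt hj (by norm_num)) (hne _ e)))) fun e2 =>
                  hij (by rw [e2])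
              · rw [e', add_cancel_pair] at e
                exact hij (hd _ hj (hne _ e))⟩
          refine ⟨g' * g, ?_, by rw [oG_mul_apply, he, he'], ?_, ?_⟩
          · rw [dsign_mul nondegP4 (Or.inr (by simp)), hg, hg', one_mul]
          · rw [oG_mul_apply]; exact hflip hgv
          · rw [oG_mul_apply]
            rcases hgu with e | e <;> rw [e]
            · exact Or.inl hg2.symm
            · exact Or.inr (by rw [map_add, hg2, he', add_cancel_pair]; rfl)
        · have hp' : qn (wc i.val) = true ∧ qn (wc j.val) = true ∧ Bn (wc i.val) (wc j.val) = true := by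
            simpa [pairOK, and_assoc] using hp
          obtain ⟨q1, q2, hB⟩ := hp'
          obtain ⟨g, hg, he, hgu⟩ := move_ns (hP1 j) (by rw [q_dc hj, q2]; rfl)
          have hB' : Bp (g.1 (dc (wc i.val))) (dc 34) = 1 := by
            rcases hflip hgu with e | e <;> rw [e]
            · rw [polar_g, Bp_dc hi hj, hB]; rfl
            · rw [Bp_add_right, polar_g, Bp_dc hi hj, hB, hsurv he]; rfl
          obtain ⟨g', hg', he', hg2, hgv⟩ := move_seventy (hsurv he) hB' (by rw [g.2, q_dc hi, q1]; rfl)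
          refine ⟨g' * g, ?_, by rw [oG_mul_apply, he, he'], ?_, ?_⟩
          · rw [dsign_mul nondegP4 (Or.inr (by simp)), hg, hg', one_mul]
          · rw [oG_mul_apply]; exact hflip hgv
          · rw [oG_mul_apply]
            rcases hgu with e | e <;> rw [e]
            · exact Or.inl hg2.symm
            · exact Or.inr (by rw [map_add, hg2, he', add_cancel_pair]; rfl)
      obtain ⟨c, hcz, hcw, rfl⟩ := exists_stab F g hg he
      have hu1' : Bp ((S.act c).1 (dc (wc j.val))) (dc 1) = 0 := by rw [← he, polar_g, hP1]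
      have hy' := T_congr hu1' hgv hgu (T_conj F hy hcz hcw)
      obtain ⟨r, hr, hrw, hrt⟩ := T_isConj F (dc_perp _ lv hv1) (dc_perp _ lu hu1) h hy' fun a b => by
        rcases k with _ | _
        exacts [(shift_reps a b).1, (shift_reps a b).2]
      refine ⟨c⁻¹ * r, mem_Lz.2 ⟨(Commute.mul_left (Commute.inv_left hcz) (S.comm hr)).eq,
        (Commute.mul_left (Commute.inv_left hcw) hrw).eq⟩, ?_⟩
      calc c⁻¹ * r * t * (c⁻¹ * r)⁻¹ = c⁻¹ * (r * t * r⁻¹) * c := by group
        _ = y := by rw [hrt]; group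
    · rintro ⟨c, hc, rfl⟩
      obtain ⟨hcz, hcw⟩ := mem_Lz.1 hc
      have hy := T_conj F h hcz hcw
      have he : (S.act c).1 (dc 1) = dc 1 := by
        rw [← F.pr_eq, ← S.act_spec c hcz w F.mem, mul_inv_eq_of_eq_mul hcw]
      set v' := (S.act c).1 (dc (repV k)) with hv'd
      set u' := (S.act c).1 (dc (repU k)) with hu'd
      have hv' : Bp v' (dc 1) = 0 := by rw [hv'd, ← he, polar_g, dc_perp _ lv hv1]
      have hu' : Bp u' (dc 1) = 0 := by rw [hu'd, ← he, polar_g, dc_perp _ lu hu1]
      obtain ⟨i, hi⟩ := wc_surj (cd v') (code_Bn (by norm_num) hv')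
      obtain ⟨j, hj⟩ := wc_surj (cd u') (code_Bn (by norm_num) hu')
      have hcc : ∀ {x : V} {n : Fin 64}, ((cd x).val = wc n.val ∨ (cd x).val = wc n.val ^^^ 1) →
          (dc (wc n.val) = x ∨ dc (wc n.val) = x + dc 1) := by
        intro x n hn
        rw [← dc_cd x]
        rcases hn with e | e <;> rw [e]
        · exact Or.inl rfl
        · exact Or.inr (by rw [dc_xor, add_cancel_pair])
      have hiv := hcc hi
      have hju := hcc hj
      have hq := (shift_facts hv' hu' hiv).2.1
      have hqi : qn (wc i.val) = qn (repV k) := bz_inj _ _ (by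
        rw [← q_dc (wc_lt i).1, hq, hv'd, (S.act c).2, q_dc lv])
      have hqj : qn (wc j.val) = qn (repU k) := bz_inj _ _ (by
        rw [← q_dc (wc_lt j).1, (shift_facts hu' hv' hju).2.1, hu'd, (S.act c).2, q_dc lu])
      have hBij : Bn (wc i.val) (wc j.val) = Bn (repV k) (repU k) := bz_inj _ _ (by
        rw [← Bp_dc (wc_lt i).1 (wc_lt j).1, (shift_facts hv' (hP1 j) hiv).2.2.1,
          (shift_facts hu' hv' hju).2.2.2, hv'd, hu'd, polar_g, Bp_dc lv lu])
      have hback : ∀ {m : ℕ} {n : Fin 64}, m < 256 →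
          (dc (wc n.val) = (S.act c).1 (dc m) ∨ dc (wc n.val) = (S.act c).1 (dc m) + dc 1) →
          ∀ x, x < 256 → (S.act c).1 (dc x) = dc (wc n.val) → m = x ∨ m = x ^^^ 1 := by
        intro m n hm hh x hx hfx
        rcases hh with e | e <;> rw [e] at hfx
        · exact Or.inl (dc_inj hm hx ((S.act c).1.injective hfx.symm))
        · refine Or.inr (dc_inj hm (xor_lt hx (by norm_num)) ((S.act c).1.injective ?_))
          rw [dc_xor, map_add, he, hfx, add_cancel_pair]
      have hv01 : repV k ≠ 0 ∧ repV k ≠ 0 ^^^ 1 ∧ repV k ≠ repU k ∧ repV k ≠ repU k ^^^ 1 := by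
        rcases k with _ | _ <;> decide
      have hi0 : wc i.val ≠ 0 := fun e => by
        rcases hback lv hiv 0 (by norm_num) (by rw [e, dc_zero, map_zero]) with e' | e'
        exacts [hv01.1 e', hv01.2.1 e']
      have hj0 : wc j.val ≠ 0 := fun e => by
        rcases hback lu hju 0 (by norm_num) (by rw [e, dc_zero, map_zero]) with e' | e'
        exacts [hu0 e', hue e']
      have hij : wc i.val ≠ wc j.val := fun e => by
        rcases hju with e' | e'
        · rcases hback lv hiv _ lu (by rw [e, e']) with h' | h'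
          exacts [hv01.2.2.1 h', hv01.2.2.2 h']
        · rcases hback lv hiv _ (xor_lt lu (by norm_num : (1 : ℕ) < 256))
            (by rw [e, e', dc_xor, map_add, he]) with h' | h'
          · exact hv01.2.2.2 h'
          · exact hv01.2.2.1 (by rw [h', Nat.xor_assoc, Nat.xor_self, Nat.xor_zero])
      have hok : pairOK k (wc i.val) (wc j.val) = true := by
        have hr := pair_rep k
        unfold pairOK at hr ⊢
        rw [hqi, hqj, hBij]
        rcases k with _ | _
        · simp [bne_iff_ne] at hr ⊢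
          exact ⟨⟨⟨hr.1.1.1, hi0⟩, hj0⟩, hij⟩
        · exact hr
      exact ⟨⟨(i, j), hok⟩, T_congr hu' hiv hju hy⟩
  have hcard : Nat.card Orb = Nat.card P * 4 := by
    choose tp htp using fun p : P => T_exists F (v := dc (wc p.1.1.val)) (hP1 p.1.2)
    let f : P × (ZMod 2 × ZMod 2) → Orb := fun q =>
      ⟨tp q.1 * (zp w q.2.1 * zp z q.2.2), q.1, T_mul_k F (htp q.1) _ _⟩
    have hf : Function.Bijective f := by
      refine ⟨fun p q e => ?_, fun ⟨y, p, hy⟩ => ?_⟩
      · have e' : tp p.1 * (zp w p.2.1 * zp z p.2.2) = tp q.1 * (zp w q.2.1 * zp z q.2.2) :=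
          congrArg Subtype.val e
        have h1 := T_mul_k F (htp p.1) p.2.1 p.2.2
        rw [e'] at h1
        obtain ⟨hu', hv'⟩ := T_inj F (hP1 _) (hP1 _) (hP1 _) (hP1 _) (T_mul_k F (htp q.1) q.2.1 q.2.2) h1
        have hcode : ∀ {i j : Fin 64}, (dc (wc i.val) = dc (wc j.val) ∨ dc (wc i.val) = dc (wc j.val) + dc 1) →
            i = j := fun {i j} he => wc_inj i j (he.imp (dc_inj (wc_lt i).1 (wc_lt j).1)
              fun e => dc_inj (wc_lt i).1 (xor_lt (wc_lt j).1 (by norm_num)) (e.trans (dc_xor _ _).symm))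
        have hp : p.1 = q.1 := Subtype.ext (Prod.ext (hcode hv') (hcode hu'))
        rw [hp] at e'
        obtain ⟨a, b⟩ := k_inj F (mul_left_cancel e')
        exact Prod.ext hp (Prod.ext a b)
      · obtain ⟨a, b, e⟩ := T_same F (hP1 _) (hP1 _) (htp p) hy
        exact ⟨(p, (a, b)), Subtype.ext e.symm⟩
    rw [← Nat.card_eq_of_bijective f hf, Nat.card_prod, Nat.card_prod, Nat.card_zmod]
  have hmain := card_conj_orbit _ t Orb hO
  rw [card_Lz F, hcard, Nat.card_eq_fintype_card (α := P), pair_card k] at hmain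
  rcases k with _ | _
  · show _ = 131072
    simp only [Bool.false_eq_true, if_false] at hmain
    omega
  · show _ = 245760
    simp only [if_true] at hmain
    omega

end CoOne

end Cfsg.Agent.CoOneType
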