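import Cfsg.Agent.CoOneType.Orbit

/-!
The two standard involutions have centralisers with different `2`-parts.
-/

set_option autoImplicit false

open Cfsg Cfsg.Agent.ThreeTrans.OrthCohom Cfsg.Agent.Classical.Quad QuadraticMap Cfsg.Agent.LargeExtra

namespace Cfsg.Agent.CoOneType

theorem swap_code : g2n 34 136 1 = 1 ∧ g2n 34 136 34 = 34 ∧ g2n 34 136 70 = 100 ∧ (100 : ℕ) ^^^ 34 = 70 ∧
    qn 34 = true ∧ qn 136 = true := by decide

theorem perp_H_code : ∀ d : Fin 256, (∀ h ∈ [1, 8, 128, 38, 68], Bn h d.val = false) →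
    (qn d.val = false → d.val = 0 ∨ d.val = 1) := by decide +kernel

theorem range34_code : ∀ a : Fin 256, qn (sgn 34 a.val ^^^ a.val) = false →
    sgn 34 a.val ^^^ a.val = 0 ∨ sgn 34 a.val ^^^ a.val = 1 := by decide +kernel

variable {G : Type*} [Group G] [Finite G]

namespace CoOne

variable {z : G} {S : CoOne z} {w : G} (F : S.Fr w)
include F

omit F in
theorem singular_invol {a : G} (ha : a ∈ oc z) (h2 : a * a = 1) : qP 4 (S.pr a) = 0 :=
  zp_inj S.zne (by rw [← S.pr_sq a ha, h2, zp_zero])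

theorem exists_swapper {t : G} (h : InT S w t (dc 70) (dc 34)) :
    ∃ c, c * z = z * c ∧ c * t = t * c ∧ c * w * c⁻¹ = w * z := by
  obtain ⟨s1, s34, s70, sx, q34, q136⟩ := swap_code
  have p70 := dc_perp 70 (by norm_num) rfl
  have p34 := dc_perp 34 (by norm_num) rfl
  have p100 := dc_perp 100 (by norm_num) rfl
  obtain ⟨g, hg, hgx⟩ := exists_rrn (a := 34) (b := 136) (by norm_num) (by norm_num) q34 q136
  obtain ⟨c, hcz, hcw, rfl⟩ := exists_stab F g hg (by rw [hgx 1 (by norm_num), s1])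
  obtain ⟨y, hy, hye⟩ := S.pr_surj (dc 16)
  have h1 := T_conj F h hcz hcw
  rw [hgx 70 (by norm_num), s70, hgx 34 (by norm_num), s34] at h1
  have h2 := T_conj_y F p100 p34 h1 hy hye
  rw [← dc_xor, sx] at h2
  obtain ⟨r, hr, hrw, hrt⟩ := T_isConj F p70 p34 h2 h fun i j => (shift_reps i j).2
  have hyw := k_conj_y F hy (by rw [hye, B16e])
  refine ⟨r * y * c, (Commute.mul_left (Commute.mul_left (S.comm hr) (S.comm hy)) hcz).eq, ?_, ?_⟩
  · refine mul_inv_eq_iff_eq_mul.1 ?_
    calc r * y * c * t * (r * y * c)⁻¹ = r * (y * (c * t * c⁻¹) * y⁻¹) * r⁻¹ := by group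
      _ = t := hrt
  · calc r * y * c * w * (r * y * c)⁻¹ = r * (y * (c * w * c⁻¹) * y⁻¹) * r⁻¹ := by group
      _ = r * (w * z) * r⁻¹ := by rw [mul_inv_eq_of_eq_mul hcw, hyw]
      _ = w * z := mul_inv_eq_of_eq_mul (Commute.mul_right hrw (S.comm hr))

/-- The centraliser of `t` in that of `z`. -/
theorem card_M {t : G} (h : InT S w t (dc 70) (dc 34)) :
    Nat.card ↥(Subgroup.centralizer ({z} : Set G) ⊓ Subgroup.centralizer ({t} : Set G)) = 491520 := by
  classical
  obtain ⟨htz, htw, hA, -⟩ := T_basic F (dc_perp 70 (by norm_num) rfl) (dc_perp 34 (by norm_num) rfl) h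
  obtain ⟨h0, h0z, h0t, h0w⟩ := exists_swapper F h
  set M := Subgroup.centralizer ({z} : Set G) ⊓ Subgroup.centralizer ({t} : Set G) with hM
  have hmem : ∀ c, c ∈ M ↔ c * z = z * c ∧ c * t = t * c := fun c =>
    and_congr Subgroup.mem_centralizer_singleton_iff Subgroup.mem_centralizer_singleton_iff
  let Orb : Set G := {w, w * z}
  have hO : ∀ y, y ∈ Orb ↔ ∃ c ∈ M, c * w * c⁻¹ = y := by
    intro y
    constructor
    · rintro (rfl | rfl)
      · exact ⟨1, one_mem _, by group⟩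
      · exact ⟨h0, (hmem _).2 ⟨h0z, h0t⟩, h0w⟩
    · rintro ⟨c, hc, rfl⟩
      obtain ⟨hcz, hct⟩ := (hmem _).1 hc
      have hm := S.nrm hcz F.mem
      have hp : S.pr (c * w * c⁻¹) = (S.act c).1 (dc 1) := by rw [S.act_spec c hcz w F.mem, F.pr_eq]
      have hx : dc 1 = sg (dc 34) (dc 2) + dc 2 := by
        rw [sg_dc (by norm_num) (by norm_num), ← dc_xor]
        rfl
      have hcomm : ∀ x, (S.act c).1 (sg (dc 34) x) = sg (dc 34) ((S.act c).1 x) := fun x => by
        rw [← hA, ← hA, ← oG_mul_apply, ← oG_mul_apply, ← S.act_mul hcz htz, hct, S.act_mul htz hcz]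
      have hq : qP 4 ((S.act c).1 (dc 1)) = 0 := by rw [(S.act c).2, q_e]
      have hne : (S.act c).1 (dc 1) ≠ 0 := fun e =>
        absurd (dc_inj (by norm_num) (by norm_num) (((S.act c).1.map_eq_zero_iff.1 e).trans dc_zero.symm))
          (by norm_num)
      have e1 : (S.act c).1 (dc 1) = dc 1 := by
        rw [hx, map_add, hcomm] at hq hne
        conv_lhs => rw [hx, map_add, hcomm]
        set a := cd ((S.act c).1 (dc 2))
        have ha : (S.act c).1 (dc 2) = dc a.val := (dc_cd _).symm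
        have hl : sgn 34 a.val < 256 := by
          unfold sgn
          refine xor_lt (xor_lt a.isLt (by split_ifs <;> norm_num)) ?_
          split_ifs <;> norm_num
        rw [ha, sg_dc (by norm_num) a.isLt, ← dc_xor] at hq hne ⊢
        rw [q_dc (xor_lt hl a.isLt), bz_eq_zero] at hq
        rcases range34_code a hq with e | e <;> rw [e] at hne ⊢
        exact absurd dc_zero hne
      rw [e1] at hp
      rcases S.pr_eq F.mem hm (F.pr_eq.trans hp.symm) with e | e
      · exact Or.inl e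
      · exact Or.inr e
  have hcard : Nat.card Orb = 2 := by
    rw [Nat.card_coe_set_eq]
    exact Set.ncard_pair fun e => S.zne (left_eq_mul.1 e)
  have hsame : M ⊓ Subgroup.centralizer ({w} : Set G) =
      Lz z w ⊓ Subgroup.centralizer ({t} : Set G) := by
    rw [hM, Lz, inf_right_comm]
  rw [card_conj_orbit M w Orb hO, hcard, hsame, card_stab F true h]
  rfl

/-- No other conjugate of `z` centralises a large part of the centraliser. -/
theorem eq_z {t z' : G} (h : InT S w t (dc 70) (dc 34)) (hzz : IsConj z z') (hz' : z' * z = z * z')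
    (hQ : ∀ a ∈ oc z, a * t = t * a → a * z' = z' * a) {h' : G} (hw' : h' * w ≠ w * h')
    (hhz : h' * z = z * h') (hc' : h' * z' = z' * h') : z' = z := by
  classical
  have hH := (rep_facts true).2.2.2.2.2.2.2.2.2.2
  have hz2 : z' * z' = 1 := by
    obtain ⟨g, rfl⟩ := isConj_iff.1 hzz
    calc g * z * g⁻¹ * (g * z * g⁻¹) = g * (z * z) * g⁻¹ := by group
      _ = 1 := by rw [S.zz]; group
  have hw : z' * w = w * z' := by
    refine (hQ w F.mem ?_).symm
    exact ((T_basic F (dc_perp 70 (by norm_num) rfl) (dc_perp 34 (by norm_num) rfl) h).2.1).symm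
  have hcomm : ∀ j ∈ repH true, ∃ a ∈ oc z, S.pr a = dc j ∧ a * z' = z' * a := by
    intro j hj
    obtain ⟨lj, hj1, hju, hjv⟩ := hH j hj
    obtain ⟨a, ha, hae⟩ := S.pr_surj (dc j)
    refine ⟨a, ha, hae, hQ a ha ?_⟩
    have hsh := T_shift F (dc_perp 70 (by norm_num) rfl) (dc_perp 34 (by norm_num) rfl) h ha
      (by rw [hae]; exact dc_perp _ lj hj1)
    rw [hae, show Bp (dc j) (dc 34) = 0 by
        rw [Bp_dc lj (by norm_num), show Bn j 34 = false from hju]; rfl,
      show Bp (dc j) (dc 70) = 0 by rw [Bp_dc lj (by norm_num), show Bn j 70 = false from hjv]; rfl,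
      add_zero, zp_zero, zp_zero, one_mul, mul_one] at hsh
    exact mul_inv_eq_iff_eq_mul.1 hsh
  have hperp : ∀ d : V, (∀ j ∈ repH true, Bp (dc j) d = 0) → qP 4 d = 0 → d = 0 ∨ d = dc 1 := by
    intro d hd hq
    rcases perp_H_code (cd d) (fun j hj => by
        rw [← bz_eq_zero, ← Bp_dc (hH j hj).1 (cd d).isLt, dc_cd]; exact hd j hj)
      (code_qn hq) with e | e
    · exact Or.inl (by rw [← dc_cd d, e, dc_zero])
    · exact Or.inr (by rw [← dc_cd d, e])
  by_cases hmem : z' ∈ oc z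
  · rcases hperp (S.pr z') (fun j hj => by
        obtain ⟨a, ha, hae, hc⟩ := hcomm j hj
        rw [← hae]; exact (S.commute_iff ha hmem).1 hc) (singular_invol hmem hz2) with e | e
    · rcases S.pr_ker _ hmem e with h1 | h1
      · obtain ⟨g, rfl⟩ := isConj_iff.1 hzz
        exact absurd (conj_eq_one_iff.1 h1) S.zne
      · exact h1
    · rcases S.pr_eq F.mem hmem (F.pr_eq.trans e.symm) with h1 | h1
      · exact absurd (h1 ▸ hc') hw'
      · refine absurd ?_ hw'
        rw [h1, ← mul_assoc, mul_assoc w z h', ← hhz, ← mul_assoc] at hc'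
        exact mul_right_cancel hc'
  exfalso
  set g := S.act z' with hgd
  have hfixH : ∀ j ∈ repH true, g.1 (dc j) = dc j := fun j hj => by
    obtain ⟨a, ha, hae, hc⟩ := hcomm j hj
    rw [← hae, hgd, ← S.act_spec z' hz' a ha, ← hc, mul_inv_cancel_right]
  have hrange : ∀ y, ∀ j ∈ repH true, Bp (dc j) (g.1 y + y) = 0 := fun y j hj => by
    have hh : Bp (dc j) (g.1 y) = Bp (dc j) y := by
      conv_lhs => rw [← hfixH j hj]
      exact polar_g g _ _
    rw [Bp_add_right, hh, two_zero]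
  have hgg : g * g = 1 := by rw [hgd, ← S.act_mul hz' hz', hz2, S.act_one]
  obtain ⟨p, hp0, hpq, hpfix, ⟨y, hy⟩, hpn⟩ :=
    exists_axis g hgg (fun e => hmem (S.act_ker z' hz' e)) (S.act_even z' hz')
  obtain rfl : p = dc 1 := (hperp p (fun j hj => hy ▸ hrange y j hj) hpq).resolve_left hp0
  have hge : g.1 (dc 1) = dc 1 := hfixH 1 (by simp [repH])
  obtain ⟨x, hx, hgx⟩ := exists_sg_of g hge fun u hu => hperp _ (hrange u) (hpn u hu)
  have hxH : ∀ j ∈ repH true, Bp (dc j) x = 0 := fun j hj => by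
    have e := hfixH j hj
    obtain ⟨lj, hj1, -⟩ := hH j hj
    rw [hgx, sg_perp (dc_perp _ lj hj1), add_eq_left] at e
    rcases zmod_cases (Bp (dc j) x) with e' | e'
    · exact e'
    · rw [e', one_smul] at e
      exact absurd (dc_inj (by norm_num) (by norm_num) (e.trans dc_zero.symm)) (by norm_num)
  have hqx : qP 4 x = 1 := (zmod_cases _).resolve_left fun hq => hmem (S.act_ker z' hz' (ext_oG fun u => by
    rw [← hgd, hgx, oG_one_apply]
    rcases hperp x hxH hq with rfl | rfl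
    · rw [sg_zero]
    · rw [sg_e]))
  obtain ⟨b, hb, hbz, hbA⟩ := exists_sg F hx
  have hbi := (Commute.inv_left hbz).eq
  have ha : z' * b⁻¹ ∈ oc z := S.act_ker _ (Commute.mul_left hz' hbi).eq (by
    rw [S.act_mul hz' hbi, S.act_inv hbz, ← hgd,
      ext_oG (g := g) (h := S.act b) (fun u => by rw [hgx, hbA]), mul_inv_cancel])
  set v := S.pr (z' * b⁻¹) with hvd
  have hv : Bp v (dc 1) = 0 :=
    perp_of_comm F ha (Commute.mul_left hw (Commute.inv_left (comm_w F hb))).eq
  have hT : InT S w z' v x := ⟨z' * b⁻¹, b, ha, Or.inl rfl, hb, hbz, hbA, by group⟩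
  obtain ⟨hqB, hqv⟩ := (T_invol F hv hx hT).1 hz2
  rw [hqx] at hqB
  rw [← hqB] at hqv
  obtain ⟨r, hr, he, hrx⟩ := move_ns hx hqx
  obtain ⟨c, hcz, hcw, rfl⟩ := exists_stab F r hr he
  have h1 := T_conj F hT hcz hcw
  have hv' : Bp ((S.act c).1 v) (dc 1) = 0 := by rw [← he, polar_g, hv]
  have hx' : Bp ((S.act c).1 x) (dc 1) = 0 := by rw [← he, polar_g, hx]
  have h34 : dc 34 = (S.act c).1 x ∨ dc 34 = (S.act c).1 x + dc 1 := by
    rcases hrx with e | e <;> rw [e]
    · exact Or.inl rfl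
    · exact Or.inr (add_cancel_pair _ _).symm
  have hB : Bp ((S.act c).1 v) (dc 34) = 1 := by
    rcases h34 with e | e <;> rw [e]
    · rw [polar_g, ← hqB]
    · rw [Bp_add_right, polar_g, ← hqB, hv', add_zero]
  have h2 := T_congr hx' (Or.inl rfl) h34 h1
  obtain ⟨r', hr', he', h34', hgv⟩ := move_seventy hv' hB (by rw [(S.act c).2, hqv])
  obtain ⟨d, hdz, hdw, rfl⟩ := exists_stab F r' hr' he'
  have h3 := T_conj F h2 hdz hdw
  rw [h34'] at h3
  have h4 : InT S w (d * (c * z' * c⁻¹) * d⁻¹) (dc 70) (dc 34) :=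
    T_congr (dc_perp 34 (by norm_num) rfl) (by
      rcases hgv with e | e <;> rw [e]
      · exact Or.inl rfl
      · exact Or.inr (add_cancel_pair _ _).symm) (Or.inl rfl) h3
  exact not_conj_z F true h4 (hzz.trans (isConj_iff.2 ⟨d * c, by group⟩))

/-- The order of the centraliser of the first standard involution. -/
theorem dvd_N {t : G} (h : InT S w t (dc 4) (dc 2)) :
    2 ^ 17 ∣ Nat.card ↥(Subgroup.centralizer ({t} : Set G)) := by
  have := Subgroup.card_dvd_of_le
    (inf_le_right : Lz z w ⊓ Subgroup.centralizer ({t} : Set G) ≤ _)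
  rwa [card_stab F false h] at this

/-- The order of the centraliser of the second standard involution. -/
theorem not_dvd_P {t : G} (h : InT S w t (dc 70) (dc 34)) :
    ¬ 2 ^ 16 ∣ Nat.card ↥(Subgroup.centralizer ({t} : Set G)) := by
  classical
  intro hdvd
  haveI : Fact (Nat.Prime 2) := ⟨Nat.prime_two⟩
  obtain ⟨htz, htw, -, -⟩ := T_basic F (dc_perp 70 (by norm_num) rfl) (dc_perp 34 (by norm_num) rfl) h
  set Ct := Subgroup.centralizer ({t} : Set G) with hCt
  set M := Subgroup.centralizer ({z} : Set G) ⊓ Ct with hM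
  have hMcard : Nat.card M = 491520 := card_M F h
  obtain ⟨H, hH⟩ := Sylow.exists_subgroup_card_pow_prime (G := ↥M) 2 (n := 15)
    (by rw [hMcard]; norm_num)
  set P : Subgroup G := H.map M.subtype with hP
  have hPcard : Nat.card P = 2 ^ 15 := by rw [hP, Subgroup.card_subtype, hH]
  have hPM : P ≤ M := Subgroup.map_subtype_le _
  have hmax : ∀ X : Subgroup G, IsPGroup 2 X → X ≤ M → P ≤ X → X = P := by
    intro X hX hXM hPX
    obtain ⟨n, hn⟩ := IsPGroup.iff_card.1 hX
    have hd := Subgroup.card_dvd_of_le hXM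
    rw [hn, hMcard] at hd
    refine (Subgroup.eq_of_le_of_card_ge hPX ?_).symm
    rw [hn, hPcard]
    refine Nat.pow_le_pow_right (by norm_num) ?_
    by_contra hh
    exact absurd ((pow_dvd_pow 2 (by omega : 16 ≤ n)).trans hd) (by norm_num)
  have hP2 : IsPGroup 2 P := IsPGroup.of_card hPcard
  have hQP : oc z ⊓ Ct ≤ P := by
    have hnorm : P ≤ Subgroup.normalizer (oc z ⊓ Ct : Subgroup G) := by
      intro p hp
      obtain ⟨hpz, hpt⟩ := hPM hp
      have key : ∀ c ∈ M, ∀ a ∈ oc z ⊓ Ct, c * a * c⁻¹ ∈ oc z ⊓ Ct := fun c hc a ha =>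
        ⟨oc_conj_mem hc.1 ha.1, Ct.mul_mem (Ct.mul_mem hc.2 ha.2) (Ct.inv_mem hc.2)⟩
      refine Subgroup.mem_normalizer_iff.2 fun a => ⟨fun ha => key p ⟨hpz, hpt⟩ a ha, fun ha => ?_⟩
      have := key p⁻¹ (M.inv_mem ⟨hpz, hpt⟩) _ ha
      rwa [show p⁻¹ * (p * a * p⁻¹) * p⁻¹⁻¹ = a by group] at this
    have hI : IsPGroup 2 ↥(oc z ⊓ Ct) := (oc_isPGroup z).to_le inf_le_left
    have hsup : IsPGroup 2 ↥(P ⊔ (oc z ⊓ Ct)) := hP2.to_sup_of_normal_right' hI hnorm
    have := hmax _ hsup (sup_le hPM (le_inf (inf_le_left.trans (oc_le z)) inf_le_right)) le_sup_left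
    exact le_sup_right.trans this.le
  have hzP : z ∈ P := hQP ⟨S.zmem, Subgroup.mem_centralizer_singleton_iff.2 htz.symm⟩
  obtain ⟨h', hh', hw'⟩ : ∃ h' ∈ P, h' * w ≠ w * h' := by
    by_contra hcon
    push Not at hcon
    have hle : P ≤ Lz z w ⊓ Ct := fun p hp =>
      ⟨⟨(hPM hp).1, Subgroup.mem_centralizer_singleton_iff.2 (hcon p hp)⟩, (hPM hp).2⟩
    have := Subgroup.card_dvd_of_le hle
    rw [hPcard, card_stab F true h] at this
    norm_num at this
  -- a larger two-group inside the centraliser of `t`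
  have hPC : P ≤ Ct := hPM.trans inf_le_right
  obtain ⟨T₀, hT₀, hPT₀⟩ := Sylow.exists_subgroup_card_pow_prime_le (G := ↥Ct) 2 (n := 15) (m := 16)
    hdvd (P.subgroupOf Ct)
    (by rw [Nat.card_congr (Subgroup.subgroupOfEquivOfLe hPC).toEquiv, hPcard]) (by norm_num)
  set T : Subgroup G := T₀.map Ct.subtype with hT
  have hTcard : Nat.card T = 2 ^ 16 := by rw [hT, Subgroup.card_subtype, hT₀]
  have hPT : P ≤ T := fun p hp => ⟨⟨p, hPC hp⟩, hPT₀ hp, rfl⟩
  have hTC : T ≤ Ct := Subgroup.map_subtype_le _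
  have hT2 : IsPGroup 2 T := IsPGroup.of_card hTcard
  have : Group.IsNilpotent ↥T := hT2.isNilpotent
  have hK : P.subgroupOf T ≠ ⊤ := fun e => by
    have hle : T ≤ P := Subgroup.subgroupOf_eq_top.1 e
    have := Subgroup.card_le_of_le hle
    rw [hPcard, hTcard] at this
    norm_num at this
  obtain ⟨y, hy, hyK⟩ := SetLike.exists_of_lt (normalizerCondition_of_isNilpotent _ hK.lt_top)
  have hconj : ∀ p ∈ P, (y : G)⁻¹ * p * y ∈ P := fun p hp => by
    have := (Subgroup.mem_normalizer_iff.1 (inv_mem hy) ⟨p, hPT hp⟩).1 hp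
    rw [inv_inv] at this
    exact this
  set z' := (y : G) * z * (y : G)⁻¹ with hz'
  have hcent : ∀ p ∈ P, p * z' = z' * p := fun p hp => by
    have e := Subgroup.mem_centralizer_singleton_iff.1 (hPM (hconj p hp)).1
    calc p * z' = (y : G) * ((y : G)⁻¹ * p * y * z) * (y : G)⁻¹ := by rw [hz']; group
      _ = z' * p := by rw [e, hz']; group
  have hyz : (y : G) * z = z * y := mul_inv_eq_iff_eq_mul.1 (eq_z F h (isConj_iff.2 ⟨_, rfl⟩)
    (hcent z hzP).symm (fun a ha hat => hcent a (hQP ⟨ha, Subgroup.mem_centralizer_singleton_iff.2 hat⟩))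
    hw' (Subgroup.mem_centralizer_singleton_iff.1 (hPM hh').1) (hcent h' hh'))
  refine hyK ?_
  have hX := hmax (T ⊓ M) (hT2.to_le inf_le_left) inf_le_right (le_inf hPT hPM)
  show (y : G) ∈ P
  rw [← hX]
  exact ⟨y.2, Subgroup.mem_centralizer_singleton_iff.2 hyz, hTC y.2⟩

/-- The two standard involutions are not conjugate. -/
theorem not_conj_NP {t t' : G} (h : InT S w t (dc 4) (dc 2)) (h' : InT S w t' (dc 70) (dc 34)) :
    ¬ IsConj t t' := fun hc => by
  obtain ⟨g, hg⟩ := isConj_iff.1 hc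
  refine not_dvd_P F h' ?_
  have hcard : Nat.card ↥(Subgroup.centralizer ({t'} : Set G)) =
      Nat.card ↥(Subgroup.centralizer ({t} : Set G)) :=
    Nat.card_congr
      { toFun := fun a => ⟨g⁻¹ * a.1 * g, Subgroup.mem_centralizer_singleton_iff.2 (by
          calc g⁻¹ * a.1 * g * t = g⁻¹ * (a.1 * (g * t * g⁻¹)) * g := by group
            _ = g⁻¹ * (t' * a.1) * g := by rw [hg, Subgroup.mem_centralizer_singleton_iff.1 a.2]
            _ = g⁻¹ * (g * t * g⁻¹ * a.1) * g := by rw [hg]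
            _ = t * (g⁻¹ * a.1 * g) := by group)⟩
        invFun := fun a => ⟨g * a.1 * g⁻¹, Subgroup.mem_centralizer_singleton_iff.2 (by
          calc g * a.1 * g⁻¹ * t' = g * (a.1 * t) * g⁻¹ := by rw [← hg]; group
            _ = t' * (g * a.1 * g⁻¹) := by
              rw [Subgroup.mem_centralizer_singleton_iff.1 a.2]; simp only [← hg]; group)⟩
        left_inv := fun a => Subtype.ext (by group)
        right_inv := fun a => Subtype.ext (by group) }
  rw [hcard]
  exact (pow_dvd_pow 2 (by norm_num)).trans (dvd_N F h)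

end CoOne

end Cfsg.Agent.CoOneType
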