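import Cfsg.Agent.CoOneType.Classify
import Cfsg.Agent.CoOneType.NP

/-!
Exactly three classes of involutions.
-/

set_option autoImplicit false

open Cfsg Cfsg.Agent.ThreeTrans.OrthCohom Cfsg.Agent.Classical.Quad QuadraticMap Cfsg.Agent.LargeExtra

namespace Cfsg.Agent.CoOneType

variable {G : Type*} [Group G] [Finite G]

namespace CoOne

variable {z : G} (S : CoOne z)
include S

/-- Every involution of the group has a conjugate centralising `z`. -/
theorem exists_conj_comm {x : G} (hx : orderOf x = 2) : ∃ g : G, g * x * g⁻¹ * z = z * (g * x * g⁻¹) := by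
  haveI : Fact (Nat.Prime 2) := ⟨Nat.prime_two⟩
  let C := Subgroup.centralizer ({z} : Set G)
  obtain ⟨P⟩ : Nonempty (Sylow 2 ↥C) := inferInstance
  set P' : Subgroup G := (P : Subgroup ↥C).map C.subtype with hP'
  have hQP : oc z ≤ P' := by
    haveI : ((oc z).subgroupOf C).Normal :=
      ⟨fun a ha h => oc_conj_mem (x := z) h.2 ha⟩
    have hp : IsPGroup 2 ↥((oc z).subgroupOf C) :=
      IsPGroup.comap_of_injective (oc_isPGroup z) C.subtype C.subtype_injective
    intro a ha
    exact ⟨⟨a, oc_le z ha⟩, (Core.le_pCore hp).trans (Core.pCore_le_sylow P) ha, rfl⟩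
  obtain ⟨T, hT⟩ := (P.isPGroup'.map C.subtype).exists_le_sylow
  have hTC : (T : Subgroup G) ≤ C := by
    have : Group.IsNilpotent ↥(T : Subgroup G) := T.isPGroup'.isNilpotent
    by_contra hnle
    set K := P'.subgroupOf (T : Subgroup G)
    have hK : K ≠ ⊤ := fun h => hnle fun a ha => by
      have : (⟨a, ha⟩ : ↥(T : Subgroup G)) ∈ K := h ▸ Subgroup.mem_top _
      obtain ⟨b, -, hb⟩ := this
      exact (show (b : G) = a from hb) ▸ b.2
    have hlt := normalizerCondition_of_isNilpotent K hK.lt_top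
    obtain ⟨y, hy, hyK⟩ := SetLike.exists_of_lt hlt
    have hyz : (y : G) * z = z * y := by
      have hzP : z ∈ P' := hQP S.zmem
      have hcent : ∀ p ∈ P', p * ((y : G) * z * (y : G)⁻¹) = (y : G) * z * (y : G)⁻¹ * p := by
        intro p hp
        have hq : (⟨(y : G)⁻¹ * p * y, mul_mem (mul_mem (inv_mem y.2) (hT hp)) y.2⟩ :
            ↥(T : Subgroup G)) ∈ K := by
          have := (Subgroup.mem_normalizer_iff.1 (inv_mem hy) ⟨p, hT hp⟩).1 hp
          rw [inv_inv] at this
          exact this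
        have hq' : (y : G)⁻¹ * p * y ∈ C := by
          obtain ⟨b, -, hb⟩ := hq
          have e : (b : G) = (y : G)⁻¹ * p * y := hb
          exact e ▸ b.2
        have := Subgroup.mem_centralizer_singleton_iff.1 hq'
        calc p * ((y : G) * z * (y : G)⁻¹) = (y : G) * ((y : G)⁻¹ * p * y * z) * (y : G)⁻¹ := by group
          _ = (y : G) * z * (y : G)⁻¹ * p := by rw [this]; group
      have hmem : (y : G) * z * (y : G)⁻¹ ∈ oc z := S.sett.cent
        (Subgroup.mem_centralizer_iff.2 fun q hq => hcent q (hQP hq))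
      rcases S.sett.center_cases hmem (fun q hq => hcent q (hQP hq)) with e | e
      · exact absurd (conj_eq_one_iff.1 e) S.zne
      · exact mul_inv_eq_iff_eq_mul.1 e
    have hyC : (y : G) ∈ C := Subgroup.mem_centralizer_singleton_iff.2 hyz
    refine hyK ?_
    have hmax : ((T : Subgroup G).subgroupOf C) = (P : Subgroup ↥C) := by
      refine P.is_maximal' (IsPGroup.comap_of_injective T.isPGroup' C.subtype C.subtype_injective)
        fun p hp => ?_
      exact hT ⟨p, hp, rfl⟩
    exact ⟨⟨y, hyC⟩, hmax ▸ (show (y : G) ∈ (T : Subgroup G) from y.2), rfl⟩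
  obtain ⟨T', hT'⟩ := (show IsPGroup 2 ↥(Subgroup.zpowers x) from
    IsPGroup.of_card (n := 1) (by rw [Nat.card_zpowers, hx, pow_one])).exists_le_sylow
  obtain ⟨g, hg⟩ := MulAction.exists_smul_eq G T' T
  refine ⟨g, Subgroup.mem_centralizer_singleton_iff.1 (hTC ?_)⟩
  have : g * x * g⁻¹ ∈ (g • T' : Sylow 2 G) := by
    rw [Sylow.smul_def]
    exact ⟨x, hT' (Subgroup.mem_zpowers x), rfl⟩
  rwa [hg] at this

/-- Exactly three classes of involutions. -/
theorem three_classes : ∃ a b c : G, orderOf a = 2 ∧ orderOf b = 2 ∧ orderOf c = 2 ∧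
    ¬ IsConj a b ∧ ¬ IsConj a c ∧ ¬ IsConj b c ∧
    ∀ x : G, orderOf x = 2 → IsConj x a ∨ IsConj x b ∨ IsConj x c := by
  obtain ⟨w, F⟩ := S.exists_fr
  obtain ⟨n, hn⟩ := T_exists F (v := dc 4) (dc_perp 2 (by norm_num) rfl)
  obtain ⟨p, hp⟩ := T_exists F (v := dc 70) (dc_perp 34 (by norm_num) rfl)
  have hne : ∀ (k : Bool) (t : G), InT S w t (dc (repV k)) (dc (repU k)) → t ≠ 1 := by
    intro k t ht e
    obtain ⟨lv, lu, -, hv1, hu1, hu0, hue, -⟩ := rep_facts k
    exact T_notMem F (dc_perp _ lv hv1) (dc_perp _ lu hu1)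
      (fun e' => hu0 (dc_inj lu (by norm_num) (e'.trans dc_zero.symm)))
      (fun e' => hue (dc_inj lu (by norm_num) e')) ht (e ▸ one_mem _)
  refine ⟨z, n, p, S.sett.ord, orderOf_eq_prime (by rw [pow_two, invol_N F hn]) (hne false n hn),
    orderOf_eq_prime (by rw [pow_two, invol_P F hp]) (hne true p hp), not_conj_z F false hn,
    not_conj_z F true hp, not_conj_NP F hn hp, fun x hx => ?_⟩
  obtain ⟨g, hg⟩ := S.exists_conj_comm hx
  have hx2 : x * x = 1 := by rw [← pow_two, ← hx, pow_orderOf_eq_one]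
  have hxt : IsConj x (g * x * g⁻¹) := isConj_iff.2 ⟨g, rfl⟩
  have hx1 : g * x * g⁻¹ ≠ 1 := fun e => by
    rw [conj_eq_one_iff.1 e, orderOf_one] at hx
    exact absurd hx (by norm_num)
  rcases classify F hg (sq_conj hx2) hx1 with h | ⟨t', h1, h2 | h2⟩
  · exact Or.inl (hxt.trans h.symm)
  · exact Or.inr (Or.inl (hxt.trans (h1.trans (conj_N F h2 hn))))
  · exact Or.inr (Or.inr (hxt.trans (h1.trans (conj_P F h2 hp))))

end CoOne

end Cfsg.Agent.CoOneType
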