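import Cfsg.Agent.CoOneType.Space

/-!
Moving vectors and normal forms of involutions fixing the first coordinate vector.
-/

set_option autoImplicit false

open Cfsg.Agent.ThreeTrans.OrthCohom Cfsg.Agent.Classical.Quad QuadraticMap Module

namespace Cfsg.Agent.CoOneType

theorem add_cancel_pair (x y : V) : x + y + y = x := by rw [add_assoc, v_add_self, add_zero]

/-- Moving `v` to `t` through `x`, or directly, fixing a set of codes. -/
theorem exists_to (t : ℕ) (ht : t < 256) (S : List ℕ) (hS : ∀ s ∈ S, s < 256)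
    (hb : Bn 136 t = false ∧ ∀ s ∈ S, Bn s 136 = false) (v : V)
    (hq : qP 4 v = qP 4 (dc t)) (hperp : ∀ s ∈ S, Bp (dc s) v = Bp (dc s) (dc t))
    (hcode : (cd v).val = t ∨ (cd v).val = t ^^^ 1 ∨ Bn (cd v).val t = true ∨
      ∃ x : Fin 256, qn x.val = qn t ∧ Bn (cd v).val x.val = true ∧ Bn x.val t = true ∧
        ∀ s ∈ S, Bn s x.val = Bn s t) :
    ∃ g : O, dsign g = 1 ∧ (g.1 v = dc t ∨ g.1 v = dc t + dc 1) ∧ ∀ s ∈ S, g.1 (dc s) = dc s := by
  have hv := dc_cd v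
  rcases hcode with e | e | e | ⟨x, hqx, hvx, hxt, hSx⟩
  · exact ⟨1, dsign_one, Or.inl (by rw [oG_one_apply, ← hv, e]), fun s _ => oG_one_apply _⟩
  · exact ⟨1, dsign_one, Or.inr (by rw [oG_one_apply, ← hv, e, dc_xor]), fun s _ => oG_one_apply _⟩
  · have hvt : Bp v (dc t) = 1 := by rw [← hv, Bp_dc (cd v).isLt ht, e]; rfl
    have ha : qP 4 (v + dc t) = 1 := by
      rw [q_add, hq, hvt, (by decide : ∀ a : ZMod 2, a + a = 0), zero_add]
    have hb1 : qP 4 (dc 136) = 1 := by rw [q_dc (by norm_num)]; rfl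
    obtain ⟨g, hg, hgx⟩ := exists_rr hb1 ha
    refine ⟨g, hg, Or.inl ?_, fun s hs => ?_⟩
    · have h1 : Bp v (v + dc t) = 1 := by rw [Bp_add_right, Bp_self, hvt, zero_add]
      have h2 : Bp (dc t) (dc 136) = 0 := by
        rw [Bp_comm, Bp_dc (by norm_num) ht, hb.1]; rfl
      rw [hgx, h1, one_smul, ← add_assoc, v_add_self, zero_add, h2, zero_smul, add_zero]
    · have h1 : Bp (dc s) (v + dc t) = 0 := by
        rw [Bp_add_right, hperp s hs]
        exact (by decide : ∀ a : ZMod 2, a + a = 0) _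
      have h2 : Bp (dc s) (dc 136) = 0 := by
        rw [Bp_dc (hS s hs) (by norm_num), hb.2 s hs]; rfl
      rw [hgx, h1, zero_smul, add_zero, h2, zero_smul, add_zero]
  · have hx : qP 4 (dc x.val) = qP 4 (dc t) := by rw [q_dc x.isLt, hqx, q_dc ht]
    have h1 : Bp v (dc x.val) = 1 := by rw [← hv, Bp_dc (cd v).isLt x.isLt, hvx]; rfl
    have h2 : Bp (dc x.val) (dc t) = 1 := by rw [Bp_dc x.isLt ht, hxt]; rfl
    have ha : qP 4 (dc x.val + dc t) = 1 := by
      rw [q_add, hx, h2, (by decide : ∀ a : ZMod 2, a + a = 0), zero_add]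
    have hb1 : qP 4 (v + dc x.val) = 1 := by
      rw [q_add, hx, hq, h1, (by decide : ∀ a : ZMod 2, a + a = 0), zero_add]
    obtain ⟨g, hg, hgx⟩ := exists_rr ha hb1
    refine ⟨g, hg, Or.inl ?_, fun s hs => ?_⟩
    · have e1 : v + Bp v (v + dc x.val) • (v + dc x.val) = dc x.val := by
        rw [Bp_add_right, Bp_self, h1, zero_add, one_smul, ← add_assoc, v_add_self, zero_add]
      rw [hgx, e1, Bp_add_right, Bp_self, h2, zero_add, one_smul, ← add_assoc, v_add_self, zero_add]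
    · have hsx : Bp (dc s) (dc x.val) = Bp (dc s) (dc t) := by
        rw [Bp_dc (hS s hs) x.isLt, hSx s hs, Bp_dc (hS s hs) ht]
      have e1 : Bp (dc s) (v + dc x.val) = 0 := by
        rw [Bp_add_right, hperp s hs, hsx]
        exact (by decide : ∀ a : ZMod 2, a + a = 0) _
      have e2 : Bp (dc s) (dc x.val + dc t) = 0 := by
        rw [Bp_add_right, hsx]
        exact (by decide : ∀ a : ZMod 2, a + a = 0) _
      rw [hgx, e1, zero_smul, add_zero, e2, zero_smul, add_zero]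

theorem to1_code : ∀ v : Fin 256, v.val ≠ 0 → qn v.val = false → v.val = 1 ∨ Bn v.val 1 = true ∨
    ∃ x : Fin 256, qn x.val = qn 1 ∧ Bn v.val x.val = true ∧ Bn x.val 1 = true := by decide +kernel

theorem to2_code : ∀ v : Fin 256, Bn v.val 1 = false → qn v.val = false → v.val ≠ 0 → v.val ≠ 1 →
    v.val = 2 ∨ v.val = 2 ^^^ 1 ∨ Bn v.val 2 = true ∨
    ∃ x : Fin 256, qn x.val = qn 2 ∧ Bn v.val x.val = true ∧ Bn x.val 2 = true ∧
      ∀ s ∈ [1], Bn s x.val = Bn s 2 := by decide +kernel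

theorem to34_code : ∀ v : Fin 256, Bn v.val 1 = false → qn v.val = true →
    v.val = 34 ∨ v.val = 34 ^^^ 1 ∨ Bn v.val 34 = true ∨
    ∃ x : Fin 256, qn x.val = qn 34 ∧ Bn v.val x.val = true ∧ Bn x.val 34 = true ∧
      ∀ s ∈ [1], Bn s x.val = Bn s 34 := by decide +kernel

theorem to4_code : ∀ v : Fin 256, Bn v.val 1 = false → qn v.val = false → Bn v.val 2 = false →
    v.val &&& 252 ≠ 0 →
    v.val = 4 ∨ v.val = 4 ^^^ 1 ∨ Bn v.val 4 = true ∨
    ∃ x : Fin 256, qn x.val = qn 4 ∧ Bn v.val x.val = true ∧ Bn x.val 4 = true ∧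
      ∀ s ∈ [1, 2], Bn s x.val = Bn s 4 := by decide +kernel

theorem to70_code : ∀ v : Fin 256, Bn v.val 1 = false → qn v.val = true → Bn v.val 34 = true →
    v.val = 70 ∨ v.val = 70 ^^^ 1 ∨ Bn v.val 70 = true ∨
    ∃ x : Fin 256, qn x.val = qn 70 ∧ Bn v.val x.val = true ∧ Bn x.val 70 = true ∧
      ∀ s ∈ [1, 34], Bn s x.val = Bn s 70 := by decide +kernel

theorem Bn_dc_eq {x y : V} {i : ℕ} (hi : i < 256) (h : Bp x (dc i) = Bp y (dc i)) :
    Bn (cd x).val i = Bn (cd y).val i := bz_inj _ _ (by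
  rw [← Bp_dc (cd x).isLt hi, ← Bp_dc (cd y).isLt hi, dc_cd, dc_cd, h])

theorem code_Bn {x : V} {i : ℕ} (hi : i < 256) {b : Bool} (h : Bp x (dc i) = bz b) :
    Bn (cd x).val i = b := bz_inj _ _ (by rw [← Bp_dc (cd x).isLt hi, dc_cd, h])

theorem code_qn {x : V} {b : Bool} (h : qP 4 x = bz b) : qn (cd x).val = b :=
  bz_inj _ _ (by rw [← q_dc (cd x).isLt, dc_cd, h])

theorem code_ne {x : V} {i : ℕ} (h : x ≠ dc i) : (cd x).val ≠ i :=
  fun e => h (by rw [← dc_cd x, e])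

/-- Singular vectors are moved to the first coordinate vector. -/
theorem move_e {v : V} (h0 : v ≠ 0) (hq : qP 4 v = 0) :
    ∃ g : O, dsign g = 1 ∧ g.1 v = dc 1 := by
  have hc := to1_code (cd v) (code_ne (by rw [dc_zero]; exact h0)) (code_qn hq)
  have hv := dc_cd v
  rcases hc with e | e
  · exact ⟨1, dsign_one, by rw [oG_one_apply, ← hv, e]⟩
  obtain ⟨g, hg, hgv, -⟩ := exists_to 1 (by norm_num) [] (by simp) ⟨by decide, by simp⟩ v
    (by rw [hq, q_e]) (by simp) (by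
      rcases e with e | ⟨x, h1, h2, h3⟩
      · exact Or.inr (Or.inr (Or.inl e))
      · exact Or.inr (Or.inr (Or.inr ⟨x, h1, h2, h3, by simp⟩)))
  rcases hgv with e' | e'
  · exact ⟨g, hg, e'⟩
  · exfalso
    rw [v_add_self, ← map_zero (g.1)] at e'
    exact h0 (g.1.injective e')

/-- Singular vectors of `e⊥` are moved to the second coordinate vector. -/
theorem move_two {v : V} (h1 : Bp v (dc 1) = 0) (hq : qP 4 v = 0) (h0 : v ≠ 0) (hne : v ≠ dc 1) :
    ∃ g : O, dsign g = 1 ∧ g.1 (dc 1) = dc 1 ∧ (g.1 v = dc 2 ∨ g.1 v = dc 2 + dc 1) := by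
  obtain ⟨g, hg, hgv, hgs⟩ := exists_to 2 (by norm_num) [1] (by simp) (by decide) v
    (by rw [hq, q_dc (by norm_num)]; rfl)
    (by simp only [List.mem_singleton, forall_eq]
        rw [Bp_comm, h1, Bp_dc (by norm_num) (by norm_num)]; rfl)
    (to2_code (cd v) (code_Bn (by norm_num) h1) (code_qn hq) (code_ne (by rw [dc_zero]; exact h0))
      (code_ne hne))
  exact ⟨g, hg, hgs 1 (by simp), hgv⟩

/-- Non-singular vectors of `e⊥` are moved to a standard one. -/
theorem move_ns {v : V} (h1 : Bp v (dc 1) = 0) (hq : qP 4 v = 1) :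
    ∃ g : O, dsign g = 1 ∧ g.1 (dc 1) = dc 1 ∧ (g.1 v = dc 34 ∨ g.1 v = dc 34 + dc 1) := by
  obtain ⟨g, hg, hgv, hgs⟩ := exists_to 34 (by norm_num) [1] (by simp) (by decide) v
    (by rw [hq, q_dc (by norm_num)]; rfl)
    (by simp only [List.mem_singleton, forall_eq]
        rw [Bp_comm, h1, Bp_dc (by norm_num) (by norm_num)]; rfl)
    (to34_code (cd v) (code_Bn (by norm_num) h1) (code_qn hq))
  exact ⟨g, hg, hgs 1 (by simp), hgv⟩

theorem low_span : ∀ v : Fin 256, v.val &&& 252 = 0 → v.val = 0 ∨ v.val = 1 ∨ v.val = 2 ∨ v.val = 3 := by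
  decide +kernel

/-- Moving to the third coordinate vector. -/
theorem move_four {v : V} (h1 : Bp v (dc 1) = 0) (h2 : Bp v (dc 2) = 0) (hq : qP 4 v = 0)
    (hne : v ≠ 0 ∧ v ≠ dc 1 ∧ v ≠ dc 2 ∧ v ≠ dc 2 + dc 1) :
    ∃ g : O, dsign g = 1 ∧ g.1 (dc 1) = dc 1 ∧ g.1 (dc 2) = dc 2 ∧
      (g.1 v = dc 4 ∨ g.1 v = dc 4 + dc 1) := by
  have h252 : (cd v).val &&& 252 ≠ 0 := fun e => by
    have hv := dc_cd v
    rcases low_span _ e with e | e | e | e <;> rw [e] at hv
    · exact hne.1 (by rw [← hv, dc_zero])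
    · exact hne.2.1 hv.symm
    · exact hne.2.2.1 hv.symm
    · exact hne.2.2.2 (by rw [← hv, ← dc_xor]; rfl)
  obtain ⟨g, hg, hgv, hgs⟩ := exists_to 4 (by norm_num) [1, 2] (by simp) (by decide) v
    (by rw [hq, q_dc (by norm_num)]; rfl)
    (by simp only [List.mem_cons, List.not_mem_nil, or_false, forall_eq_or_imp, forall_eq]
        exact ⟨by rw [Bp_comm, h1, Bp_dc (by norm_num) (by norm_num)]; rfl,
          by rw [Bp_comm, h2, Bp_dc (by norm_num) (by norm_num)]; rfl⟩)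
    (to4_code (cd v) (code_Bn (by norm_num) h1) (code_qn hq) (code_Bn (by norm_num) h2) h252)
  exact ⟨g, hg, hgs 1 (by simp), hgs 2 (by simp), hgv⟩

/-- Moving to the partner of a standard non-singular vector. -/
theorem move_seventy {v : V} (h1 : Bp v (dc 1) = 0) (h2 : Bp v (dc 34) = 1) (hq : qP 4 v = 1) :
    ∃ g : O, dsign g = 1 ∧ g.1 (dc 1) = dc 1 ∧ g.1 (dc 34) = dc 34 ∧
      (g.1 v = dc 70 ∨ g.1 v = dc 70 + dc 1) := by
  obtain ⟨g, hg, hgv, hgs⟩ := exists_to 70 (by norm_num) [1, 34] (by simp) (by decide) v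
    (by rw [hq, q_dc (by norm_num)]; rfl)
    (by simp only [List.mem_cons, List.not_mem_nil, or_false, forall_eq_or_imp, forall_eq]
        exact ⟨by rw [Bp_comm, h1, Bp_dc (by norm_num) (by norm_num)]; rfl,
          by rw [Bp_comm, h2, Bp_dc (by norm_num) (by norm_num)]; rfl⟩)
    (to70_code (cd v) (code_Bn (by norm_num) h1) (code_qn hq) (code_Bn (by norm_num) h2))
  exact ⟨g, hg, hgs 1 (by simp), hgs 34 (by simp), hgv⟩

/-- A code for `e⊥ / e`. -/
def wc (i : ℕ) : ℕ := i % 8 * 2 + i / 8 * 32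

theorem wc_surj : ∀ v : Fin 256, Bn v.val 1 = false → ∃ i : Fin 64, v.val = wc i.val ∨ v.val = wc i.val ^^^ 1 := by
  decide +kernel

theorem stab_a : ∀ i j : Fin 64, j.val ≠ 0 → j ≠ i → ∃ k : Fin 64,
    qn (wc k.val) = true ∧ Bn (wc k.val) (wc i.val) = false ∧ Bn (wc k.val) (wc j.val) = true := by
  decide +kernel

theorem stab_b : ∀ i j : Fin 64, ∃ k : Fin 64,
    qn (wc k.val) = true ∧ Bn (wc k.val) (wc i.val) = false ∧ Bn (wc k.val) (wc j.val) = false := by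
  decide +kernel

theorem wc_lt : ∀ i : Fin 64, wc i.val < 256 ∧ Bn (wc i.val) 1 = false := by decide +kernel

theorem wc_Bp (i : Fin 64) {x : V} (h : x = dc (wc i.val) ∨ x = dc (wc i.val) + dc 1) (k : Fin 64) :
    Bp (dc (wc k.val)) x = bz (Bn (wc k.val) (wc i.val)) := by
  rcases h with rfl | rfl
  · rw [Bp_dc (wc_lt k).1 (wc_lt i).1]
  · rw [Bp_add_right, Bp_dc (wc_lt k).1 (wc_lt i).1, Bp_dc (wc_lt k).1 (by norm_num), (wc_lt k).2]
    simp [bz]

/-- A vector fixed, modulo `e`, by the stabiliser of `e` and `u` is `0` or `u`, modulo `e`. -/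
theorem stab_fix {u p : V} (hu : Bp u (dc 1) = 0) (hp : Bp p (dc 1) = 0)
    (h : ∀ g : O, dsign g = 1 → g.1 (dc 1) = dc 1 → g.1 u = u →
      g.1 p = p ∨ g.1 p = p + dc 1) :
    p = 0 ∨ p = dc 1 ∨ p = u ∨ p = u + dc 1 := by
  obtain ⟨i, hi⟩ := wc_surj (cd u) (code_Bn (by norm_num) hu)
  obtain ⟨j, hj⟩ := wc_surj (cd p) (code_Bn (by norm_num) hp)
  have hi' : u = dc (wc i.val) ∨ u = dc (wc i.val) + dc 1 := by
    rw [← dc_cd u]; rcases hi with e | e <;> rw [e]
    · exact Or.inl rfl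
    · exact Or.inr (dc_xor _ _)
  have hj' : p = dc (wc j.val) ∨ p = dc (wc j.val) + dc 1 := by
    rw [← dc_cd p]; rcases hj with e | e <;> rw [e]
    · exact Or.inl rfl
    · exact Or.inr (dc_xor _ _)
  by_cases hj0 : j.val = 0
  · rcases hj' with e | e <;> rw [e, hj0, show wc 0 = 0 from rfl, dc_zero]
    · exact Or.inl rfl
    · exact Or.inr (Or.inl (zero_add _))
  by_cases hji : j = i
  · subst hji
    rcases hi' with e | e <;> rcases hj' with e' | e' <;> rw [e, e']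
    · exact Or.inr (Or.inr (Or.inl rfl))
    · exact Or.inr (Or.inr (Or.inr rfl))
    · exact Or.inr (Or.inr (Or.inr (add_cancel_pair _ _).symm))
    · exact Or.inr (Or.inr (Or.inl rfl))
  exfalso
  obtain ⟨k, hk1, hk2, hk3⟩ := stab_a i j hj0 hji
  obtain ⟨l, hl1, hl2, hl3⟩ := stab_b i j
  obtain ⟨g, hg, hgx⟩ := exists_rr (a := dc (wc k.val)) (b := dc (wc l.val))
    (by rw [q_dc (wc_lt k).1, hk1]; rfl) (by rw [q_dc (wc_lt l).1, hl1]; rfl)
  have hone : ∀ m : Fin 64, Bp (dc 1) (dc (wc m.val)) = 0 := fun m => by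
    rw [Bp_comm, Bp_dc (wc_lt m).1 (by norm_num), (wc_lt m).2]; rfl
  have ek : Bp u (dc (wc k.val)) = 0 := by rw [Bp_comm, wc_Bp i hi' k, hk2]; rfl
  have el : Bp u (dc (wc l.val)) = 0 := by rw [Bp_comm, wc_Bp i hi' l, hl2]; rfl
  have pk : Bp p (dc (wc k.val)) = 1 := by rw [Bp_comm, wc_Bp j hj' k, hk3]; rfl
  have pl : Bp p (dc (wc l.val)) = 0 := by rw [Bp_comm, wc_Bp j hj' l, hl3]; rfl
  have h' := h g hg (by rw [hgx, hone, zero_smul, add_zero, hone, zero_smul, add_zero])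
    (by rw [hgx, el, zero_smul, add_zero, ek, zero_smul, add_zero])
  rw [hgx, pl, zero_smul, add_zero, pk, one_smul] at h'
  have hqk : qP 4 (dc (wc k.val)) = 1 := by rw [q_dc (wc_lt k).1, hk1]; rfl
  rcases h' with e | e
  · rw [add_eq_left] at e
    rw [e, map_zero] at hqk
    exact zero_ne_one hqk
  · rw [add_right_inj] at e
    rw [e, q_e] at hqk
    exact zero_ne_one hqk

theorem s0_add (x y : V) : s0 (x + y) = s0 x + s0 y := by
  simp only [s0, Bp_add_left, add_smul]; abel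

theorem b44 : Bp (dc 4) (dc 4) = 0 ∧ Bp (dc 2) (dc 4) = 0 ∧ Bp (dc 4) (dc 2) = 0 ∧ Bp (dc 2) (dc 2) = 0 := by
  refine ⟨Bp_self _, ?_, ?_, Bp_self _⟩ <;> rw [Bp_dc (by norm_num) (by norm_num)] <;> rfl

theorem s0_invol (x : V) : s0 (s0 x) = x := by
  obtain ⟨a, b, c, d⟩ := b44
  simp only [s0, Bp_add_left, Bp_smul_left, a, b, c, d, mul_zero, add_zero]
  funext i
  simp only [Pi.add_apply, Pi.smul_apply, smul_eq_mul]
  generalize x i = p
  generalize Bp x (dc 4) = q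
  generalize Bp x (dc 2) = r
  generalize dc 2 i = s
  generalize dc 4 i = t
  revert p q r s t
  decide

theorem s0_q (x : V) : qP 4 (s0 x) = qP 4 x := by
  obtain ⟨a, b, c, d⟩ := b44
  simp only [s0, q_add, q_smul, Bp_add_left, Bp_smul_left, Bp_smul_right, b,
    show qP 4 (dc 2) = 0 by rw [q_dc (by norm_num)]; rfl,
    show qP 4 (dc 4) = 0 by rw [q_dc (by norm_num)]; rfl, mul_zero, add_zero]
  generalize qP 4 x = p
  generalize Bp x (dc 4) = q
  generalize Bp x (dc 2) = r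
  revert p q r
  decide

theorem s0_one : s0 (dc 1) = dc 1 := by rw [s0_dc (by norm_num)]; rfl

theorem s0_Bp_one (x : V) : Bp (s0 x) (dc 1) = Bp x (dc 1) := by
  simp [s0, Bp_add_left, Bp_smul_left, Bp_dc (by norm_num : (2 : ℕ) < 256) (by norm_num : (1 : ℕ) < 256),
    Bp_dc (by norm_num : (4 : ℕ) < 256) (by norm_num : (1 : ℕ) < 256), bz, Bn, par4]

/-- The map `s0` as an isometry. -/
noncomputable def s0O : O :=
  ⟨{ toFun := s0
     map_add' := s0_add
     map_smul' := fun c x => by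
       rcases zmod_cases c with rfl | rfl
       · simp [s0, Bp_zero_left]
       · simp
     invFun := s0
     left_inv := s0_invol
     right_inv := s0_invol }, s0_q⟩

theorem s0O_apply (x : V) : s0O.1 x = s0 x := rfl

theorem class_code : ∀ v : Fin 256, Bn v.val 1 = false → Bn v.val 2 = false → Bn v.val 4 = false →
    v.val < 256 ∧ v.val = (v.val &&& 7) ^^^ (v.val &&& 136) ∧
      (v.val &&& 136 = 0 ∨ v.val &&& 136 = 8 ∨ v.val &&& 136 = 128 ∨ v.val &&& 136 = 136) ∧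
      qn v.val = decide (v.val &&& 136 = 136) ∧
      Bn v.val 8 = decide (v.val &&& 128 = 128) ∧ Bn v.val 128 = decide (v.val &&& 8 = 8) := by
  decide +kernel

theorem low_code : ∀ v : Fin 256, v.val &&& 7 = v.val →
    dc v.val = dc (v.val &&& 1) + dc (v.val &&& 2) + dc (v.val &&& 4) ∨ False := by
  intro v hv
  refine Or.inl ?_
  rw [← dc_xor, ← dc_xor]
  congr 1
  exact ((by decide +kernel : ∀ v : Fin 256, v.val &&& 7 = v.val →
    v.val = v.val &&& 1 ^^^ v.val &&& 2 ^^^ v.val &&& 4) v hv)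

/-- The normal form of an involution fixing `e` which maps `e⊥` onto a totally singular space. -/
theorem nf_sigma (g : O) (h2 : g * g = 1) (he : g.1 (dc 1) = dc 1) (hy : ∃ y, dc 1 = g.1 y + y)
    (hk : ∀ x : V, g.1 x = x → Bp x (dc 1) = 0)
    (hts : ∀ x : V, Bp x (dc 1) = 0 → qP 4 (g.1 x + x) = 0) :
    (∃ w : V, Bp w (dc 1) = 0 ∧ ∀ x, g.1 x = sg w x) ∨
    ∃ c : O, dsign c = 1 ∧ c.1 (dc 1) = dc 1 ∧ ∃ u : V, Bp u (dc 1) = 0 ∧ Bp u (dc 2) = 0 ∧
      Bp u (dc 4) = 0 ∧ ∀ x, c.1 (g.1 (c⁻¹.1 x)) = sg u (s0 x) := by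
  classical
  -- statements stable under conjugation
  let Ok : O → Prop := fun h => h * h = 1 ∧ h.1 (dc 1) = dc 1 ∧ (∃ y, dc 1 = h.1 y + y) ∧
    (∀ x : V, h.1 x = x → Bp x (dc 1) = 0) ∧ ∀ x : V, Bp x (dc 1) = 0 → qP 4 (h.1 x + x) = 0
  have hconj : ∀ h : O, Ok h → ∀ c : O, c.1 (dc 1) = dc 1 → Ok (c * h * c⁻¹) := by
    rintro h ⟨a1, a2, ⟨y, a3⟩, a4, a5⟩ c hc
    have hci : c⁻¹.1 (dc 1) = dc 1 := by rw [← hc, oG_inv_apply, hc]
    have happ : ∀ x, (c * h * c⁻¹).1 x = c.1 (h.1 (c⁻¹.1 x)) := fun x => by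
      rw [oG_mul_apply, oG_mul_apply]
    have hB : ∀ x, Bp (c⁻¹.1 x) (dc 1) = Bp x (dc 1) := fun x => by
      conv_lhs => rw [← hci]
      exact polar_g _ _ _
    refine ⟨?_, by rw [happ, hci, a2, hc], ⟨c.1 y, ?_⟩, fun x hx => ?_, fun x hx => ?_⟩
    · calc c * h * c⁻¹ * (c * h * c⁻¹) = c * (h * h) * c⁻¹ := by group
        _ = 1 := by rw [a1]; group
    · rw [happ, oG_inv_apply, ← map_add, ← a3, hc]
    · rw [← hB]
      refine a4 _ (c.1.injective ?_)
      rw [← happ, hx, oG_apply_inv]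
    · have e : (c * h * c⁻¹).1 x + x = c.1 (h.1 (c⁻¹.1 x) + c⁻¹.1 x) := by
        rw [map_add, happ, oG_apply_inv]
      rw [e, c.2]
      exact a5 _ (by rw [hB, hx])
  have hok : Ok g := ⟨h2, he, hy, hk, hts⟩
  by_cases hS : ∀ x : V, Bp x (dc 1) = 0 → g.1 x + x = 0 ∨ g.1 x + x = dc 1
  · exact Or.inl (exists_sg_of g he hS)
  refine Or.inr ?_
  push Not at hS
  obtain ⟨x, hx, hx0, hx1⟩ := hS
  -- facts about an admissible isometry
  have hself : ∀ h : O, Ok h → ∀ x y : V, Bp (h.1 x + x) y = Bp x (h.1 y + y) := by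
    intro h hh x y
    have hgg : h.1 (h.1 y) = y := by rw [← oG_mul_apply, hh.1, oG_one_apply]
    have hxy : Bp (h.1 x) y = Bp x (h.1 y) := by
      conv_lhs => rw [← hgg]
      exact polar_g h x (h.1 y)
    rw [Bp_add_left, Bp_add_right, hxy]
  have hNperp : ∀ h : O, Ok h → ∀ x y : V, Bp (h.1 x + x) (h.1 y + y) = 0 := by
    intro h hh x y
    rw [hself h hh, show h.1 (h.1 y + y) + (h.1 y + y) = 0 by
      rw [map_add, ← oG_mul_apply, hh.1, oG_one_apply, add_comm y, v_add_self], Bp_zero_right]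
  have hN1 : ∀ h : O, Ok h → ∀ x, Bp (h.1 x + x) (dc 1) = 0 := fun h hh x => by
    obtain ⟨y, hy⟩ := hh.2.2.1
    rw [hy]; exact hNperp h hh x y
  have hpre : ∀ h : O, Ok h → ∃ y, Bp y (dc 1) = 0 ∧ h.1 y + y = dc 1 := by
    intro h hh
    obtain ⟨y, hy⟩ := hh.2.2.1
    refine ⟨y, ?_, hy.symm⟩
    have : qP 4 (h.1 y + y) = 0 := by rw [← hy, q_e]
    rw [q_add, h.2, Bp_comm (h.1 y)] at this
    rw [hy, Bp_add_right, Bp_self, add_zero]
    revert this
    generalize qP 4 y = a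
    generalize Bp y (h.1 y) = b
    revert a b
    decide
  have hadj : ∀ h : O, Ok h → ∀ x t, Bp x (dc 1) = 0 → (h.1 x + x = t ∨ h.1 x + x = t + dc 1) →
      ∃ x', Bp x' (dc 1) = 0 ∧ h.1 x' + x' = t := by
    intro h hh x t hx ht
    rcases ht with e | e
    · exact ⟨x, hx, e⟩
    obtain ⟨y, hy1, hy⟩ := hpre h hh
    refine ⟨x + y, by rw [Bp_add_left, hx, hy1, add_zero], ?_⟩
    rw [map_add, show h.1 x + h.1 y + (x + y) = (h.1 x + x) + (h.1 y + y) by abel, e, hy,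
      add_cancel_pair]
  -- first move
  obtain ⟨c₁, hc₁, hc₁e, hc₁x⟩ := move_two (v := g.1 x + x) (hN1 g hok x) (hts x hx) hx0 hx1
  have hok₁ := hconj g hok c₁ hc₁e
  set g₁ := c₁ * g * c₁⁻¹ with hg₁
  obtain ⟨a, ha, hNa⟩ : ∃ a, Bp a (dc 1) = 0 ∧ g₁.1 a + a = dc 2 := by
    refine hadj g₁ hok₁ (c₁.1 x) _ (by rw [← hc₁e, polar_g, hx]) ?_
    have e : g₁.1 (c₁.1 x) + c₁.1 x = c₁.1 (g.1 x + x) := by
      rw [hg₁, oG_mul_apply, oG_mul_apply, oG_inv_apply, map_add]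
    rw [e]
    exact hc₁x
  -- a second independent image
  obtain ⟨b, hb, hb'⟩ : ∃ b, Bp b (dc 1) = 0 ∧ g₁.1 b + b ≠ 0 ∧ g₁.1 b + b ≠ dc 1 ∧
      g₁.1 b + b ≠ dc 2 ∧ g₁.1 b + b ≠ dc 2 + dc 1 := by
    by_contra hcon
    push Not at hcon
    have hkey : ∀ b, Bp b (dc 1) = 0 → Bp (g₁.1 b + b) (dc 32) = 1 → Bp b (dc 2) = 0 := by
      intro b hb hb32
      have hq := hok₁.2.2.2.2 b hb
      have h4 : g₁.1 b + b = dc 2 ∨ g₁.1 b + b = dc 2 + dc 1 := by
        by_cases e0 : g₁.1 b + b = 0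
        · rw [e0, Bp_zero_left] at hb32; exact absurd hb32 zero_ne_one
        by_cases e1 : g₁.1 b + b = dc 1
        · rw [e1, Bp_dc (by norm_num) (by norm_num)] at hb32; exact absurd hb32 (by decide)
        by_cases e2 : g₁.1 b + b = dc 2
        · exact Or.inl e2
        exact Or.inr (hcon b hb e0 e1 e2)
      have hθ : Bp b (g₁.1 b + b) = qP 4 (g₁.1 b + b) := by
        rw [q_add, g₁.2, Bp_add_right, Bp_self, add_zero, Bp_comm (g₁.1 b) b,
          (by decide : ∀ a : ZMod 2, a + a = 0), zero_add]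
      rw [hq] at hθ
      rcases h4 with e | e <;> rw [e] at hθ
      · exact hθ
      · rwa [Bp_add_right, hb, add_zero] at hθ
    have hex : ∃ b, Bp b (dc 1) = 0 ∧ Bp b (dc 2) = 1 := ⟨dc 32,
      by rw [Bp_dc (by norm_num) (by norm_num)]; rfl, by rw [Bp_dc (by norm_num) (by norm_num)]; rfl⟩
    obtain ⟨b, hb, hb2⟩ := hex
    have h32 : Bp (dc 2) (dc 32) = 1 := by rw [Bp_dc (by norm_num) (by norm_num)]; rfl
    have ha2 := hkey a ha (by rw [hNa]; exact h32)
    rcases zmod_cases (Bp (g₁.1 b + b) (dc 32)) with e | e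
    · have := hkey (a + b) (by rw [Bp_add_left, ha, hb, add_zero]) (by
        rw [map_add, show g₁.1 a + g₁.1 b + (a + b) = (g₁.1 a + a) + (g₁.1 b + b) by abel,
          Bp_add_left, hNa, h32, e, add_zero])
      rw [Bp_add_left, ha2, hb2, zero_add] at this
      exact one_ne_zero this
    · exact one_ne_zero (hb2.symm.trans (hkey b hb e))
  -- second move
  obtain ⟨c₂, hc₂, hc₂e, hc₂2, hc₂b⟩ := move_four (v := g₁.1 b + b) (hN1 g₁ hok₁ b)
    (by rw [← hNa]; exact hNperp g₁ hok₁ b a) (hok₁.2.2.2.2 b hb) hb'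
  have hok₂ := hconj g₁ hok₁ c₂ hc₂e
  set h := c₂ * g₁ * c₂⁻¹ with hh
  have htr : ∀ x, h.1 (c₂.1 x) + c₂.1 x = c₂.1 (g₁.1 x + x) := fun x => by
    rw [hh, oG_mul_apply, oG_mul_apply, oG_inv_apply, map_add]
  have ha' : Bp (c₂.1 a) (dc 1) = 0 := by rw [← hc₂e, polar_g, ha]
  have hNa' : h.1 (c₂.1 a) + c₂.1 a = dc 2 := by rw [htr, hNa, hc₂2]
  obtain ⟨b', hb1', hNb'⟩ := hadj h hok₂ (c₂.1 b) (dc 4) (by rw [← hc₂e, polar_g, hb])
    (by rw [htr]; exact hc₂b)
  obtain ⟨y, hy1, hNy⟩ := hpre h hok₂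
  set N : V → V := fun x => h.1 x + x with hNdef
  have hNadd : ∀ x y, N (x + y) = N x + N y := fun x y => by
    simp only [hNdef, map_add]; abel
  have hN2 : ∀ x, Bp (N x) (dc 2) = 0 := fun x => by rw [← hNa']; exact hNperp h hok₂ _ _
  have hN4 : ∀ x, Bp (N x) (dc 4) = 0 := fun x => by rw [← hNb']; exact hNperp h hok₂ _ _
  have hcls := fun x => class_code (cd (N x)) (code_Bn (by norm_num) (hN1 h hok₂ x))
    (code_Bn (by norm_num) (hN2 x)) (code_Bn (by norm_num) (hN4 x))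
  -- the low vectors are images
  have hlow : ∀ m : Fin 256, m.val &&& 7 = m.val → ∃ z, Bp z (dc 1) = 0 ∧ N z = dc m.val := by
    intro m hm
    have h1 : ∀ k, k = 0 ∨ k = 1 ∨ k = 2 ∨ k = 4 → ∃ z, Bp z (dc 1) = 0 ∧ N z = dc k := by
      rintro k (rfl | rfl | rfl | rfl)
      · exact ⟨0, Bp_zero_left _, by simp [hNdef, dc_zero]⟩
      · exact ⟨y, hy1, hNy⟩
      · exact ⟨_, ha', hNa'⟩
      · exact ⟨b', hb1', hNb'⟩
    have hsub : ∀ k ∈ [1, 2, 4], m.val &&& k = 0 ∨ m.val &&& k = k := fun k hk =>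
      part_cases m k (by revert k; decide)
    obtain ⟨z1, a1, b1⟩ := h1 (m.val &&& 1) (by rcases hsub 1 (by simp) with e | e <;> simp [e])
    obtain ⟨z2, a2, b2⟩ := h1 (m.val &&& 2) (by rcases hsub 2 (by simp) with e | e <;> simp [e])
    obtain ⟨z4, a4, b4⟩ := h1 (m.val &&& 4) (by rcases hsub 4 (by simp) with e | e <;> simp [e])
    refine ⟨z1 + z2 + z4, by rw [Bp_add_left, Bp_add_left, a1, a2, a4]; simp, ?_⟩
    rw [hNadd, hNadd, b1, b2, b4]
    exact ((low_code m hm).resolve_right id).symm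
  have hm7 : ∀ v : Fin 256, v.val &&& 7 &&& 7 = v.val &&& 7 := by decide +kernel
  have hclass : ∀ x, Bp x (dc 1) = 0 → (cd (N x)).val &&& 136 = 0 := by
    intro x hx
    by_contra hne
    obtain ⟨-, hsplit, hc, hqc, -, -⟩ := hcls x
    have hqx : qn (cd (N x)).val = false := code_qn (hok₂.2.2.2.2 x hx)
    rw [hqx] at hqc
    obtain ⟨k, hk, hk'⟩ : ∃ k, (k = 8 ∨ k = 128) ∧ (cd (N x)).val &&& 136 = k := by
      rcases hc with e | e | e | e
      · exact absurd e hne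
      · exact ⟨8, Or.inl rfl, e⟩
      · exact ⟨128, Or.inr rfl, e⟩
      · rw [e] at hqc; exact absurd hqc (by decide)
    have hk256 : k < 256 := by omega
    obtain ⟨z0, hz0, hNz0⟩ := hlow ⟨_, lt_of_le_of_lt Nat.and_le_left (cd (N x)).isLt⟩ (hm7 _)
    have hdk : dc k = N x + N z0 := by
      conv_rhs => rw [← dc_cd (N x), hsplit, hNz0, dc_xor, hk']
      dsimp only
      rw [add_comm (dc _) (dc k), add_cancel_pair]
    have hall : ∀ w, ∃ z, Bp z (dc 1) = 0 ∧ N z = N w := by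
      intro w
      obtain ⟨-, hsw, hcw, -, h8, h128⟩ := hcls w
      obtain ⟨z1, hz1, hNz1⟩ := hlow ⟨_, lt_of_le_of_lt Nat.and_le_left (cd (N w)).isLt⟩ (hm7 _)
      have hperp : Bp (N w) (dc k) = 0 := by
        rw [hdk, ← hNadd]; exact hNperp h hok₂ _ _
      have hb := code_Bn (b := false) hk256 hperp
      have hw136 : (cd (N w)).val &&& 136 = 0 ∨ (cd (N w)).val &&& 136 = k := by
        have key : ∀ v : Fin 256, (Bn v.val 1 = false ∧ Bn v.val 2 = false ∧ Bn v.val 4 = false) →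
            (Bn v.val 8 = false → v.val &&& 136 = 0 ∨ v.val &&& 136 = 8) ∧
            (Bn v.val 128 = false → v.val &&& 136 = 0 ∨ v.val &&& 136 = 128) := by decide +kernel
        have hkey := key (cd (N w)) ⟨code_Bn (by norm_num) (hN1 h hok₂ w),
          code_Bn (by norm_num) (hN2 w), code_Bn (by norm_num) (hN4 w)⟩
        rcases hk with rfl | rfl
        · exact hkey.1 hb
        · exact hkey.2 hb
      rcases hw136 with e | e
      · refine ⟨z1, hz1, ?_⟩
        conv_rhs => rw [← dc_cd (N w), hsw, e, Nat.xor_zero]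
        exact hNz1
      · refine ⟨z1 + (x + z0), by simp only [Bp_add_left, hz1, hx, hz0, add_zero], ?_⟩
        conv_rhs => rw [← dc_cd (N w), hsw, e, dc_xor]
        rw [hNadd, hNz1, hNadd, ← hdk]
    obtain ⟨z, hz, hNz⟩ := hall (dc 16)
    have hfix : h.1 (z + dc 16) = z + dc 16 := v_eq_of_add (by
      show N (z + dc 16) = 0
      rw [hNadd, hNz, v_add_self])
    have := hok₂.2.2.2.1 _ hfix
    rw [Bp_add_left, hz, zero_add, Bp_dc (by norm_num) (by norm_num)] at this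
    exact absurd this (by decide)
  -- coordinates of the image
  have hco : ∀ x, Bp x (dc 1) = 0 →
      N x = Bp (N x) (dc 16) • dc 1 + Bp (N x) (dc 32) • dc 2 + Bp (N x) (dc 64) • dc 4 := by
    intro x hx
    obtain ⟨-, hsplit, -⟩ := hcls x
    rw [hclass x hx, Nat.xor_zero] at hsplit
    have key : ∀ v : Fin 256, v.val = v.val &&& 7 → v.val = (((if Bn v.val 16 then 1 else 0) ^^^
        (if Bn v.val 32 then 2 else 0)) ^^^ (if Bn v.val 64 then 4 else 0)) := by decide +kernel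
    conv_lhs => rw [← dc_cd (N x), key _ hsplit, dc_xor, dc_xor, ← bz_smul, ← bz_smul, ← bz_smul]
    conv_rhs => rw [← dc_cd (N x), Bp_dc (cd (N x)).isLt (by norm_num),
      Bp_dc (cd (N x)).isLt (by norm_num), Bp_dc (cd (N x)).isLt (by norm_num)]
  have hskew : ∀ x y, Bp x (dc 1) = 0 → Bp y (dc 1) = 0 →
      Bp (N x) (dc 32) * Bp y (dc 2) + Bp (N x) (dc 64) * Bp y (dc 4) =
      Bp (N y) (dc 32) * Bp x (dc 2) + Bp (N y) (dc 64) * Bp x (dc 4) := by
    intro x y hx hy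
    have := hself h hok₂ x y
    change Bp (N x) y = Bp x (N y) at this
    rw [hco x hx, hco y hy] at this
    simpa [Bp_add_left, Bp_add_right, Bp_smul_left, Bp_smul_right, hx, (Bp_comm (dc 1) y).trans hy,
      Bp_comm (dc 2) y, Bp_comm (dc 4) y] using this
  have hp32 : Bp (dc 32) (dc 1) = 0 := by rw [Bp_dc (by norm_num) (by norm_num)]; rfl
  have hp64 : Bp (dc 64) (dc 1) = 0 := by rw [Bp_dc (by norm_num) (by norm_num)]; rfl
  have e22 : Bp (dc 32) (dc 2) = 1 := by rw [Bp_dc (by norm_num) (by norm_num)]; rfl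
  have e24 : Bp (dc 32) (dc 4) = 0 := by rw [Bp_dc (by norm_num) (by norm_num)]; rfl
  have e42 : Bp (dc 64) (dc 2) = 0 := by rw [Bp_dc (by norm_num) (by norm_num)]; rfl
  have e44 : Bp (dc 64) (dc 4) = 1 := by rw [Bp_dc (by norm_num) (by norm_num)]; rfl
  have hθ : ∀ x, Bp x (dc 1) = 0 → Bp x (N x) = 0 := fun x hx => by
    have hq := hok₂.2.2.2.2 x hx
    rw [q_add, h.2, Bp_comm, (by decide : ∀ a : ZMod 2, a + a = 0), zero_add] at hq
    rw [hNdef]
    dsimp only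
    rw [Bp_add_right, Bp_self, add_zero, hq]
  have z32 : Bp (N (dc 32)) (dc 32) = 0 := by
    have := hθ _ hp32
    rw [Bp_comm] at this
    exact this
  have z64 : Bp (N (dc 64)) (dc 64) = 0 := by
    have := hθ _ hp64
    rw [Bp_comm] at this
    exact this
  set l := Bp (N (dc 32)) (dc 64) with hl
  have hl' : Bp (N (dc 64)) (dc 32) = l := by
    have := hskew _ _ hp32 hp64
    rw [z32, e42, e44, z64, e22, e24] at this
    simpa using this.symm
  have hα : ∀ x, Bp x (dc 1) = 0 → Bp (N x) (dc 32) = l * Bp x (dc 4) := fun x hx => by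
    have := hskew x _ hx hp32
    rw [e22, e24, z32] at this
    simpa using this
  have hβ : ∀ x, Bp x (dc 1) = 0 → Bp (N x) (dc 64) = l * Bp x (dc 2) := fun x hx => by
    have := hskew x _ hx hp64
    rw [e42, e44, hl', z64] at this
    simpa using this
  have hl1 : l = 1 := by
    refine zmod_ne_zero _ fun e => ?_
    have := hα _ ha'
    rw [show N (c₂.1 a) = dc 2 from hNa', e, zero_mul, Bp_comm, e22] at this
    exact one_ne_zero this
  -- compare with `s0`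
  obtain ⟨u, hu, hu'⟩ := exists_sg_of (h * s0O)
    (by rw [oG_mul_apply, s0O_apply, s0_one, hok₂.2.1]) fun x hx => by
      have hx' : Bp (s0 x) (dc 1) = 0 := by rw [s0_Bp_one, hx]
      rw [oG_mul_apply, s0O_apply]
      have e : h.1 (s0 x) + x = N (s0 x) + (s0 x + x) := by
        rw [hNdef]
        dsimp only
        rw [add_assoc, ← add_assoc (s0 x), v_add_self, zero_add]
      obtain ⟨a4, b4, c4, d4⟩ := b44
      have e2 : Bp (s0 x) (dc 4) = Bp x (dc 4) := by simp [s0, Bp_add_left, Bp_smul_left, a4, b4]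
      have e3 : Bp (s0 x) (dc 2) = Bp x (dc 2) := by simp [s0, Bp_add_left, Bp_smul_left, c4, d4]
      rw [e, hco _ hx', hα _ hx', hβ _ hx', hl1, one_mul, one_mul, e2, e3,
        show s0 x + x = Bp x (dc 4) • dc 2 + Bp x (dc 2) • dc 4 by
          rw [s0, add_assoc x, add_comm x, add_assoc, v_add_self, add_zero],
        add_assoc (Bp (N (s0 x)) (dc 16) • dc 1), add_cancel_pair]
      rcases zmod_cases (Bp (N (s0 x)) (dc 16)) with e | e <;> rw [e]
      · exact Or.inl (zero_smul _ _)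
      · exact Or.inr (one_smul _ _)
  have hhx : ∀ x, h.1 x = sg u (s0 x) := fun x => by
    rw [← hu' (s0 x), oG_mul_apply h s0O, s0O_apply, s0_invol]
  have hu24 : Bp u (dc 2) = 0 ∧ Bp u (dc 4) = 0 := by
    have hu0 : Bp (s0 u) (dc 1) = 0 := by rw [s0_Bp_one, hu]
    have hid : ∀ x, sg (u + s0 u) x = x := fun x => by
      have := congrArg (fun k : O => k.1 x) hok₂.1
      simp only [oG_mul_apply, oG_one_apply, hhx] at this
      rw [← s0O_apply (sg u _), sg_equiv s0O (by rw [s0O_apply, s0_one]), s0O_apply, s0O_apply,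
        s0_invol, sg_comp hu hu0] at this
      exact this
    have h' := sg_inj (by rw [Bp_add_left, hu, hu0, add_zero]) hid
    have e : u + s0 u = Bp u (dc 4) • dc 2 + Bp u (dc 2) • dc 4 := by
      rw [s0, ← add_assoc, ← add_assoc, v_add_self, zero_add]
    rw [e] at h'
    rcases zmod_cases (Bp u (dc 4)) with p | p <;> rcases zmod_cases (Bp u (dc 2)) with q | q <;>
      rw [p, q] at h' <;> simp only [zero_smul, one_smul, zero_add, add_zero, ← dc_xor, ← dc_zero] at h'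
    · exact ⟨q, p⟩
    all_goals
      exfalso
      rcases h' with h' | h' <;> exact absurd (dc_inj (by decide) (by decide) h') (by decide)
  refine ⟨c₂ * c₁, ?_, by rw [oG_mul_apply, hc₁e, hc₂e], u, hu, hu24.1, hu24.2, fun x => ?_⟩
  · rw [dsign_mul nondegP4 (Or.inr (by simp)), hc₁, hc₂, one_mul]
  · rw [← hhx, hh, hg₁, mul_inv_rev]
    simp only [oG_mul_apply]

theorem axis_code : ∀ u : Fin 256, u.val &&& 248 = 0 → ∃ p ∈ [2, 4, 6],
    sgn u.val (s0n p) = p ∧ ∀ x : Fin 256, Bn x.val p = false →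
      sgn u.val (s0n x.val) ^^^ x.val = 0 ∨ sgn u.val (s0n x.val) ^^^ x.val = p := by decide +kernel

theorem theta_code : ∀ u : Fin 256, Bn u.val 1 = false → Bn u.val 2 = false → Bn u.val 4 = false →
    u.val &&& 136 = 136 → qn (sgn u.val (s0n 16) ^^^ 16) = true := by decide +kernel

theorem norm_code : ∀ u : Fin 256, Bn u.val 1 = false → Bn u.val 2 = false → Bn u.val 4 = false →
    ∃ y ∈ [0, 32, 64, 96], (y ^^^ u.val) ^^^ s0n y = u.val &&& 136 ∨
      (y ^^^ u.val) ^^^ s0n y = (u.val &&& 136) ^^^ 1 := by decide +kernel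

theorem kernel_code : ∀ u : Fin 256, u.val = 8 ∨ u.val = 128 → ∀ v : Fin 256,
    sgn u.val (s0n v.val) = v.val → ∃ y : Fin 256, sgn u.val (s0n y.val) ^^^ y.val = v.val := by
  decide +kernel

end Cfsg.Agent.CoOneType
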