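import Cfsg.Agent.CoOneType.Sigma

/-!
Every involution of the centraliser is conjugate to `z` or to one of two standard involutions.
-/

set_option autoImplicit false

open Cfsg Cfsg.Agent.ThreeTrans.OrthCohom Cfsg.Agent.Classical.Quad QuadraticMap Cfsg.Agent.LargeExtra

namespace Cfsg.Agent.CoOneType

theorem cyc_code : cyc 1 = 2 ∧ cyc 2 = 4 ∧ cyc 4 = 1 ∧
    ∀ x : Fin 256, g2n 49 50 x.val < 256 ∧ cyc x.val < 256 ∧ s0n x.val < 256 ∧ sgn 2 x.val < 256 ∧
      cyc (sgn 2 x.val) = s0n (cyc x.val) := by decide +kernel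

theorem cls_code : ∀ m : Fin 256, m.val = 8 ∨ m.val = 128 ∨ m.val = 136 →
    Bn m.val 1 = false ∧ Bn m.val 2 = false ∧ Bn m.val 4 = false ∧ m.val &&& 136 = m.val := by
  decide +kernel

theorem partner_code : ∀ m : Fin 256, Bn m.val 1 = false → Bn m.val 2 = false → Bn m.val 4 = false →
    m.val &&& 136 ≠ 0 → ∃ v ∈ [8, 128], Bn v m.val = true ∧ s0n v = v := by decide +kernel

variable {G : Type*} [Group G] [Finite G]

namespace CoOne

variable {z : G} {S : CoOne z} {w : G} (F : S.Fr w)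
include F

/-- Conjugate to `z` or to a standard involution. -/
def Tri (S : CoOne z) (w t : G) : Prop :=
  IsConj z t ∨ ∃ t', IsConj t t' ∧ (InT S w t' (dc 4) (dc 2) ∨ InT S w t' (dc 70) (dc 34))

omit F in
theorem Tri.of_conj {t t' : G} (h : IsConj t t') (hT : Tri S w t') : Tri S w t := by
  rcases hT with h' | ⟨t'', h1, h2⟩
  · exact Or.inl (h'.trans h.symm)
  · exact Or.inr ⟨t'', h.trans h1, h2⟩

theorem tri_axis {t : G} (ht : t * z = z * t) (h2 : t * t = 1) (hn : t ∉ oc z) (h : HasAxis (S.act t)) :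
    Tri S w t :=
  (of_axis F ht h2 hn h).imp And.left id

/-- The involution realising `s0`. -/
theorem exists_s : ∃ s : G, s * z = z * s ∧ s * w = w * s ∧ s * s = 1 ∧
    (∀ x, (S.act s).1 x = s0 x) ∧ IsConj z s ∧
    ∃ n, InT S w n (dc 4) (dc 2) ∧ IsConj (s * w) n := by
  obtain ⟨g1, hg1, hg1x⟩ := exists_rrn (a := 49) (b := 50) (by norm_num) (by norm_num) rfl rfl
  obtain ⟨g2, hg2, hg2x⟩ := exists_rrn (a := 81) (b := 84) (by norm_num) (by norm_num) rfl rfl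
  obtain ⟨c1, hc1, rfl⟩ := S.act_surj g1 hg1
  obtain ⟨c2, hc2, rfl⟩ := S.act_surj g2 hg2
  obtain ⟨hy1, hy2, hy4, hcyc⟩ := cyc_code
  set c := c2 * c1 with hc'
  have hc : c * z = z * c := (Commute.mul_left hc2 hc1).eq
  have hcx : ∀ x : Fin 256, (S.act c).1 (dc x.val) = dc (cyc x.val) := fun x => by
    rw [hc', S.act_mul hc2 hc1, oG_mul_apply, hg1x _ x.isLt, hg2x _ (hcyc x).1]
    rfl
  have h21 : Bp (dc 2) (dc 1) = 0 := dc_perp 2 (by norm_num) rfl
  obtain ⟨b, hb, hbz, hbA⟩ := exists_sg F h21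
  have hb2 : b * b = 1 := by
    rw [sq_X F hb hbz h21 hbA, q_dc (by norm_num)]
    exact zp_zero w
  have hci := (Commute.inv_left hc).eq
  set a := c⁻¹ * w * c with had
  have ha : a ∈ oc z := by
    have := S.nrm hci F.mem
    rwa [inv_inv] at this
  have hpa : S.pr a = dc 4 := by
    have e := S.act_spec c hc a ha
    rw [show c * a * c⁻¹ = w by rw [had]; group, F.pr_eq] at e
    refine (S.act c).1.injective ?_
    rw [← e, show dc 4 = dc ((⟨4, by norm_num⟩ : Fin 256) : ℕ) from rfl, hcx, hy4]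
  have h41 : Bp (dc 4) (dc 1) = 0 := dc_perp 4 (by norm_num) rfl
  have hab : a * b = b * a := commute_of_perp F ha (by rw [hpa]; exact h41) hb hbz h21 hbA
    (by rw [hpa, Bp_dc (by norm_num) (by norm_num)]; rfl)
  obtain ⟨hsz, hact⟩ := conj_facts (S := S) hc hbz
  refine ⟨c * b * c⁻¹, hsz, ?_, sq_conj hb2, fun x => ?_, ?_, b * a,
    T_swap F h41 h21 ha (Or.inl hpa) hb hbz hbA, isConj_iff.2 ⟨c⁻¹, by rw [had]; group⟩⟩
  · calc c * b * c⁻¹ * w = c * (b * a) * c⁻¹ := by rw [had]; group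
      _ = w * (c * b * c⁻¹) := by rw [← hab, had]; group
  · obtain ⟨y, rfl⟩ := (S.act c).1.surjective x
    rw [hact, oG_mul_apply, oG_mul_apply, oG_inv_apply, hbA]
    conv_lhs => rw [← dc_cd y, sg_dc (by norm_num) (cd y).isLt,
      show dc (sgn 2 (cd y).val) = dc ((⟨sgn 2 (cd y).val, (hcyc (cd y)).2.2.2.1⟩ : Fin 256) : ℕ) from rfl,
      hcx]
    conv_rhs => rw [← dc_cd y, hcx, s0_dc (hcyc (cd y)).2.1]
    exact congrArg dc (hcyc (cd y)).2.2.2.2
  · have hb1 : b ≠ 1 := fun e => by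
      have := hbA (dc 32)
      rw [e, S.act_one, oG_one_apply, sg_dc (by norm_num) (by norm_num)] at this
      exact absurd (dc_inj (by norm_num) (hcyc ⟨32, by norm_num⟩).2.2.2.1 this) (by decide)
    exact (conj_of_invol F hb hb2 hb1).trans (isConj_iff.2 ⟨c, rfl⟩)

/-- The standard involution seen from the other side. -/
theorem mirror_s {s : G} (hsz : s * z = z * s) (hsw : s * w = w * s) (hs2 : s * s = 1)
    (hzs : IsConj z s) {n : G} (hn : InT S w n (dc 4) (dc 2)) (hsn : IsConj (s * w) n) :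
    ∃ g, g * z * g⁻¹ = w ∧ S.Fr (g⁻¹ * z * g) ∧ ∃ k, (k = 8 ∨ k = 128) ∧
      ∀ x, (S.act (g⁻¹ * s * g)).1 x = sg (dc k) (s0 x) := by
  obtain ⟨g, hg, F'⟩ := mirror F
  have hnA : ¬ IsConj z n := not_conj_z F false hn
  have hzn : ¬ IsConj z (g⁻¹ * s * g * z) := fun h => hnA (h.trans
    ((isConj_iff.2 ⟨g, by rw [← hg]; group⟩ : IsConj (g⁻¹ * s * g * z) (s * w)).trans hsn))
  obtain ⟨-, -, hmz, hmw⟩ := mirror_mem F hg (x := s)
  set s' := g⁻¹ * s * g with hs'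
  have hs'z : s' * z = z * s' := hmz hsw
  have hs'w := hmw hsz
  have hs'2 : s' * s' = 1 := by
    calc s' * s' = g⁻¹ * (s * s) * g := by rw [hs']; group
      _ = 1 := by rw [hs2]; group
  have hzs' : IsConj z s' := hzs.trans (isConj_iff.2 ⟨g⁻¹, by rw [hs', inv_inv]⟩)
  have hs'z2 : s' * z * (s' * z) = 1 := by
    calc s' * z * (s' * z) = s' * (z * s') * z := by group
      _ = s' * s' * (z * z) := by rw [← hs'z]; group
      _ = 1 := by rw [hs'2, S.zz, one_mul]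
  have hnQ : s' ∉ oc z := fun h => by
    by_cases h0 : S.pr s' = 0
    · rcases S.pr_ker s' h h0 with e | e
      · exact S.zne (by
          obtain ⟨d, hd⟩ := isConj_iff.1 hzs'
          exact conj_eq_one_iff.1 (hd.trans e))
      · obtain ⟨-, -, hA, -⟩ := T_basic F (dc_perp 4 (by norm_num) rfl) (dc_perp 2 (by norm_num) rfl) hn
        obtain ⟨d, hd⟩ := isConj_iff.1 hsn
        have hsw1 : s * w = 1 := by
          calc s * w = g * (s' * z) * g⁻¹ := by rw [hs', ← hg]; group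
            _ = 1 := by rw [e, S.zz]; group
        rw [← hd, hsw1, mul_one, mul_inv_cancel, S.act_one] at hA
        have := hA (dc 32)
        rw [oG_one_apply, sg_dc (by norm_num) (by norm_num)] at this
        exact absurd (dc_inj (by norm_num) (cyc_code.2.2.2 ⟨32, by norm_num⟩).2.2.2.1 this) (by decide)
    · refine hzn (S.conj_of_singular (mul_mem h S.zmem) ?_ ?_) <;>
        rw [S.pr_mul _ h _ S.zmem, S.pr_z, add_zero]
      · exact h0
      · refine zp_inj S.zne ?_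
        rw [← S.pr_sq _ h, hs'2, zp_zero]
  have hnoaxis : ¬ HasAxis (S.act s') := fun h => by
    rcases of_axis F hs'z hs'2 hnQ h with ⟨-, h'⟩ | ⟨t', h1, h2⟩
    · exact hzn h'
    · rcases h2 with h2 | h2
      · exact not_conj_z F false h2 (hzs'.trans h1)
      · exact not_conj_z F true h2 (hzs'.trans h1)
  have hgg : ∀ x, (S.act s').1 ((S.act s').1 x) = x := fun x => by
    rw [← oG_mul_apply, ← S.act_mul hs'z hs'z, hs'2, S.act_one, oG_one_apply]
  have hθ : ∀ y, qP 4 ((S.act s').1 y + y) = 0 := fun y => by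
    refine (zmod_cases _).resolve_right fun h1 => ?_
    obtain ⟨r, hr, rfl⟩ := S.pr_surj y
    set a := s' * r * s'⁻¹ * r⁻¹ with had
    have ham : a ∈ oc z := mul_mem (S.nrm hs'z hr) (inv_mem hr)
    have hap : S.pr a = (S.act s').1 (S.pr r) + S.pr r := by
      rw [had, S.pr_mul _ (S.nrm hs'z hr) _ (inv_mem hr), S.act_spec s' hs'z r hr, S.pr_inv hr]
    have haa : a * a = z := by rw [S.pr_sq a ham, hap, h1, zp_one]
    have hinv : s' * a * s'⁻¹ = a⁻¹ := by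
      refine eq_inv_of_mul_eq_one_left ?_
      rw [had, inv_eq_of_mul_eq_one_right hs'2]
      calc s' * (s' * r * s' * r⁻¹) * s' * (s' * r * s' * r⁻¹) =
            s' * s' * (r * s' * r⁻¹ * (s' * s') * r * s' * r⁻¹) := by group
        _ = r * s' * r⁻¹ * r * s' * r⁻¹ := by rw [hs'2]; group
        _ = r * (s' * s') * r⁻¹ := by group
        _ = 1 := by rw [hs'2]; group
    refine hzn (hzs'.trans (isConj_iff.2 ⟨a, ?_⟩))
    calc a * s' * a⁻¹ = a * (s' * a⁻¹ * s'⁻¹) * s' := by group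
      _ = a * (s' * a * s'⁻¹)⁻¹ * s' := by group
      _ = a * a * s' := by rw [hinv, inv_inv]
      _ = s' * z := by rw [haa, hs'z]
  have hker : ∀ x, (S.act s').1 x = x → ∃ y, (S.act s').1 y + y = x := by
    rcases nf F hs'z hs'2 hnQ with h | ⟨c, k, hc, hk, hA⟩
    · exact absurd h hnoaxis
    obtain ⟨-, hact⟩ := conj_facts (S := S) hc hs'z
    have happ : ∀ x, (S.act (c * s' * c⁻¹)).1 ((S.act c).1 x) = (S.act c).1 ((S.act s').1 x) := fun x => by
      rw [hact, oG_mul_apply, oG_mul_apply, oG_inv_apply]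
    have hk8 : k = 8 ∨ k = 128 := by
      rcases hk with rfl | rfl | rfl
      · exact Or.inl rfl
      · exact Or.inr rfl
      · exfalso
        have h := theta_code ⟨136, by norm_num⟩ (by decide) (by decide) (by decide) (by decide)
        have h' := hθ ((S.act c)⁻¹.1 (dc 16))
        rw [← (S.act c).2, map_add, oG_apply_inv, ← happ, oG_apply_inv, hA, s0_dc (by norm_num),
          sg_dc (by norm_num) (by decide), ← dc_xor, q_dc (by decide), bz_eq_zero] at h'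
        exact Bool.false_ne_true (h'.symm.trans h)
    intro x hx
    have hk256 : k < 256 := by omega
    have hfix : sg (dc k) (s0 ((S.act c).1 x)) = (S.act c).1 x := by rw [← hA, happ, hx]
    have hlt : ∀ i : Fin 256, sgn k (s0n i.val) < 256 := fun i => by
      have := (cyc_code.2.2.2 i).2.2.1
      unfold sgn
      refine xor_lt (xor_lt this (by split_ifs <;> norm_num)) ?_
      split_ifs <;> first | (exact xor_lt hk256 (by norm_num)) | norm_num
    have hsd : ∀ i : Fin 256, dc (sgn k (s0n i.val)) = sg (dc k) (s0 (dc i.val)) := fun i => by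
      rw [s0_dc i.isLt, sg_dc hk256 (cyc_code.2.2.2 i).2.2.1]
    obtain ⟨y, hy⟩ := kernel_code ⟨k, hk256⟩ hk8 (cd ((S.act c).1 x))
      (dc_inj (hlt _) (cd _).isLt (by rw [hsd, dc_cd, hfix]))
    refine ⟨(S.act c)⁻¹.1 (dc y.val), (S.act c).1.injective ?_⟩
    rw [map_add, oG_apply_inv, ← happ, oG_apply_inv, hA, ← hsd, ← dc_xor, hy, dc_cd]
  have he : (S.act s').1 (dc 1) = dc 1 := by
    rw [← F'.pr_eq, ← S.act_spec s' hs'z _ F'.mem, mul_inv_eq_of_eq_mul hs'w]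
  obtain ⟨y, hy⟩ := hker _ he
  have hk : ∀ x, (S.act s').1 x = x → Bp x (dc 1) = 0 := fun x hx => by
    obtain ⟨y', rfl⟩ := hker x hx
    have hh : Bp ((S.act s').1 y') (dc 1) = Bp y' (dc 1) := by
      conv_lhs => rw [← he]
      exact polar_g _ _ _
    rw [Bp_add_left, hh, two_zero]
  rcases nf_fixed F' hs'z hs'2 he ⟨y, hy.symm⟩ hk (fun x _ => hθ x) with h | ⟨c, k, hc, hcw, hk3, hA⟩
  · exact absurd h hnoaxis
  obtain ⟨-, hact⟩ := conj_facts (S := S) hc hs'z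
  have hk8 : k = 8 ∨ k = 128 := by
    rcases hk3 with rfl | rfl | rfl
    · exact Or.inl rfl
    · exact Or.inr rfl
    · exfalso
      have h := theta_code ⟨136, by norm_num⟩ (by decide) (by decide) (by decide) (by decide)
      have h' := hθ ((S.act c)⁻¹.1 (dc 16))
      rw [← (S.act c).2, map_add, oG_apply_inv] at h'
      rw [show (S.act c).1 ((S.act s').1 ((S.act c)⁻¹.1 (dc 16))) = (S.act (c * s' * c⁻¹)).1 (dc 16) by
        rw [hact, oG_mul_apply, oG_mul_apply], hA, s0_dc (by norm_num),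
        sg_dc (by norm_num) (by decide), ← dc_xor, q_dc (by decide), bz_eq_zero] at h'
      exact Bool.false_ne_true (h'.symm.trans h)
  have e : (g * c⁻¹)⁻¹ * z * (g * c⁻¹) = g⁻¹ * z * g := by
    calc (g * c⁻¹)⁻¹ * z * (g * c⁻¹) = c * (g⁻¹ * z * g) * c⁻¹ := by group
      _ = g⁻¹ * z * g := by rw [hcw, mul_inv_cancel_right]
  refine ⟨g * c⁻¹, ?_, e ▸ F', k, hk8, fun x => ?_⟩
  · calc g * c⁻¹ * z * (g * c⁻¹)⁻¹ = g * (c⁻¹ * (z * c)) * g⁻¹ := by group
      _ = w := by rw [← hc, ← hg]; group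
  · rw [show (g * c⁻¹)⁻¹ * s * (g * c⁻¹) = c * s' * c⁻¹ by rw [hs']; group, hA]

/-- Every involution of the centraliser is conjugate to `z` or to a standard one. -/
theorem classify {t : G} (ht : t * z = z * t) (h2 : t * t = 1) (h1 : t ≠ 1) : Tri S w t := by
  classical
  by_cases hn : t ∈ oc z
  · left
    by_cases h0 : S.pr t = 0
    · rcases S.pr_ker t hn h0 with e | e
      · exact absurd e h1
      · exact e ▸ IsConj.refl z
    · exact S.conj_of_singular hn h0 (zp_inj S.zne (by rw [← S.pr_sq t hn, h2, zp_zero]))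
  obtain ⟨s, hsz, hsw, hs2, hsA, hzs, n, hnT, hsn⟩ := exists_s F
  obtain ⟨g, hg, F', k₀, hk₀, hs'A⟩ := mirror_s F hsz hsw hs2 hzs hnT hsn
  set w' := g⁻¹ * z * g with hw'
  set s' := g⁻¹ * s * g with hs'
  have hs'z : s' * z = z * s' := (mirror_mem F hg).2.2.1 hsw
  -- the map to the other side
  have hmap : ∀ a ∈ oc z, Bp (S.pr a) (dc 1) = 0 → ∃ x, Bp x (dc 1) = 0 ∧
      g⁻¹ * a * g ∈ oc w' ∧ g⁻¹ * a * g * z = z * (g⁻¹ * a * g) ∧
      (∀ y, (S.act (g⁻¹ * a * g)).1 y = sg x y) ∧ qP 4 x = qP 4 (S.pr a) ∧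
      (Bp (S.pr a) (dc 2) = 0 → Bp (S.pr a) (dc 4) = 0 → Bp x (dc 2) = 0 ∧ Bp x (dc 4) = 0) := by
    intro a ha hv
    obtain ⟨-, hm, hmz, -⟩ := mirror_mem F hg (x := a)
    have hmem := hm ha
    have hmc := hmz (comm_of_perp F ha hv)
    obtain ⟨x, hx, hxA⟩ := act_sg F' hmem hmc
    refine ⟨x, hx, hmem, hmc, hxA, ?_, fun h2 h4 => ?_⟩
    · have h := sq_X F' hmem hmc hx hxA
      refine zp_inj (wne F') (h.symm.trans ?_)
      calc g⁻¹ * a * g * (g⁻¹ * a * g) = g⁻¹ * (a * a) * g := by group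
        _ = zp w' (qP 4 (S.pr a)) := by
          rw [S.pr_sq a ha]
          rcases zmod_cases (qP 4 (S.pr a)) with e | e <;> rw [e]
          · simp [zp_zero]
          · rw [zp_one, zp_one]
    · set a' := g⁻¹ * a * g with ha'
      have hk : s * a * s⁻¹ * a⁻¹ ∈ oc z := mul_mem (S.nrm hsz ha) (inv_mem ha)
      have hkp : S.pr (s * a * s⁻¹ * a⁻¹) = 0 := by
        rw [S.pr_mul _ (S.nrm hsz ha) _ (inv_mem ha), S.act_spec s hsz a ha, S.pr_inv ha, hsA,
          s0_eq h2 h4, v_add_self]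
      have hsame : ∀ y, (S.act (s' * a' * s'⁻¹)).1 y = (S.act a').1 y := by
        intro y
        rcases S.pr_ker _ hk hkp with e | e
        · rw [show s' * a' * s'⁻¹ = g⁻¹ * (s * a * s⁻¹ * a⁻¹) * g * a' by rw [hs', ha']; group, e]
          rw [show g⁻¹ * 1 * g * a' = a' by group]
        · rw [show s' * a' * s'⁻¹ = g⁻¹ * (s * a * s⁻¹ * a⁻¹) * g * a' by rw [hs', ha']; group, e]
          rw [show g⁻¹ * z * g * a' = w' * a' by rw [hw'], S.act_mul (S.comm F'.mem) hmc,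
            S.act_inner F'.mem, one_mul]
      have hk256 : k₀ < 256 := by omega
      obtain ⟨c1, c2, c4, -⟩ := cls_code ⟨k₀, hk256⟩ (hk₀.imp id Or.inl)
      have hk1 : Bp (dc k₀) (dc 1) = 0 := dc_perp _ hk256 c1
      refine s0_fix ?_
      have hsx : Bp (s0 x) (dc 1) = 0 := by rw [s0_Bp_one, hx]
      refine sg_inj (by rw [Bp_add_left, hx, hsx, add_zero]) fun y => ?_
      obtain ⟨p, rfl⟩ : ∃ p, sg (dc k₀) (s0 p) = y := ⟨s0 (sg (dc k₀) y), by rw [s0_invol, sg_invol hk1]⟩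
      have e1 := hsame (sg (dc k₀) (s0 p))
      rw [(conj_facts (S := S) hs'z hmc).2, oG_mul_apply, oG_mul_apply, ← hs'A, oG_inv_apply, hxA, hxA, hs'A,
        hs'A, s0_sg] at e1
      have e2 : sg (dc k₀) (sg (s0 x) (s0 p)) = sg (s0 x) (sg (dc k₀) (s0 p)) := by
        rw [sg_comp hk1 hsx, sg_comp hsx hk1, add_comm]
      rw [e2] at e1
      rw [← sg_comp hx hsx, e1, sg_invol hx]
  -- normal form
  rcases nf F ht h2 hn with h | ⟨c, k, hc, hk, hA⟩
  · exact tri_axis F ht h2 hn h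
  refine Tri.of_conj (isConj_iff.2 ⟨c, rfl⟩) ?_
  -- decomposition of an element in normal form
  have hdec : ∀ {t : G} {k : ℕ}, t * z = z * t → t * t = 1 → (k = 8 ∨ k = 128 ∨ k = 136) →
      (∀ x, (S.act t).1 x = sg (dc k) (s0 x)) → ∃ b a : G, b ∈ oc w ∧ b * z = z * b ∧ a ∈ oc z ∧
        (∀ y, (S.act b).1 y = sg (dc k) y) ∧ t = b * a * s ∧ Bp (S.pr a) (dc 1) = 0 ∧
        Bp (S.pr a) (dc 2) = 0 ∧ Bp (S.pr a) (dc 4) = 0 := by
    intro t k ht h2 hk hA
    have hk256 : k < 256 := by omega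
    obtain ⟨c1, c2, c4, cc⟩ := cls_code ⟨k, hk256⟩ hk
    have hk1 : Bp (dc k) (dc 1) = 0 := dc_perp _ hk256 c1
    have hks : s0 (dc k) = dc k := s0_eq (by rw [Bp_dc hk256 (by norm_num), c2]; rfl)
      (by rw [Bp_dc hk256 (by norm_num), c4]; rfl)
    have hcomm : t * w = w * t := by
      obtain ⟨v, hv, hvk, hvs⟩ := partner_code ⟨k, hk256⟩ c1 c2 c4 (by
        show (k : ℕ) &&& 136 ≠ 0
        rcases hk with rfl | rfl | rfl <;> decide)
      have hv' : v = 8 ∨ v = 128 := by simpa using hv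
      have hv256 : v < 256 := by rcases hv' with rfl | rfl <;> norm_num
      have hve : Bp (dc v) (dc 1) = 0 := dc_perp _ hv256 (by rcases hv' with rfl | rfl <;> rfl)
      obtain ⟨r, hr, hre⟩ := S.pr_surj (dc v)
      have hs0 : s0 (dc v) = dc v := by rw [s0_dc hv256, hvs]
      set a := t * r * t⁻¹ * r⁻¹ with had
      have ham : a ∈ oc z := mul_mem (S.nrm ht hr) (inv_mem hr)
      have hap : S.pr a = dc 1 := by
        rw [had, S.pr_mul _ (S.nrm ht hr) _ (inv_mem hr), S.act_spec t ht r hr, S.pr_inv hr, hre, hA,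
          hs0, sg_perp hve, Bp_dc hv256 hk256, hvk, show bz true = 1 from rfl, one_smul,
          add_right_comm, v_add_self, zero_add]
      have ha2 : a * a = 1 := by rw [S.pr_sq a ham, hap, q_e, zp_zero]
      have hinv : t * a * t⁻¹ = a⁻¹ := by
        refine eq_inv_of_mul_eq_one_left ?_
        rw [had, inv_eq_of_mul_eq_one_right h2]
        calc t * (t * r * t * r⁻¹) * t * (t * r * t * r⁻¹) =
              t * t * (r * t * r⁻¹ * (t * t) * r * t * r⁻¹) := by group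
          _ = r * t * r⁻¹ * r * t * r⁻¹ := by rw [h2]; group
          _ = r * (t * t) * r⁻¹ := by group
          _ = 1 := by rw [h2]; group
      rw [inv_eq_of_mul_eq_one_right ha2, mul_inv_eq_iff_eq_mul] at hinv
      rcases S.pr_eq F.mem ham (F.pr_eq.trans hap.symm) with e | e <;> rw [e] at hinv
      · exact hinv
      · rw [← mul_assoc, mul_assoc w z t, ← ht, ← mul_assoc] at hinv
        exact mul_right_cancel hinv
    obtain ⟨b, hb, hbz, hbA⟩ := exists_sg F hk1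
    have hsi : s⁻¹ = s := inv_eq_of_mul_eq_one_right hs2
    have hbzi := (Commute.inv_left hbz).eq
    have hts : t * s * z = z * (t * s) := (Commute.mul_left ht hsz).eq
    have ha : b⁻¹ * (t * s) ∈ oc z := S.act_ker _ (Commute.mul_left hbzi hts).eq (ext_oG fun x => by
      rw [S.act_mul hbzi hts, S.act_mul ht hsz, S.act_inv hbz, oG_mul_apply, oG_mul_apply, hsA, hA,
        s0_invol, oG_one_apply]
      exact (S.act b).1.injective (by rw [oG_apply_inv, hbA]))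
    set a := b⁻¹ * (t * s) with had
    have htd : t = b * a * s := by
      calc t = t * (s * s) := by rw [hs2, mul_one]
        _ = b * a * s := by rw [had]; group
    have hv : Bp (S.pr a) (dc 1) = 0 := perp_of_comm F ha
      (Commute.mul_left (Commute.inv_left (comm_w F hb)) (Commute.mul_left hcomm hsw)).eq
    refine ⟨b, a, hb, hbz, ha, hbA, htd, hv, ?_⟩
    -- `s` centralises `b` modulo the intersection
    obtain ⟨kk, hkk, hkk', hsb⟩ := same_act F hb hbz (nrm_w F hsw hb)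
      (((Commute.mul_left hsz hbz).mul_left (Commute.inv_left hsz)).eq) (fun y => by
        rw [(conj_facts (S := S) hsz hbz).2, oG_mul_apply, oG_mul_apply, hsA, hbA, hbA, s0_sg, hks]
        congr 1
        rw [← hsA, oG_apply_inv])
    obtain ⟨i, j, hkij⟩ := k_cases F hkk hkk'
    have e : b * a * b⁻¹ * (b * b * kk) * (s * a * s⁻¹) = 1 := by
      calc b * a * b⁻¹ * (b * b * kk) * (s * a * s⁻¹) = b * a * (b * kk) * (s * a * s⁻¹) := by group
        _ = b * a * (s * b * s⁻¹) * (s * a * s⁻¹) := by rw [← hsb]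
        _ = b * a * s * (b * a * s⁻¹) := by group
        _ = 1 := by rw [hsi, ← htd, h2]
    have hp := congrArg S.pr e
    have hm1 := S.nrm hbz ha
    have hm2 := S.nrm hsz ha
    rw [sq_X F hb hbz hk1 hbA, hkij, show zp w (qP 4 (dc k)) = zp w (qP 4 (dc k)) * zp z 0 by
      rw [zp_zero, mul_one], k_mul F, S.pr_one] at hp
    obtain ⟨hc1, -, hc3⟩ := k_spec F (qP 4 (dc k) + i) (0 + j)
    rw [S.pr_mul _ (mul_mem hm1 hc1) _ hm2, S.pr_mul _ hm1 _ hc1, hc3, S.act_spec b hbz a ha,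
      S.act_spec s hsz a ha, hbA, hsA, sg_perp hv] at hp
    refine s0_fix ?_
    have hm : S.pr a + s0 (S.pr a) = (Bp (S.pr a) (dc k) + (qP 4 (dc k) + i)) • dc 1 := by
      funext n
      have hn := congrFun hp n
      simp only [Pi.add_apply, Pi.smul_apply, Pi.zero_apply, smul_eq_mul] at hn ⊢
      exact (by decide : ∀ v s x m o : ZMod 2, v + x * o + m * o + s = 0 → v + s = (x + m) * o) _ _ _ _ _ hn
    rw [hm]
    rcases zmod_cases (Bp (S.pr a) (dc k) + (qP 4 (dc k) + i)) with e' | e' <;> rw [e']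
    · exact Or.inl (zero_smul _ _)
    · exact Or.inr (one_smul _ _)
  have hk256 : k₀ < 256 := by omega
  obtain ⟨k01, k02, k04, k0c⟩ := cls_code ⟨k₀, hk256⟩ (hk₀.imp id Or.inl)
  dsimp only at k01 k02 k04 k0c
  have hcd : ∀ {m : ℕ}, m < 256 → cls (dc m) = m &&& 136 := fun {m} hm => by
    rw [cls, show dc m = dc ((⟨m, hm⟩ : Fin 256) : ℕ) from rfl, cd_dc]
  have hk1 : Bp (dc k₀) (dc 1) = 0 := dc_perp _ hk256 k01
  have hk2 : Bp (dc k₀) (dc 2) = 0 := by rw [Bp_dc hk256 (by norm_num), k02]; rfl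
  have hk4 : Bp (dc k₀) (dc 4) = 0 := by rw [Bp_dc hk256 (by norm_num), k04]; rfl
  have hswz : IsConj (s' * z) n :=
    ((isConj_iff.2 ⟨g, by rw [hs', ← hg]; group⟩ : IsConj (s' * z) (s * w))).trans hsn
  -- actions on the other side
  have hfin : ∀ {t₁ : G} {X : V}, t₁ * z = z * t₁ → t₁ * t₁ = 1 → Bp X (dc 1) = 0 → Bp X (dc 2) = 0 →
      Bp X (dc 4) = 0 → (∀ y, (S.act t₁).1 y = sg X (s0 y)) → (cls X = 0 ∨ cls X = k₀) → Tri S w t₁ := by
    intro t₁ X h₁ s₁ x1 x2 x4 hX hcase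
    obtain ⟨c, hc, -, hA⟩ := exact_sigma F h₁ x1 x2 x4 hX
    obtain ⟨hz', -⟩ := conj_facts (S := S) hc h₁
    refine Tri.of_conj (isConj_iff.2 ⟨c, rfl⟩) ?_
    rcases hcase with e | e
    · simp only [e, dc_zero, sg_zero] at hA
      refine tri_axis F hz' (sq_conj s₁) (fun h => ?_) ⟨dc 2, fun h => ?_, by rw [q_dc (by norm_num)]; rfl,
        by rw [hA, s0_dc (by norm_num)]; rfl, fun x hx => ?_⟩
      · have := hA (dc 32)
        rw [S.act_inner h, oG_one_apply, s0_dc (by norm_num)] at this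
        exact absurd (dc_inj (by norm_num) (by decide) this) (by decide)
      · exact absurd (dc_inj (by norm_num) (by norm_num) (h.trans dc_zero.symm)) (by norm_num)
      · rw [hA, s0, hx, zero_smul, add_zero, add_right_comm, v_add_self, zero_add]
        rcases zmod_cases (Bp x (dc 4)) with e' | e' <;> rw [e']
        · exact Or.inl (zero_smul _ _)
        · exact Or.inr (one_smul _ _)
    · simp only [e] at hA
      have hs'2 : s' * s' = 1 := by
        calc s' * s' = g⁻¹ * (s * s) * g := by rw [hs']; group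
          _ = 1 := by rw [hs2]; group
      rcases same_sigma hs'z hz' hs'2 (sq_conj s₁) hk₀ hs'A hA with h | h
      · exact Or.inl ((hzs.trans (isConj_iff.2 ⟨g⁻¹, by rw [hs', inv_inv]⟩ : IsConj s s')).trans h.symm)
      · exact Or.inr ⟨n, h.trans hswz, Or.inl hnT⟩
  -- both ways of looking at a decomposed involution
  have hlook : ∀ {t b a : G} {k : ℕ}, k < 256 → t * z = z * t → t * t = 1 → b ∈ oc w → b * z = z * b →
      a ∈ oc z → (∀ y, (S.act b).1 y = sg (dc k) y) → t = b * a * s → Bp (S.pr a) (dc 1) = 0 →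
      Bp (S.pr a) (dc 2) = 0 → Bp (S.pr a) (dc 4) = 0 → Bp (dc k) (dc 1) = 0 → Bp (dc k) (dc 2) = 0 →
      Bp (dc k) (dc 4) = 0 →
      ∃ x xu x' : V, ∃ t₁ t₂ : G, IsConj t t₁ ∧ IsConj t t₂ ∧ t₁ * z = z * t₁ ∧ t₂ * z = z * t₂ ∧
        t₁ * t₁ = 1 ∧ t₂ * t₂ = 1 ∧
        (Bp x (dc 1) = 0 ∧ Bp x (dc 2) = 0 ∧ Bp x (dc 4) = 0) ∧
        (Bp x' (dc 1) = 0 ∧ Bp x' (dc 2) = 0 ∧ Bp x' (dc 4) = 0) ∧
        (Bp xu (dc 1) = 0 ∧ Bp xu (dc 2) = 0 ∧ Bp xu (dc 4) = 0) ∧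
        (∀ y, (S.act t₁).1 y = sg (x + dc k₀) (s0 y)) ∧ (∀ y, (S.act t₂).1 y = sg (x' + dc k₀) (s0 y)) ∧
        cls x' = cls xu ^^^ cls x ∧ qP 4 x = qP 4 (S.pr a) ∧ qP 4 xu = qP 4 (dc k) ∧
        ∃ v', cls v' = cls (dc k) ^^^ cls (S.pr a) ∧ Bp v' (dc 1) = 0 ∧ Bp v' (dc 2) = 0 ∧
          Bp v' (dc 4) = 0 ∧ qP 4 x' = qP 4 v' := by
    intro t b a k hk ht h2 hb hbz ha hbA htd v1 v2 v4 c1 c2 c4
    obtain ⟨x, x1, hxm, hxc, hxA, hxq, hx24⟩ := hmap a ha v1
    obtain ⟨y, hy, hye⟩ := S.pr_surj (dc 16)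
    obtain ⟨a', ha', hpa', hconj⟩ := conj_y F hy hye hbz c1 hbA
    obtain ⟨hp1, hpq, hp2, -⟩ := shift_facts c1 (dc_perp 2 (by norm_num) rfl) hpa'
    obtain ⟨-, -, hp4, -⟩ := shift_facts c1 (dc_perp 4 (by norm_num) rfl) hpa'
    rw [c2] at hp2
    rw [c4] at hp4
    obtain ⟨xu, xu1, hxum, hxuc, hxuA, hxuq, hxu24⟩ := hmap a' ha' hp1
    have v1' : Bp (S.pr (a' * a)) (dc 1) = 0 := by rw [S.pr_mul _ ha' _ ha, Bp_add_left, hp1, v1, add_zero]
    obtain ⟨x', x'1, -, -, hx'A, hx'q, hx'24⟩ := hmap (a' * a) (mul_mem ha' ha) v1'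
    have hprod : S.pr (a' * a) = S.pr a' + S.pr a := S.pr_mul _ ha' _ ha
    have v2' : Bp (S.pr (a' * a)) (dc 2) = 0 := by rw [hprod, Bp_add_left, hp2, v2, add_zero]
    have v4' : Bp (S.pr (a' * a)) (dc 4) = 0 := by rw [hprod, Bp_add_left, hp4, v4, add_zero]
    have hmul : g⁻¹ * (a' * a) * g = g⁻¹ * a' * g * (g⁻¹ * a * g) := by group
    have hcls : cls x' = cls xu ^^^ cls x := by
      have hid : ∀ p, sg (x' + (xu + x)) p = p := fun p => by
        rw [← sg_comp x'1 (by rw [Bp_add_left, xu1, x1, add_zero]), ← sg_comp xu1 x1, ← hxA, ← hxuA,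
          ← oG_mul_apply, ← S.act_mul hxuc hxc, ← hmul, hx'A, sg_invol x'1]
      rw [← cls_add]
      rcases sg_inj (by rw [Bp_add_left, Bp_add_left, x'1, xu1, x1, add_zero, add_zero]) hid with e | e
      · rw [v_eq_of_add e]
      · have e' : x' = dc 1 + (xu + x) := by rw [← e, add_cancel_pair]
        rw [e', cls_add, hcd (by norm_num), show (1 : ℕ) &&& 136 = 0 from rfl, Nat.zero_xor]
    have hbm : g⁻¹ * b * g ∈ oc z := (mirror_mem F hg).1 hb
    have hact : ∀ {a₁ : G} {x₁ : V}, Bp x₁ (dc 1) = 0 → g⁻¹ * a₁ * g * z = z * (g⁻¹ * a₁ * g) →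
        (∀ p, (S.act (g⁻¹ * a₁ * g)).1 p = sg x₁ p) → ∀ p,
        (S.act (g⁻¹ * b * g * (g⁻¹ * a₁ * g) * s')).1 p = sg (x₁ + dc k₀) (s0 p) := by
      intro a₁ x₁ h₁ hc₁ hA₁ p
      rw [S.act_mul (Commute.mul_left (S.comm hbm) hc₁).eq hs'z, S.act_mul (S.comm hbm) hc₁,
        S.act_inner hbm, one_mul, oG_mul_apply, hs'A, hA₁, sg_comp h₁ hk1]
    have htg : g⁻¹ * t * g = g⁻¹ * b * g * (g⁻¹ * a * g) * s' := by rw [htd, hs']; group
    -- conjugation by `y`
    have hym : ∀ {q : G}, q ∈ oc z → y * q * y⁻¹ * q⁻¹ ∈ oc z := fun {q} hq =>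
      mul_mem (mul_mem (mul_mem hy hq) (inv_mem hy)) (inv_mem hq)
    have hya : S.pr (y * a * y⁻¹ * a⁻¹) = 0 := by
      rw [S.pr_mul _ (mul_mem (mul_mem hy ha) (inv_mem hy)) _ (inv_mem ha), S.act_spec y (S.comm hy) a ha,
        S.act_inner hy, oG_one_apply, S.pr_inv ha, v_add_self]
    have hys : y * s * y⁻¹ * s⁻¹ ∈ oc z ∧ S.pr (y * s * y⁻¹ * s⁻¹) = 0 := by
      rw [show y * s * y⁻¹ * s⁻¹ = y * (s * y⁻¹ * s⁻¹) by group]
      refine ⟨mul_mem hy (S.nrm hsz (inv_mem hy)), ?_⟩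
      rw [S.pr_mul _ hy _ (S.nrm hsz (inv_mem hy)), S.act_spec s hsz _ (inv_mem hy), S.pr_inv hy, hye, hsA,
        s0_dc (by norm_num), show s0n 16 = 16 by decide, v_add_self]
    obtain ⟨e1, he1⟩ : ∃ e, y * a * y⁻¹ * a⁻¹ = zp z e := by
      rcases S.pr_ker _ (hym ha) hya with h | h
      exacts [⟨0, by rw [h, zp_zero]⟩, ⟨1, by rw [h, zp_one]⟩]
    obtain ⟨e2, he2⟩ : ∃ e, y * s * y⁻¹ * s⁻¹ = zp z e := by
      rcases S.pr_ker _ hys.1 hys.2 with h | h
      exacts [⟨0, by rw [h, zp_zero]⟩, ⟨1, by rw [h, zp_one]⟩]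
    have hty : y * t * y⁻¹ = b * (a' * a) * s * (zp z e1 * zp z e2) := by
      have ea : y * a * y⁻¹ = a * zp z e1 := by
        rw [S.comm_zp (S.comm ha), ← he1]; group
      have es : y * s * y⁻¹ = s * zp z e2 := by
        rw [S.comm_zp hsz, ← he2]; group
      calc y * t * y⁻¹ = (y * b * y⁻¹) * (y * a * y⁻¹) * (y * s * y⁻¹) := by rw [htd]; group
        _ = b * (a' * a) * (zp z e1 * s) * zp z e2 := by rw [hconj, ea, es]; group
        _ = _ := by rw [← S.comm_zp hsz]; group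
    obtain ⟨-, hkz⟩ : True ∧ ∀ e, g⁻¹ * zp z e * g ∈ oc z := by
      refine ⟨trivial, fun e => ?_⟩
      rcases zmod_cases e with rfl | rfl
      · rw [zp_zero, show g⁻¹ * 1 * g = (1 : G) by group]; exact one_mem _
      · rw [zp_one]; exact F'.mem
    have hq1 : g⁻¹ * (zp z e1 * zp z e2) * g ∈ oc z := by
      rw [← zp_add S.zz]; exact hkz _
    have hzt₁ : g⁻¹ * t * g * z = z * (g⁻¹ * t * g) := (mirror_mem F hg).2.2.1 (by
      rw [htd]
      exact (Commute.mul_left (Commute.mul_left (comm_w F hb) (comm_of_perp F ha v1)) hsw).eq)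
    have hxc' : g⁻¹ * (a' * a) * g * z = z * (g⁻¹ * (a' * a) * g) :=
      (mirror_mem F hg).2.2.1 (comm_of_perp F (mul_mem ha' ha) v1')
    have htg2 : g⁻¹ * (y * t * y⁻¹) * g =
        g⁻¹ * b * g * (g⁻¹ * (a' * a) * g) * s' * (g⁻¹ * (zp z e1 * zp z e2) * g) := by
      rw [hty, hs']; group
    have hz3 : g⁻¹ * b * g * (g⁻¹ * (a' * a) * g) * s' * z = z * (g⁻¹ * b * g * (g⁻¹ * (a' * a) * g) * s') :=
      (Commute.mul_left (Commute.mul_left (S.comm hbm) hxc') hs'z).eq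
    refine ⟨x, xu, x', g⁻¹ * t * g, g⁻¹ * (y * t * y⁻¹) * g, isConj_iff.2 ⟨g⁻¹, by rw [inv_inv]⟩,
      isConj_iff.2 ⟨g⁻¹ * y, by group⟩, hzt₁, ?_, ?_, ?_, ⟨x1, hx24 v2 v4⟩, ⟨x'1, hx'24 v2' v4'⟩,
      ⟨xu1, hxu24 hp2 hp4⟩, fun p => by rw [htg]; exact hact x1 hxc hxA p, fun p => ?_, hcls, hxq,
      hxuq.trans hpq, S.pr (a' * a), ?_, v1', v2', v4', hx'q⟩
    · rw [htg2]; exact (Commute.mul_left hz3 (S.comm hq1)).eq
    · calc g⁻¹ * t * g * (g⁻¹ * t * g) = g⁻¹ * (t * t) * g := by group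
        _ = 1 := by rw [h2]; group
    · calc g⁻¹ * (y * t * y⁻¹) * g * (g⁻¹ * (y * t * y⁻¹) * g) = g⁻¹ * y * (t * t) * y⁻¹ * g := by group
        _ = 1 := by rw [h2]; group
    · rw [htg2, S.act_mul hz3 (S.comm hq1), S.act_inner hq1, mul_one]
      exact hact x'1 hxc' hx'A p
    · rw [hprod, cls_add]
      rcases hpa' with e | e <;> rw [e]
      rw [cls_add, hcd (m := 1) (by norm_num), show (1 : ℕ) &&& 136 = 0 from rfl, Nat.xor_zero]
  have hX : ∀ {X : V}, Bp X (dc 1) = 0 ∧ Bp X (dc 2) = 0 ∧ Bp X (dc 4) = 0 →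
      (Bp (X + dc k₀) (dc 1) = 0 ∧ Bp (X + dc k₀) (dc 2) = 0 ∧ Bp (X + dc k₀) (dc 4) = 0) := by
    rintro X ⟨a1, a2, a4⟩
    refine ⟨?_, ?_, ?_⟩ <;> rw [Bp_add_left]
    · rw [a1, hk1, add_zero]
    · rw [a2, hk2, add_zero]
    · rw [a4, hk4, add_zero]
  have hclsX : ∀ X : V, cls (X + dc k₀) = cls X ^^^ k₀ := fun X => by rw [cls_add, hcd hk256, k0c]
  -- the non-singular case
  have h136 : ∀ {t : G}, t * z = z * t → t * t = 1 → (∀ x, (S.act t).1 x = sg (dc 136) (s0 x)) →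
      Tri S w t := by
    intro t ht h2 hA
    obtain ⟨b, a, hb, hbz, ha, hbA, htd, v1, v2, v4⟩ := hdec ht h2 (Or.inr (Or.inr rfl)) hA
    obtain ⟨x, xu, x', t₁, t₂, hc₁, hc₂, hz₁, hz₂, hs₁, hs₂, hx, hx', hxu, hA₁, hA₂, hcl, -, hxuq, -⟩ :=
      hlook (by norm_num) ht h2 hb hbz ha hbA htd v1 v2 v4 (dc_perp 136 (by norm_num) rfl)
        (by rw [Bp_dc (by norm_num) (by norm_num)]; rfl) (by rw [Bp_dc (by norm_num) (by norm_num)]; rfl)
    obtain ⟨hxc, -⟩ := cls_facts hx.1 hx.2.1 hx.2.2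
    have hxu136 : cls xu = 136 := by
      obtain ⟨-, hq⟩ := cls_facts hxu.1 hxu.2.1 hxu.2.2
      rw [hxuq, q_dc (by norm_num)] at hq
      exact of_decide_eq_true ((bz_inj _ _ hq).symm.trans (by decide))
    have hor : (cls (x + dc k₀) = 0 ∨ cls (x + dc k₀) = k₀) ∨
        (cls (x' + dc k₀) = 0 ∨ cls (x' + dc k₀) = k₀) := by
      rw [hclsX, hclsX, hcl, hxu136]
      rcases hk₀ with rfl | rfl <;> rcases hxc with e | e | e | e <;> rw [e] <;> decide
    rcases hor with h | h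
    · exact (hfin hz₁ hs₁ (hX hx).1 (hX hx).2.1 (hX hx).2.2 hA₁ h).of_conj hc₁
    · exact (hfin hz₂ hs₂ (hX hx').1 (hX hx').2.1 (hX hx').2.2 hA₂ h).of_conj hc₂
  obtain ⟨hz', -⟩ := conj_facts (S := S) hc ht
  rcases hk with rfl | rfl | rfl
  rotate_left 2
  · exact h136 hz' (sq_conj h2) hA
  all_goals
    obtain ⟨b, a, hb, hbz, ha, hbA, htd, v1, v2, v4⟩ := hdec hz' (sq_conj h2) (by omega) hA
    obtain ⟨x, xu, x', t₁, t₂, hc₁, hc₂, hz₁, hz₂, hs₁, hs₂, hx, hx', hxu, hA₁, hA₂, -, hxq, -,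
      v', hv', w1, w2, w4, hx'q⟩ := hlook (by norm_num) hz' (sq_conj h2) hb hbz ha hbA htd v1 v2 v4
        (dc_perp _ (by norm_num) rfl) (by rw [Bp_dc (by norm_num) (by norm_num)]; rfl)
        (by rw [Bp_dc (by norm_num) (by norm_num)]; rfl)
    rw [hcd (by norm_num)] at hv'
    have hone : ∀ {t₁ : G} {X : V}, t₁ * z = z * t₁ → t₁ * t₁ = 1 →
        Bp X (dc 1) = 0 ∧ Bp X (dc 2) = 0 ∧ Bp X (dc 4) = 0 →
        (∀ p, (S.act t₁).1 p = sg (X + dc k₀) (s0 p)) → qP 4 X = 0 → Tri S w t₁ := by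
      intro t₁ X h₁ s₁ hX₁ hA₁ hq
      obtain ⟨a1, a2, a4⟩ := hX hX₁
      obtain ⟨hc4, hq4⟩ := cls_facts hX₁.1 hX₁.2.1 hX₁.2.2
      rw [hq] at hq4
      have hne : cls X ≠ 136 := fun e => by
        rw [e] at hq4
        exact zero_ne_one hq4
      by_cases hd : cls (X + dc k₀) = 0 ∨ cls (X + dc k₀) = k₀
      · exact hfin h₁ s₁ a1 a2 a4 hA₁ hd
      have h' : cls (X + dc k₀) = 136 := by
        rw [hclsX] at hd ⊢
        rcases hk₀ with rfl | rfl <;> rcases hc4 with e | e | e | e <;> rw [e] at hd ⊢ <;>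
          first | rfl | exact absurd (by decide) hd | exact absurd e hne
      obtain ⟨d, hd', -, hdA⟩ := exact_sigma F h₁ a1 a2 a4 hA₁
      rw [h'] at hdA
      exact (h136 (conj_facts (S := S) hd' h₁).1 (sq_conj s₁) hdA).of_conj (isConj_iff.2 ⟨d, rfl⟩)
    obtain ⟨hvc, hvq⟩ := cls_facts v1 v2 v4
    by_cases hv136 : cls (S.pr a) = 136
    · refine (hone hz₂ hs₂ hx' hA₂ ?_).of_conj hc₂
      rw [hx'q, (cls_facts w1 w2 w4).2, hv', hv136]
      rfl
    · refine (hone hz₁ hs₁ hx hA₁ ?_).of_conj hc₁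
      rw [hxq, hvq, decide_eq_false hv136]
      rfl

end CoOne

end Cfsg.Agent.CoOneType
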