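import Cfsg.Agent.ThreeTrans.OrthCohom

/-!
The hyperbolic quadratic space of dimension eight over the field with two elements, coded by eight
bits. Bit 0 is a singular vector `e`, bit 4 its partner; the other bits span their orthogonal
complement, in which bits `i` and `i + 4` are partners.
-/

set_option autoImplicit false

open Cfsg.Agent.ThreeTrans.OrthCohom Cfsg.Agent.Classical.Quad QuadraticMap

namespace Cfsg.Agent.CoOneType

/-- The space. -/
abbrev V : Type := Fin 4 ⊕ Fin 4 → ZMod 2

/-- Decoding. -/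
abbrev dc (i : ℕ) : V := dec (idxP 4) i

/-- Parity of the four low bits. -/
def par4 (x : ℕ) : Bool :=
  (x.testBit 0 != x.testBit 1) != (x.testBit 2 != x.testBit 3)

/-- The quadratic form on codes. -/
def qn (i : ℕ) : Bool := par4 (i &&& (i >>> 4))

/-- The polar form on codes. -/
def Bn (i j : ℕ) : Bool := par4 ((i &&& (j >>> 4)) ^^^ ((i >>> 4) &&& j))

/-- Booleans as scalars. -/
def bz (b : Bool) : ZMod 2 := if b then 1 else 0

theorem bz_inj : ∀ a b : Bool, bz a = bz b → a = b := by decide

theorem bz_eq_one : ∀ a : Bool, bz a = 1 ↔ a = true := by decide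

theorem bz_eq_zero : ∀ a : Bool, bz a = 0 ↔ a = false := by decide

theorem bz_xor : ∀ a b c : Bool, bz ((a != b) != c) = bz a - bz b - bz c := by decide

theorem qP_dc' : ∀ i : Fin 256, Cfsg.quadFormPlus 4 (ZMod 2) (dc i.val) = bz (qn i.val) := by
  decide +kernel

theorem qn_xor : ∀ i j : Fin 256, ((qn (i.val ^^^ j.val) != qn i.val) != qn j.val) = Bn i.val j.val := by
  decide +kernel

theorem qP_dc (i : Fin 256) : qP 4 (dc i.val) = bz (qn i.val) := by rw [qP_coe]; exact qP_dc' i

theorem polar_dc (i j : Fin 256) : polar (qP 4) (dc i.val) (dc j.val) = bz (Bn i.val j.val) := by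
  have hlt : i.val ^^^ j.val < 256 := Nat.xor_lt_two_pow (n := 8) i.isLt j.isLt
  have h := qP_dc ⟨i.val ^^^ j.val, hlt⟩
  rw [← qn_xor i j, bz_xor, ← qP_dc i, ← qP_dc j, ← h, polar]
  exact congrArg (fun x => qP 4 x - _ - _) (dec_xor _ _ _).symm

/-- Encoding. -/
def enc (v : V) : ℕ :=
  (((if v (.inl 0) = 1 then 1 else 0) ||| (if v (.inl 1) = 1 then 2 else 0)) |||
    ((if v (.inl 2) = 1 then 4 else 0) ||| (if v (.inl 3) = 1 then 8 else 0))) |||
  (((if v (.inr 0) = 1 then 16 else 0) ||| (if v (.inr 1) = 1 then 32 else 0)) |||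
    ((if v (.inr 2) = 1 then 64 else 0) ||| (if v (.inr 3) = 1 then 128 else 0)))

theorem dc_inj' : ∀ i : Fin 256, enc (dc i.val) = i.val := by decide +kernel

theorem dc_zero : dc 0 = 0 := by decide +kernel

/-- The product of the reflections in `a` and in `b`, on codes. -/
def g2n (a b v : ℕ) : ℕ :=
  let u := if Bn v b then v ^^^ b else v
  if Bn u a then u ^^^ a else u

/-- The Siegel map of `w`, on codes. -/
def sgn (w v : ℕ) : ℕ :=
  (v ^^^ (if Bn v w then 1 else 0)) ^^^ (if Bn v 1 then w ^^^ (if qn w then 1 else 0) else 0)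

/-- The Siegel map of the singular line spanned by the second and third coordinate vectors. -/
def s0n (v : ℕ) : ℕ := (v ^^^ (if Bn v 4 then 2 else 0)) ^^^ (if Bn v 2 then 4 else 0)

/-- An isometry cycling the first three coordinate vectors. -/
def cyc (v : ℕ) : ℕ := g2n 81 84 (g2n 49 50 v)

end Cfsg.Agent.CoOneType
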