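import Cfsg.Agent.CoOneType.Rank2

/-!
The two further classes do not contain `z`.
-/

set_option autoImplicit false

open Cfsg Cfsg.Agent.ThreeTrans.OrthCohom Cfsg.Agent.Classical.Quad QuadraticMap Cfsg.Agent.LargeExtra

namespace Cfsg.Agent.CoOneType

/-- Two standard pairs of vectors: `false` for the singular one. -/
def repV (k : Bool) : ℕ := if k then 70 else 4

/-- Second vectors. -/
def repU (k : Bool) : ℕ := if k then 34 else 2

/-- A test vector. -/
def repX (k : Bool) : ℕ := if k then 34 else 64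

/-- A basis of the fixed hyperplane. -/
def repH (k : Bool) : List ℕ := if k then [1, 8, 128, 38, 68] else [1, 8, 128, 2, 4]

/-- A linear map given on the hyperplane basis and three further codes. -/
def repLin (k : Bool) (a b c : ℕ) (x : ℕ) : ℕ :=
  (((if x.testBit 0 then 1 else 0) ^^^ (if x.testBit 1 then (if k then (98 ^^^ b) ^^^ c else 2) else 0)) ^^^
    ((if x.testBit 2 then (if k then 68 ^^^ c else 4) else 0) ^^^ (if x.testBit 3 then 8 else 0))) ^^^
  (((if x.testBit 4 then a else 0) ^^^ (if x.testBit 5 then b else 0)) ^^^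
    ((if x.testBit 6 then c else 0) ^^^ (if x.testBit 7 then 128 else 0)))

/-- Possible images of the three further codes. -/
def repCands (k : Bool) : List (ℕ × ℕ × ℕ) :=
  let ok (j t : ℕ) : Bool := (qn t == qn j) && (repH k).all fun l => Bn t l == Bn j l
  let la := (List.range 256).filter (ok 16)
  let lb := (List.range 256).filter (ok 32)
  let lc := (List.range 256).filter (ok 64)
  la.flatMap fun a => (lb.filter fun b => Bn a b == Bn 16 32).flatMap fun b =>
    ((lc.filter fun c => (Bn a c == Bn 16 64) && (Bn b c == Bn 32 64) &&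
      ([16, 32, 64].all fun j => sgn (repU k) (repLin k a b c j) == repLin k a b c (sgn (repU k) j))).map
        fun c => (a, b, c))

theorem repCands_length : ∀ k : Bool, (repCands k).length ≤ 8 := by decide +kernel

theorem rep_facts : ∀ k : Bool, repV k < 256 ∧ repU k < 256 ∧ repX k < 256 ∧
    Bn (repV k) 1 = false ∧ Bn (repU k) 1 = false ∧ repU k ≠ 0 ∧ repU k ≠ 1 ∧
    Bn (repX k) 1 = false ∧ Bn (repX k) (repU k) = false ∧ Bn (repX k) (repV k) = true ∧
    ∀ h ∈ repH k, h < 256 ∧ Bn h 1 = false ∧ Bn h (repU k) = false ∧ Bn h (repV k) = false := by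
  decide +kernel

variable {G : Type*} [Group G] [Finite G]

namespace CoOne

variable {z : G} (S : CoOne z)
include S

/-- The centraliser in `oc z` of an outer involution has order at least 16. -/
theorem sixteen_le {t : G} (ht : t * z = z * t) (h2 : t * t = 1) :
    16 ≤ Nat.card ↥(oc z ⊓ Subgroup.centralizer ({t} : Set G)) := by
  classical
  have hgg : ∀ x, (S.act t).1 ((S.act t).1 x) = x := fun x => by
    rw [← oG_mul_apply, ← S.act_mul ht ht, h2, S.act_one, oG_one_apply]
  let f : ↥(oc z) →* Multiplicative V := MonoidHom.mk'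
    (fun q => Multiplicative.ofAdd ((S.act t).1 (S.pr q) + S.pr q)) fun p q => by
      refine (congrArg Multiplicative.ofAdd ?_).trans (ofAdd_add _ _)
      rw [Subgroup.coe_mul, S.pr_mul p p.2 q q.2, map_add]
      abel
  have hfix : ∀ q : f.ker, (S.act t).1 (S.pr q.1.1) = S.pr q.1.1 := fun q =>
    v_eq_of_add (Multiplicative.ofAdd.injective (MonoidHom.mem_ker.1 q.2))
  let P : f.ker →* Multiplicative V := MonoidHom.mk' (fun q => Multiplicative.ofAdd (S.pr q.1.1)) fun p q => by
    refine (congrArg Multiplicative.ofAdd ?_).trans (ofAdd_add _ _)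
    exact S.pr_mul _ p.1.2 _ q.1.2
  have hsub : f.range ≤ P.range := by
    rintro _ ⟨q, rfl⟩
    obtain ⟨a, ha, hae⟩ := S.pr_surj ((S.act t).1 (S.pr q.1) + S.pr q.1)
    refine ⟨⟨⟨a, ha⟩, MonoidHom.mem_ker.2 ?_⟩, ?_⟩
    · show Multiplicative.ofAdd ((S.act t).1 (S.pr a) + S.pr a) = 1
      rw [hae, map_add (S.act t).1, hgg, add_comm (S.pr q.1), v_add_self, ofAdd_zero]
    · show Multiplicative.ofAdd (S.pr a) = _
      rw [hae]; rfl
  have hP := P.ker.card_mul_index
  rw [Subgroup.index_ker] at hP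
  have hk2 : 2 ≤ Nat.card P.ker := by
    have : Nontrivial P.ker := ⟨⟨⟨⟨⟨z, S.zmem⟩, MonoidHom.mem_ker.2 (by
        show Multiplicative.ofAdd ((S.act t).1 (S.pr z) + S.pr z) = 1
        rw [S.pr_z, map_zero, add_zero, ofAdd_zero])⟩, MonoidHom.mem_ker.2 (by
        show Multiplicative.ofAdd (S.pr z) = 1
        rw [S.pr_z, ofAdd_zero])⟩, 1, fun h => S.zne (congrArg (fun x : P.ker => x.1.1.1) h)⟩⟩
    exact Finite.one_lt_card
  have hle := Subgroup.card_le_of_le hsub
  have hf := f.ker.card_mul_index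
  rw [Subgroup.index_ker, S.card] at hf
  have hmul : 2 * Nat.card f.range ≤ Nat.card f.ker := by
    calc 2 * Nat.card f.range ≤ Nat.card P.ker * Nat.card P.range := Nat.mul_le_mul hk2 hle
      _ = Nat.card f.ker := hP
  have hk32 : 32 ≤ Nat.card f.ker := by
    have : 2 * (Nat.card f.ker * Nat.card f.range) ≤ Nat.card f.ker * Nat.card f.ker := by
      rw [Nat.mul_left_comm]
      exact Nat.mul_le_mul_left _ hmul
    rw [hf] at this
    by_contra h
    have h' : Nat.card f.ker * Nat.card f.ker ≤ 31 * 31 := Nat.mul_le_mul (by omega) (by omega)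
    omega
  let g : f.ker →* G := MonoidHom.mk' (fun q => t * q.1.1 * t⁻¹ * q.1.1⁻¹) fun p q => by
    have hc : ∀ q : f.ker, ∃ e, t * q.1.1 * t⁻¹ * q.1.1⁻¹ = zp z e := fun q => by
      have hm := mul_mem (S.nrm ht q.1.2) (inv_mem q.1.2)
      rcases S.pr_ker _ hm (by
          rw [S.pr_mul _ (S.nrm ht q.1.2) _ (inv_mem q.1.2), S.act_spec t ht _ q.1.2, S.pr_inv q.1.2,
            hfix q, v_add_self]) with e | e
      · exact ⟨0, by rw [e, zp_zero]⟩
      · exact ⟨1, by rw [e, zp_one]⟩
    obtain ⟨e, he⟩ := hc p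
    obtain ⟨e', he'⟩ := hc q
    show t * ((p.1.1 : G) * q.1.1) * t⁻¹ * ((p.1.1 : G) * q.1.1)⁻¹ =
      t * p.1.1 * t⁻¹ * p.1.1⁻¹ * (t * q.1.1 * t⁻¹ * q.1.1⁻¹)
    calc t * ((p.1.1 : G) * q.1.1) * t⁻¹ * ((p.1.1 : G) * q.1.1)⁻¹
        = t * p.1.1 * t⁻¹ * ((t * q.1.1 * t⁻¹ * q.1.1⁻¹) * (p.1.1 : G)⁻¹) := by group
      _ = t * p.1.1 * t⁻¹ * ((p.1.1 : G)⁻¹ * zp z e') := by
        rw [he', S.comm_zp (S.comm (inv_mem p.1.2)) e']
      _ = _ := by rw [he']; group
  have hgr : Nat.card g.range ≤ 2 := by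
    have : Fintype g.range := Fintype.ofFinite _
    rw [Nat.card_eq_fintype_card, ← Finset.card_univ]
    refine (Finset.card_le_card_of_injOn (fun y : g.range => (y : G)) (t := {1, z}) (fun y _ => ?_)
      Subtype.coe_injective.injOn).trans Finset.card_le_two
    obtain ⟨q, hq⟩ := y.2
    show (y : G) ∈ ({1, z} : Finset G)
    rw [← hq]
    have hm := mul_mem (S.nrm ht q.1.2) (inv_mem q.1.2)
    rcases S.pr_ker _ hm (by
        rw [S.pr_mul _ (S.nrm ht q.1.2) _ (inv_mem q.1.2), S.act_spec t ht _ q.1.2, S.pr_inv q.1.2,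
          hfix q, v_add_self]) with e | e
    · simp [show g q = 1 from e]
    · simp [show g q = z from e]
  have hk := g.ker.card_mul_index
  rw [Subgroup.index_ker] at hk
  have hk16 : 16 ≤ Nat.card g.ker := by nlinarith
  refine hk16.trans (Nat.card_le_card_of_injective (fun q : g.ker =>
    (⟨q.1.1.1, q.1.1.2, Subgroup.mem_centralizer_singleton_iff.2
      (mul_inv_eq_iff_eq_mul.1 (mul_inv_eq_one.1 (MonoidHom.mem_ker.1 q.2))).symm⟩ :
      ↥(oc z ⊓ Subgroup.centralizer ({t} : Set G)))) fun a b h => ?_)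
  exact Subtype.ext (Subtype.ext (Subtype.ext (congrArg (fun x : ↥(oc z ⊓ _) => (x : G)) h)))

variable {S} {w : G} (F : S.Fr w)
include F

/-- Elements above standard vectors are not conjugate to `z`. -/
theorem not_conj_z (k : Bool) {t : G} (h : InT S w t (dc (repV k)) (dc (repU k))) : ¬ IsConj z t := by
  classical
  intro hconj
  obtain ⟨lv, lu, lx, hv1, hu1, hu0, hue, hx1, hxu, hxv, hH⟩ := rep_facts k
  set v := dc (repV k) with hvd
  set u := dc (repU k) with hud
  have hv : Bp v (dc 1) = 0 := dc_perp _ lv hv1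
  have hu : Bp u (dc 1) = 0 := dc_perp _ lu hu1
  have hu0' : u ≠ 0 := fun e => hu0 (dc_inj lu (by norm_num) (e.trans dc_zero.symm))
  have hue' : u ≠ dc 1 := fun e => hue (dc_inj lu (by norm_num) e)
  obtain ⟨htz, -, hA, -⟩ := T_basic F hv hu h
  have hnQ := T_notMem F hv hu hu0' hue' h
  obtain ⟨g, hg⟩ := isConj_iff.1 hconj
  have Su : Setting t := hg ▸ S.sett.conj g
  have hsymm : ∀ {x g' : G}, g' * t * g'⁻¹ = x → x ∈ oc t → t ∈ oc x := by
    rintro x g' rfl hx
    exact Su.symm hx
  have ht2 : t * t = 1 := by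
    calc t * t = g * (z * z) * g⁻¹ := by rw [← hg]; group
      _ = 1 := by rw [S.zz]; group
  have hzu : z ∉ oc t := fun h' => hnQ (hsymm (x := z) (g' := g⁻¹) (by rw [← hg]; group) h')
  -- `t` lies in no `oc` of a further conjugate in `oc z`
  have hpure : ∀ x ∈ oc z, S.pr x ≠ 0 → IsConj z x → t ∉ oc x := by
    intro x hx hx0 hzx htx
    have hx2 : x * x = 1 := by
      obtain ⟨g', rfl⟩ := isConj_iff.1 hzx
      calc g' * z * g'⁻¹ * (g' * z * g'⁻¹) = g' * (z * z) * g'⁻¹ := by group
        _ = 1 := by rw [S.zz]; group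
    obtain ⟨r, hr, hre⟩ := move_e hx0 (zp_inj S.zne (by rw [← S.pr_sq x hx, hx2, zp_zero]))
    obtain ⟨c, hc, rfl⟩ := S.act_surj r hr
    set x' := c * x * c⁻¹ with hx'
    have F' : S.Fr x' := by
      refine ⟨S.nrm hc hx, ?_, by rw [S.act_spec c hc x hx, hre]⟩
      obtain ⟨g', rfl⟩ := isConj_iff.1 hzx
      exact ⟨c * g', by rw [hx']; group⟩
    have htm : c * t * c⁻¹ ∈ oc x' := hx' ▸ conj_mem_oc htx
    have htz' : c * t * c⁻¹ * z = z * (c * t * c⁻¹) :=
      ((Commute.mul_left hc htz).mul_left (Commute.inv_left hc)).eq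
    obtain ⟨y, hy, hya⟩ := act_sg F' htm htz'
    have hact : ∀ p, (S.act (c * t * c⁻¹)).1 ((S.act c).1 p) = (S.act c).1 (sg u p) := fun p => by
      rw [S.act_mul (Commute.mul_left hc htz).eq (Commute.inv_left hc).eq, S.act_mul hc htz, S.act_inv hc,
        oG_mul_apply, oG_mul_apply, oG_inv_apply, hA]
    have hyne : y ≠ 0 ∧ y ≠ dc 1 := by
      rw [← not_or]
      intro hh
      rcases sg_inj hu fun p => (S.act c).1.injective (by
          rw [← hact, hya]
          rcases hh with rfl | rfl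
          · rw [sg_zero]
          · rw [sg_e]) with e | e
      exacts [hu0' e, hue' e]
    obtain ⟨a, ha, hae⟩ := S.pr_surj (dc (repX k))
    have hxu' : Bp (dc (repX k)) u = 0 := by rw [hud, Bp_dc lx lu, hxu]; rfl
    have hx1' : Bp (dc (repX k)) (dc 1) = 0 := dc_perp _ lx hx1
    have hxr : Bp (dc (repX k)) (S.pr x) = 0 := by
      obtain ⟨f, hf, hfy⟩ := exists_perp hyne.1 hyne.2
      obtain ⟨f', rfl⟩ := (S.act c).1.surjective f
      have e : (S.act c).1 (S.pr x) = (S.act c).1 (sg u f' + f') := by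
        rw [map_add, ← hact, hya, sg_perp hf, hfy, one_smul, hre, add_right_comm, v_add_self, zero_add]
      rw [(S.act c).1.injective e, sg, add_right_comm, add_right_comm f', v_add_self, zero_add,
        Bp_add_right, Bp_smul_right, hx1', mul_zero, zero_add, Bp_smul_right, Bp_add_right, hxu',
        Bp_smul_right, hx1', mul_zero, add_zero, mul_zero]
    set a' := c * a * c⁻¹ with ha'
    have hp : S.pr a' = (S.act c).1 (dc (repX k)) := by rw [ha', S.act_spec c hc a ha, hae]
    have hperp : Bp (S.pr a') (dc 1) = 0 := by rw [hp, ← hre, polar_g, hxr]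
    have hfix : sg u (dc (repX k)) = dc (repX k) := by rw [sg_perp hx1', hxu', zero_smul, add_zero]
    have hBy : Bp (S.pr a') y = 0 := by
      have e := hact (dc (repX k))
      rw [hfix, hya, ← hp, sg_perp hperp, add_eq_left] at e
      rcases zmod_cases (Bp (S.pr a') y) with h' | h'
      · exact h'
      · rw [h', one_smul] at e
        exact absurd (dc_inj (by norm_num) (by norm_num) (e.trans dc_zero.symm)) (by norm_num)
    have hc' := commute_of_perp F' (S.nrm hc ha) hperp htm htz' hy hya hBy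
    have hsh := T_shift F hv hu h ha (by rw [hae]; exact hx1')
    have hat : a * t = t * a := by
      calc a * t = c⁻¹ * (c * a * c⁻¹ * (c * t * c⁻¹)) * c := by group
        _ = t * a := by rw [hc']; group
    rw [hae, hxu', show Bp (dc (repX k)) v = 1 by rw [hvd, Bp_dc lx lv, hxv]; rfl, zp_zero, one_mul,
      add_zero, zp_one, hat, mul_inv_cancel_right] at hsh
    exact S.zne (left_eq_mul.1 hsh)
  have hinter : ∀ x ∈ oc z, x ∈ oc t → x = 1 := by
    intro x hx hx'
    rcases zmod_cases (qP 4 (S.pr x)) with hq | hq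
    · by_cases h0 : S.pr x = 0
      · rcases S.pr_ker x hx h0 with e | e
        · exact e
        · exact absurd (e ▸ hx') hzu
      have hzx := S.conj_of_singular hx h0 hq
      obtain ⟨g', hg'⟩ := isConj_iff.1 (hconj.symm.trans hzx)
      exact absurd (hsymm hg' hx') (hpure x hx h0 hzx)
    · exfalso
      have := S.pr_sq x hx
      rw [hq, zp_one] at this
      exact hzu (this ▸ mul_mem hx' hx')
  -- the action of `oc t` on `oc z`
  set R : Subgroup G := oc t ⊓ Subgroup.centralizer ({z} : Set G)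
  have hrz : ∀ r : R, r.1 * z = z * r.1 := fun r => Subgroup.mem_centralizer_singleton_iff.1 r.2.2
  have hRfix : ∀ r : R, ∀ j ∈ repH k, (S.act r.1).1 (dc j) = dc j := by
    intro r j hj
    obtain ⟨lj, hj1, hju, hjv⟩ := hH j hj
    obtain ⟨a, ha, hae⟩ := S.pr_surj (dc j)
    have hsh := T_shift F hv hu h ha (by rw [hae]; exact dc_perp _ lj hj1)
    rw [hae, show Bp (dc j) u = 0 by rw [hud, Bp_dc lj lu, hju]; rfl,
      show Bp (dc j) v = 0 by rw [hvd, Bp_dc lj lv, hjv]; rfl, add_zero, zp_zero, zp_zero, one_mul,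
      mul_one, mul_inv_eq_iff_eq_mul] at hsh
    have hm1 : r.1 * a * r.1⁻¹ * a⁻¹ ∈ oc z := mul_mem (S.nrm (hrz r) ha) (inv_mem ha)
    have hm2 : r.1 * a * r.1⁻¹ * a⁻¹ ∈ oc t := by
      rw [show r.1 * a * r.1⁻¹ * a⁻¹ = r.1 * (a * r.1⁻¹ * a⁻¹) by group]
      exact mul_mem r.2.1 (oc_conj_mem (Subgroup.mem_centralizer_singleton_iff.2 hsh) (inv_mem r.2.1))
    rw [← hae, ← S.act_spec _ (hrz r) a ha, mul_inv_eq_one.1 (hinter _ hm1 hm2)]
  have hRu : ∀ r : R, ∀ p, (S.act r.1).1 (sg u p) = sg u ((S.act r.1).1 p) := fun r p => by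
    have hru : r.1 * t = t * r.1 := (Su.comm_z r.2.1).eq
    rw [← hA, ← hA, ← oG_mul_apply, ← oG_mul_apply, ← S.act_mul (hrz r) htz, hru, S.act_mul htz (hrz r)]
  have hinj : Function.Injective fun r : R => S.act r.1 := fun r r' h' => by
    refine Subtype.ext (inv_mul_eq_one.1 (hinter _ ?_ (mul_mem (inv_mem r.2.1) r'.2.1)))
    refine S.act_ker _ (Commute.mul_left (Commute.inv_left (hrz r)) (hrz r')).eq ?_
    rw [S.act_mul (Commute.inv_left (hrz r)).eq (hrz r'), S.act_inv (hrz r),
      show S.act r.1 = S.act r'.1 from h', inv_mul_cancel]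
  have hle : Nat.card R ≤ 8 := by
    have : Fintype R := Fintype.ofFinite _
    let c : R → ℕ → ℕ := fun r j => (cd ((S.act r.1).1 (dc j))).val
    have hc : ∀ r j, (S.act r.1).1 (dc j) = dc (c r j) := fun r j => (dc_cd _).symm
    have hlt : ∀ r j, c r j < 256 := fun r j => (cd _).isLt
    have hlin : ∀ r : R, ∀ x, x < 256 → (S.act r.1).1 (dc x) = dc (repLin k (c r 16) (c r 32) (c r 64) x) := by
      intro r x hx
      have hxsum : dc x = ((dc (x &&& 1) + dc (x &&& 2)) + (dc (x &&& 4) + dc (x &&& 8))) +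
          ((dc (x &&& 16) + dc (x &&& 32)) + (dc (x &&& 64) + dc (x &&& 128))) := by
        rw [← dc_xor, ← dc_xor, ← dc_xor, ← dc_xor, ← dc_xor, ← dc_xor, ← dc_xor]
        exact congrArg dc (split_code ⟨x, hx⟩)
      have hbit : ∀ i, i < 8 → dc (x &&& 2 ^ i) = if x.testBit i then dc (2 ^ i) else 0 := fun i _ => by
        rw [Nat.and_two_pow]
        rcases x.testBit i with _ | _ <;> simp [dc_zero]
      have h1 : (S.act r.1).1 (dc 1) = dc 1 := hRfix r 1 (by rcases k with _ | _ <;> simp [repH])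
      have h8 : (S.act r.1).1 (dc 8) = dc 8 := hRfix r 8 (by rcases k with _ | _ <;> simp [repH])
      have h128 : (S.act r.1).1 (dc 128) = dc 128 := hRfix r 128 (by rcases k with _ | _ <;> simp [repH])
      have h4 : (S.act r.1).1 (dc 4) = dc (if k then 68 ^^^ c r 64 else 4) := by
        rcases k with _ | _
        · exact hRfix r 4 (by simp [repH])
        · rw [show dc 4 = dc 68 + dc 64 from dc_xor 68 64, map_add, hRfix r 68 (by simp [repH]), hc,
            ← dc_xor]
          rfl
      have h2 : (S.act r.1).1 (dc 2) = dc (if k then (98 ^^^ c r 32) ^^^ c r 64 else 2) := by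
        rcases k with _ | _
        · exact hRfix r 2 (by simp [repH])
        · rw [show dc 2 = dc 38 + dc 68 + dc 32 + dc 64 by rw [← dc_xor, ← dc_xor, ← dc_xor]; rfl,
            map_add, map_add, map_add, hRfix r 38 (by simp [repH]), hRfix r 68 (by simp [repH]), hc, hc,
            ← dc_xor, ← dc_xor, ← dc_xor]
          rfl
      have hif : ∀ (p : Bool) (m : ℕ), dc (if p then m else 0) = if p then dc m else 0 := fun p m => by
        rcases p with _ | _ <;> simp [dc_zero]
      rw [hxsum]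
      simp only [map_add, repLin, dc_xor, hif]
      rw [show x &&& 1 = x &&& 2 ^ 0 from rfl, show x &&& 2 = x &&& 2 ^ 1 from rfl,
        show x &&& 4 = x &&& 2 ^ 2 from rfl, show x &&& 8 = x &&& 2 ^ 3 from rfl,
        show x &&& 16 = x &&& 2 ^ 4 from rfl, show x &&& 32 = x &&& 2 ^ 5 from rfl,
        show x &&& 64 = x &&& 2 ^ 6 from rfl, show x &&& 128 = x &&& 2 ^ 7 from rfl,
        hbit 0 (by norm_num), hbit 1 (by norm_num), hbit 2 (by norm_num), hbit 3 (by norm_num),
        hbit 4 (by norm_num), hbit 5 (by norm_num), hbit 6 (by norm_num), hbit 7 (by norm_num)]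
      simp only [apply_ite (S.act r.1).1, map_zero, Nat.reducePow, h1, h2, h4, h8, h128, hc r 16, hc r 32,
        hc r 64]
    have hmem : ∀ r : R, (c r 16, c r 32, c r 64) ∈ repCands k := by
      intro r
      have hq : ∀ j, j < 256 → qn (c r j) = qn j := fun j hj => bz_inj _ _ (by
        rw [← q_dc (hlt r j), ← hc, (S.act r.1).2, q_dc hj])
      have hB : ∀ i j, i < 256 → j < 256 → Bn (c r i) (c r j) = Bn i j := fun i j hi hj => bz_inj _ _ (by
        rw [← Bp_dc (hlt r i) (hlt r j), ← hc, ← hc, polar_g, Bp_dc hi hj])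
      have hBH : ∀ i, i < 256 → ∀ l ∈ repH k, Bn (c r i) l = Bn i l := fun i hi l hl => bz_inj _ _ (by
        have ll := (hH l hl).1
        rw [← Bp_dc (hlt r i) ll, ← hc]
        conv_lhs => rw [← hRfix r l hl]
        rw [polar_g, Bp_dc hi ll])
      have hlt' : ∀ a b c : ℕ, a < 256 → b < 256 → c < 256 → ∀ x, repLin k a b c x < 256 := by
        intro a b c ha hb hc' x
        unfold repLin
        refine xor_lt (xor_lt (xor_lt ?_ ?_) (xor_lt ?_ ?_)) (xor_lt (xor_lt ?_ ?_) (xor_lt ?_ ?_)) <;>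
          split_ifs <;> first
            | assumption
            | (norm_num; done)
            | exact xor_lt (xor_lt (by norm_num) hb) hc'
            | exact xor_lt (by norm_num) hc'
      have hsg : ∀ j, j < 256 → sgn (repU k) (repLin k (c r 16) (c r 32) (c r 64) j) =
          repLin k (c r 16) (c r 32) (c r 64) (sgn (repU k) j) := fun j hj => by
        have hsl : sgn (repU k) j < 256 := by
          unfold sgn
          refine xor_lt (xor_lt hj (by split_ifs <;> norm_num)) ?_
          split_ifs <;> first | (exact xor_lt lu (by norm_num)) | norm_num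
        have hl := hlt' _ _ _ (hlt r 16) (hlt r 32) (hlt r 64)
        refine dc_inj ?_ (hl _) ?_
        · unfold sgn
          refine xor_lt (xor_lt (hl j) (by split_ifs <;> norm_num)) ?_
          split_ifs <;> first | (exact xor_lt lu (by norm_num)) | norm_num
        rw [← sg_dc lu (hl j), ← hlin r j hj, ← hlin r _ hsl, ← sg_dc lu hj, ← hud, hRu]
      simp only [repCands, List.mem_flatMap, List.mem_filter, List.mem_map, List.mem_range,
        Bool.and_eq_true, beq_iff_eq, List.all_eq_true, Prod.mk.injEq]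
      refine ⟨c r 16, ⟨hlt r 16, hq 16 (by norm_num), hBH 16 (by norm_num)⟩, c r 32,
        ⟨⟨hlt r 32, hq 32 (by norm_num), hBH 32 (by norm_num)⟩, hB 16 32 (by norm_num) (by norm_num)⟩,
        c r 64, ⟨⟨hlt r 64, hq 64 (by norm_num), hBH 64 (by norm_num)⟩,
          ⟨hB 16 64 (by norm_num) (by norm_num), hB 32 64 (by norm_num) (by norm_num)⟩, fun j hj => ?_⟩,
        rfl, rfl, rfl⟩
      exact hsg j (by revert j; decide)
    have hψ : Function.Injective fun r : R => (c r 16, c r 32, c r 64) := fun r r' h' => by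
      simp only [Prod.mk.injEq] at h'
      refine hinj (ext_oG fun p => ?_)
      rw [← dc_cd p, hlin r _ (cd p).isLt, hlin r' _ (cd p).isLt, h'.1, h'.2.1, h'.2.2]
    have h1 := Finset.card_le_card_of_injOn (fun r : R => (c r 16, c r 32, c r 64)) (s := Finset.univ)
      (t := (repCands k).toFinset) (fun r _ => List.mem_toFinset.2 (hmem r)) hψ.injOn
    rw [Finset.card_univ, ← Nat.card_eq_fintype_card] at h1
    exact h1.trans ((List.toFinset_card_le _).trans (repCands_length k))
  have hgt : 16 ≤ Nat.card R := by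
    have ht2' : g⁻¹ * z * g * (g⁻¹ * z * g) = 1 := by
      calc g⁻¹ * z * g * (g⁻¹ * z * g) = g⁻¹ * (z * z) * g := by group
        _ = 1 := by rw [S.zz]; group
    have htz' : g⁻¹ * z * g * z = z * (g⁻¹ * z * g) := by
      calc g⁻¹ * z * g * z = g⁻¹ * (z * (g * z * g⁻¹)) * g := by group
        _ = g⁻¹ * (z * t) * g := by rw [hg]
        _ = g⁻¹ * (t * z) * g := by rw [htz]
        _ = z * (g⁻¹ * z * g) := by rw [← hg]; group
    refine (S.sixteen_le htz' ht2').trans (Nat.card_le_card_of_injective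
      (fun q : ↥(oc z ⊓ Subgroup.centralizer ({g⁻¹ * z * g} : Set G)) =>
        (⟨g * q.1 * g⁻¹, hg ▸ conj_mem_oc q.2.1, Subgroup.mem_centralizer_singleton_iff.2 ?_⟩ : R))
      fun a b h' => Subtype.ext (mul_left_cancel (mul_right_cancel (congrArg Subtype.val h'))))
    calc g * q.1 * g⁻¹ * z = g * (q.1 * (g⁻¹ * z * g)) * g⁻¹ := by group
      _ = z * (g * q.1 * g⁻¹) := by
        rw [Subgroup.mem_centralizer_singleton_iff.1 q.2.2]; group
  omega

end CoOne

end Cfsg.Agent.CoOneType
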