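import Cfsg.Agent.CoOneType.Frame

/-!
Products of an element of `oc z` and an element of `oc w`, both centralising `z` and `w`.
-/

set_option autoImplicit false

open Cfsg Cfsg.Agent.ThreeTrans.OrthCohom Cfsg.Agent.Classical.Quad QuadraticMap Cfsg.Agent.LargeExtra

namespace Cfsg.Agent.CoOneType

theorem two_zero (a : ZMod 2) : a + a = 0 := (by decide : ∀ a : ZMod 2, a + a = 0) a

theorem B16e : Bp (dc 16) (dc 1) = 1 := by rw [Bp_dc (by norm_num) (by norm_num)]; rfl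

/-- A vector of `e⊥` outside the line of `e` meets `e⊥`. -/
theorem exists_perp {x : V} (h0 : x ≠ 0) (h1 : x ≠ dc 1) : ∃ r, Bp r (dc 1) = 0 ∧ Bp r x = 1 := by
  by_contra hcon
  push Not at hcon
  rcases perp_e (d := x) fun k hk => by
      rw [Bp_comm]
      refine ((zmod_cases _).resolve_right (hcon (dc k) ?_))
      rw [Bp_dc (by revert k; decide) (by norm_num), bz_eq_zero]; revert k; decide
    with e | e
  exacts [h0 e, h1 e]

variable {G : Type*} [Group G] [Finite G]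

namespace CoOne

variable {z : G} {S : CoOne z} {w : G} (F : S.Fr w)
include F

theorem comm_of_perp {a : G} (ha : a ∈ oc z) (h : Bp (S.pr a) (dc 1) = 0) : a * w = w * a :=
  (S.commute_iff ha F.mem).2 (by rwa [F.pr_eq])

/-- The four elements common to the two extraspecial groups. -/
theorem k_spec (i j : ZMod 2) : zp w i * zp z j ∈ oc z ∧ zp w i * zp z j ∈ oc w ∧
    S.pr (zp w i * zp z j) = i • dc 1 := by
  have hw : zp w i ∈ oc z ∧ zp w i ∈ oc w ∧ S.pr (zp w i) = i • dc 1 := by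
    rcases zmod_cases i with rfl | rfl
    · rw [zp_zero, zero_smul]; exact ⟨one_mem _, one_mem _, S.pr_one⟩
    · rw [zp_one, one_smul]; exact ⟨F.mem, mem_oc_self (wset F).ord, F.pr_eq⟩
  have hz : zp z j ∈ oc z ∧ zp z j ∈ oc w ∧ S.pr (zp z j) = 0 := by
    refine ⟨S.zp_mem j, ?_, S.pr_zp j⟩
    rcases zmod_cases j with rfl | rfl
    · rw [zp_zero]; exact one_mem _
    · rw [zp_one]; exact zmem_oc F
  refine ⟨mul_mem hw.1 hz.1, mul_mem hw.2.1 hz.2.1, ?_⟩
  rw [S.pr_mul _ hw.1 _ hz.1, hw.2.2, hz.2.2, add_zero]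

theorem k_cases {k : G} (hk : k ∈ oc z) (hk' : k ∈ oc w) : ∃ i j, k = zp w i * zp z j := by
  rcases inter F hk hk' with rfl | rfl | rfl | rfl
  exacts [⟨0, 0, by simp [zp_zero]⟩, ⟨0, 1, by simp [zp_zero, zp_one]⟩, ⟨1, 0, by simp [zp_zero, zp_one]⟩,
    ⟨1, 1, by simp [zp_one]⟩]

theorem k_inj {i j i' j' : ZMod 2} (h : zp w i * zp z j = zp w i' * zp z j') : i = i' ∧ j = j' := by
  have h1 := congrArg S.pr h
  rw [(k_spec F i j).2.2, (k_spec F i' j').2.2] at h1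
  have hi : i = i' := by
    have := congrArg (fun x : V => Bp x (dc 16)) h1
    simp only [Bp_smul_left, show Bp (dc 1) (dc 16) = 1 from (Bp_comm _ _).trans B16e, mul_one] at this
    exact this
  exact ⟨hi, zp_inj S.zne (mul_left_cancel (hi ▸ h))⟩

theorem k_comm {x : G} (hxz : x * z = z * x) (hxw : x * w = w * x) (i j : ZMod 2) :
    x * (zp w i * zp z j) = zp w i * zp z j * x :=
  inter_comm F (k_spec F i j).1 (k_spec F i j).2.1 hxz hxw

theorem k_mul (i j i' j' : ZMod 2) :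
    zp w i * zp z j * (zp w i' * zp z j') = zp w (i + i') * zp z (j + j') := by
  rw [zp_add (ww F), zp_add S.zz]
  have h : zp w i' * zp z j = zp z j * zp w i' := S.comm_zp (by
    rcases zmod_cases i' with rfl | rfl
    · simp [zp_zero]
    · rw [zp_one]; exact wz F) j
  calc zp w i * zp z j * (zp w i' * zp z j') = zp w i * (zp z j * zp w i') * zp z j' := by group
    _ = zp w i * zp w i' * (zp z j * zp z j') := by rw [← h]; group

theorem k_conj_y {y : G} (hy : y ∈ oc z) (hye : Bp (S.pr y) (dc 1) = 1) : y * w * y⁻¹ = w * z := by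
  have h := S.commutator_eq hy F.mem
  rw [F.pr_eq, hye, zp_one, mul_inv_eq_iff_eq_mul] at h
  rw [h, wz F]

/-- Exchange of `z` and `w`. -/
theorem mirror : ∃ g : G, g * z * g⁻¹ = w ∧ S.Fr (g⁻¹ * z * g) := by
  obtain ⟨g, hg, hm, h0, -⟩ := transport F
  have hq : qP 4 (S.pr (g⁻¹ * z * g)) = 0 := by
    refine zp_inj S.zne ?_
    rw [← S.pr_sq _ hm, zp_zero]
    calc g⁻¹ * z * g * (g⁻¹ * z * g) = g⁻¹ * (z * z) * g := by group
      _ = 1 := by rw [S.zz]; group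
  obtain ⟨r, hr, hre⟩ := move_e h0 hq
  obtain ⟨c, hc, rfl⟩ := S.act_surj r hr
  have e : (g * c⁻¹)⁻¹ * z * (g * c⁻¹) = c * (g⁻¹ * z * g) * c⁻¹ := by group
  refine ⟨g * c⁻¹, ?_, ⟨e ▸ S.nrm hc hm, ⟨(g * c⁻¹)⁻¹, by group⟩, ?_⟩⟩
  · calc g * c⁻¹ * z * (g * c⁻¹)⁻¹ = g * (c⁻¹ * (z * c)) * g⁻¹ := by group
      _ = w := by rw [← hc, ← hg]; group
  · rw [e, S.act_spec c hc _ hm, hre]

omit F in
theorem mirror_w {g : G} (hg : g * z * g⁻¹ = w) : g⁻¹ * w * g = z := by rw [← hg]; group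

theorem mirror_mem {g : G} (hg : g * z * g⁻¹ = w) {x : G} :
    (x ∈ oc w → g⁻¹ * x * g ∈ oc z) ∧ (x ∈ oc z → g⁻¹ * x * g ∈ oc (g⁻¹ * z * g)) ∧
      (x * w = w * x → g⁻¹ * x * g * z = z * (g⁻¹ * x * g)) ∧
      (x * z = z * x → g⁻¹ * x * g * (g⁻¹ * z * g) = g⁻¹ * z * g * (g⁻¹ * x * g)) := by
  refine ⟨fun h => ?_, fun h => ?_, fun h => ?_, fun h => ?_⟩
  · have := conj_mem_oc (g := g⁻¹) h
    rwa [inv_inv, mirror_w hg] at this
  · have := conj_mem_oc (g := g⁻¹) h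
    rwa [inv_inv] at this
  · conv_lhs => rw [← mirror_w hg]
    conv_rhs => rw [← mirror_w hg]
    calc g⁻¹ * x * g * (g⁻¹ * w * g) = g⁻¹ * (x * w) * g := by group
      _ = g⁻¹ * w * g * (g⁻¹ * x * g) := by rw [h]; group
  · calc g⁻¹ * x * g * (g⁻¹ * z * g) = g⁻¹ * (x * z) * g := by group
      _ = g⁻¹ * z * g * (g⁻¹ * x * g) := by rw [h]; group

/-- The commutator is central, with known first coordinate. -/
theorem mix_w {a b : G} (ha : a ∈ oc z) (hv : Bp (S.pr a) (dc 1) = 0) (hb : b ∈ oc w)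
    (hbz : b * z = z * b) {u : V} (hbu : ∀ y, (S.act b).1 y = sg u y) :
    ∃ d, a * b * a⁻¹ * b⁻¹ = zp w (Bp (S.pr a) u) * zp z d := by
  have haw := comm_of_perp F ha hv
  have h1 : a * b * a⁻¹ * b⁻¹ ∈ oc z := by
    rw [show a * b * a⁻¹ * b⁻¹ = a * (b * a⁻¹ * b⁻¹) by group]
    exact mul_mem ha (S.nrm hbz (inv_mem ha))
  have h2 : a * b * a⁻¹ * b⁻¹ ∈ oc w := mul_mem (nrm_w F haw hb) (inv_mem hb)
  obtain ⟨i, j, e⟩ := k_cases F h1 h2
  refine ⟨j, ?_⟩
  suffices i = Bp (S.pr a) u by rw [← this, e]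
  have h3 := congrArg S.pr e
  rw [(k_spec F i j).2.2, show a * b * a⁻¹ * b⁻¹ = a * (b * a⁻¹ * b⁻¹) by group,
    S.pr_mul _ ha _ (S.nrm hbz (inv_mem ha)), S.act_spec b hbz _ (inv_mem ha), S.pr_inv ha, hbu,
    sg_perp hv, ← add_assoc, v_add_self, zero_add] at h3
  have := congrArg (fun x : V => Bp x (dc 16)) h3
  simp only [Bp_smul_left, show Bp (dc 1) (dc 16) = 1 from (Bp_comm _ _).trans B16e, mul_one] at this
  exact this.symm

theorem mix_indep {a a' b b' : G} (ha : a ∈ oc z) (ha' : a' ∈ oc z) (hv : Bp (S.pr a) (dc 1) = 0)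
    (hp : S.pr a = S.pr a') (hb : b ∈ oc w) (hbz : b * z = z * b) (hb' : b' ∈ oc w) (hbz' : b' * z = z * b')
    (hact : ∀ y, (S.act b).1 y = (S.act b').1 y) :
    a * b * a⁻¹ * b⁻¹ = a' * b' * a'⁻¹ * b'⁻¹ := by
  obtain ⟨k, hk, hk', rfl⟩ := same_act F hb hbz hb' hbz' hact
  have hak : a' * k = k * a' :=
    inter_comm F hk hk' (S.comm ha') (comm_of_perp F ha' (by rw [← hp]; exact hv))
  have e2 : a' * (b * k) * a'⁻¹ * (b * k)⁻¹ = a' * b * a'⁻¹ * b⁻¹ := by
    calc a' * (b * k) * a'⁻¹ * (b * k)⁻¹ = a' * b * (k * a'⁻¹) * (k⁻¹ * b⁻¹) := by group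
      _ = a' * b * (a'⁻¹ * k) * (k⁻¹ * b⁻¹) := by rw [(Commute.inv_left hak).eq]
      _ = a' * b * a'⁻¹ * b⁻¹ := by group
  rw [e2]
  rcases S.pr_eq ha ha' hp with rfl | rfl
  · rfl
  · calc a * b * a⁻¹ * b⁻¹ = a * (b * z) * z⁻¹ * a⁻¹ * b⁻¹ := by group
      _ = a * z * b * (a * z)⁻¹ * b⁻¹ := by rw [hbz]; group

theorem k_conj {c : G} (hcz : c * z = z * c) (hcw : c * w = w * c) (i j : ZMod 2) :
    c * (zp w i * zp z j) * c⁻¹ = zp w i * zp z j := by
  rw [k_comm F hcz hcw, mul_inv_cancel_right]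

/-- The commutator of the two extraspecial groups inside the centraliser of `z` and `w`. -/
theorem mix {a b : G} (ha : a ∈ oc z) (hv : Bp (S.pr a) (dc 1) = 0) (hb : b ∈ oc w)
    (hbz : b * z = z * b) {u : V} (hu : Bp u (dc 1) = 0) (hbu : ∀ y, (S.act b).1 y = sg u y) :
    a * b * a⁻¹ * b⁻¹ = zp w (Bp (S.pr a) u) * zp z (Bp (S.pr a) u) := by
  classical
  have hD : ∀ u v : V, ∃ d : ZMod 2, Bp u (dc 1) = 0 → Bp v (dc 1) = 0 → ∀ a b, a ∈ oc z → S.pr a = v →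
      b ∈ oc w → b * z = z * b → (∀ y, (S.act b).1 y = sg u y) →
      a * b * a⁻¹ * b⁻¹ = zp w (Bp v u) * zp z d := by
    intro u v
    by_cases hu : Bp u (dc 1) = 0
    · by_cases hv : Bp v (dc 1) = 0
      · obtain ⟨a₀, ha₀, hae⟩ := S.pr_surj v
        obtain ⟨b₀, hb₀, hbz₀, hbu₀⟩ := exists_sg F hu
        obtain ⟨d, hd⟩ := mix_w F ha₀ (by rw [hae]; exact hv) hb₀ hbz₀ hbu₀
        refine ⟨d, fun _ _ a b ha hpa hb hbz hbu => ?_⟩
        rw [← hae, ← hd]
        exact mix_indep F ha ha₀ (by rw [hpa]; exact hv) (hpa.trans hae.symm) hb hbz hb₀ hbz₀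
          fun y => by rw [hbu, hbu₀]
      · exact ⟨0, fun _ h => absurd h hv⟩
    · exact ⟨0, fun h => absurd h hu⟩
  choose dl hdl using hD
  have huniq : ∀ {u v : V} {a b : G} {d : ZMod 2}, Bp u (dc 1) = 0 → Bp v (dc 1) = 0 → a ∈ oc z →
      S.pr a = v → b ∈ oc w → b * z = z * b → (∀ y, (S.act b).1 y = sg u y) →
      a * b * a⁻¹ * b⁻¹ = zp w (Bp v u) * zp z d → dl u v = d :=
    fun hu hv ha hp hb hbz hbu h => (k_inj F ((hdl _ _ hu hv _ _ ha hp hb hbz hbu).symm.trans h)).2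
  -- additivity
  have hadd_v : ∀ u v v', Bp u (dc 1) = 0 → Bp v (dc 1) = 0 → Bp v' (dc 1) = 0 →
      dl u (v + v') = dl u v + dl u v' := by
    intro u v v' hu hv hv'
    obtain ⟨a, ha, hae⟩ := S.pr_surj v
    obtain ⟨a', ha', hae'⟩ := S.pr_surj v'
    obtain ⟨b, hb, hbz, hbu⟩ := exists_sg F hu
    refine huniq hu (by rw [Bp_add_left, hv, hv', add_zero]) (mul_mem ha ha')
      (by rw [S.pr_mul _ ha _ ha', hae, hae']) hb hbz hbu ?_
    have h1 := hdl u v hu hv a b ha hae hb hbz hbu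
    have h2 := hdl u v' hu hv' a' b ha' hae' hb hbz hbu
    calc a * a' * b * (a * a')⁻¹ * b⁻¹ = a * (a' * b * a'⁻¹ * b⁻¹) * a⁻¹ * (a * b * a⁻¹ * b⁻¹) := by group
      _ = zp w (Bp (v + v') u) * zp z (dl u v + dl u v') := by
        rw [h1, h2, k_conj F (S.comm ha) (comm_of_perp F ha (by rw [hae]; exact hv)), k_mul F,
          add_comm (Bp v' u), ← Bp_add_left, add_comm (dl u v')]
  have hadd_u : ∀ u u' v, Bp u (dc 1) = 0 → Bp u' (dc 1) = 0 → Bp v (dc 1) = 0 →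
      dl (u + u') v = dl u v + dl u' v := by
    intro u u' v hu hu' hv
    obtain ⟨a, ha, hae⟩ := S.pr_surj v
    obtain ⟨b, hb, hbz, hbu⟩ := exists_sg F hu
    obtain ⟨b', hb', hbz', hbu'⟩ := exists_sg F hu'
    refine huniq (by rw [Bp_add_left, hu, hu', add_zero]) hv ha hae (mul_mem hb hb')
      (Commute.mul_left hbz hbz').eq (fun y => by rw [S.act_mul hbz hbz', oG_mul_apply, hbu', hbu, sg_comp hu hu']) ?_
    have h1 := hdl u v hu hv a b ha hae hb hbz hbu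
    have h2 := hdl u' v hu' hv a b' ha hae hb' hbz' hbu'
    calc a * (b * b') * a⁻¹ * (b * b')⁻¹ = a * b * a⁻¹ * b⁻¹ * (b * (a * b' * a⁻¹ * b'⁻¹) * b⁻¹) := by group
      _ = zp w (Bp v (u + u')) * zp z (dl u v + dl u' v) := by
        rw [h1, h2, k_conj F hbz (comm_w F hb), k_mul F, ← Bp_add_right]
  -- invariance
  have hinv : ∀ g : O, dsign g = 1 → g.1 (dc 1) = dc 1 → ∀ u v, Bp u (dc 1) = 0 → Bp v (dc 1) = 0 →
      dl (g.1 u) (g.1 v) = dl u v := by
    intro g hg he u v hu hv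
    obtain ⟨c, hc, hcw, rfl⟩ := exists_stab F g hg he
    obtain ⟨a, ha, hae⟩ := S.pr_surj v
    obtain ⟨b, hb, hbz, hbu⟩ := exists_sg F hu
    have hge : ∀ x, Bp ((S.act c).1 x) (dc 1) = Bp x (dc 1) := fun x => by
      conv_lhs => rw [← he]
      exact polar_g _ _ _
    refine huniq (by rw [hge, hu]) (by rw [hge, hv]) (S.nrm hc ha)
      (by rw [S.act_spec c hc a ha, hae]) (nrm_w F hcw hb)
      ((Commute.mul_left (Commute.mul_left hc hbz) (Commute.inv_left hc)).eq)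
      (fun y => by
        rw [S.act_mul (Commute.mul_left hc hbz).eq (Commute.inv_left hc).eq, S.act_mul hc hbz,
          S.act_inv hc, oG_mul_apply, oG_mul_apply, hbu, sg_equiv _ he, oG_apply_inv]) ?_
    calc c * a * c⁻¹ * (c * b * c⁻¹) * (c * a * c⁻¹)⁻¹ * (c * b * c⁻¹)⁻¹
        = c * (a * b * a⁻¹ * b⁻¹) * c⁻¹ := by group
      _ = _ := by rw [hdl u v hu hv a b ha hae hb hbz hbu, k_conj F hc hcw, polar_g]
  have he0 : ∀ u, Bp u (dc 1) = 0 → dl u (dc 1) = 0 := by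
    intro u hu
    obtain ⟨b, hb, hbz, hbu⟩ := exists_sg F hu
    refine huniq hu e_self F.mem F.pr_eq hb hbz hbu ?_
    rw [Bp_comm, hu, zp_zero, zp_zero, one_mul, ← comm_w F hb]; group
  -- shape
  have hshape : ∀ u, Bp u (dc 1) = 0 → (∀ v, Bp v (dc 1) = 0 → dl u v = 0) ∨
      ∀ v, Bp v (dc 1) = 0 → dl u v = Bp v u := by
    intro u hu
    let pj : V → V := fun x => x + Bp x (dc 1) • dc 16
    have hpj : ∀ x, Bp (pj x) (dc 1) = 0 := fun x => by
      simp only [pj, Bp_add_left, Bp_smul_left, B16e, mul_one, two_zero]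
    obtain ⟨p, hp⟩ := exists_rep (fun x => dl u (pj x)) fun x y => by
      rw [← hadd_v u _ _ hu (hpj x) (hpj y)]
      congr 1
      simp only [pj, Bp_add_left, add_smul]; abel
    have hval : ∀ v, Bp v (dc 1) = 0 → dl u v = Bp v p := fun v hv => by
      rw [← hp v]
      show _ = dl u (pj v)
      simp only [pj, hv, zero_smul, add_zero]
    have hpe : Bp p (dc 1) = 0 := by rw [Bp_comm, ← hval _ e_self, he0 u hu]
    have hcase := stab_fix hu hpe fun g hg he hgu => by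
      have hd : g.1 p + p = 0 ∨ g.1 p + p = dc 1 := by
        refine perp_e fun k hk => ?_
        have hk1 : Bp (dc k) (dc 1) = 0 := by
          rw [Bp_dc (by revert k; decide) (by norm_num), bz_eq_zero]; revert k; decide
        obtain ⟨t, ht⟩ := g.1.surjective (dc k)
        have ht1 : Bp t (dc 1) = 0 := by rw [← polar_g g, ht, he, hk1]
        have h := hinv g hg he u t hu ht1
        rw [hgu, ht, hval _ hk1, hval _ ht1, ← polar_g g t p, ht] at h
        rw [Bp_comm, Bp_add_right, h, two_zero]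
      rcases hd with e | e
      · exact Or.inl (v_eq_of_add e)
      · exact Or.inr (by rw [← e, add_left_comm, v_add_self, add_zero])
    rcases hcase with e | e | e | e
    · exact Or.inl fun v hv => by rw [hval v hv, e, Bp_zero_right]
    · exact Or.inl fun v hv => by rw [hval v hv, e, hv]
    · exact Or.inr fun v hv => by rw [hval v hv, e]
    · exact Or.inr fun v hv => by rw [hval v hv, e, Bp_add_right, hv, add_zero]
  -- non-degeneracy
  obtain ⟨u₀, v₀, hu₀, hv₀, hd₀⟩ : ∃ u v, Bp u (dc 1) = 0 ∧ Bp v (dc 1) = 0 ∧ dl u v = 1 := by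
    obtain ⟨g, hg, F'⟩ := mirror F
    obtain ⟨a, ha, hae⟩ := S.pr_surj (dc 2)
    have h21 : Bp (S.pr a) (dc 1) = 0 := by rw [hae, Bp_dc (by norm_num) (by norm_num)]; rfl
    have haw := comm_of_perp F ha h21
    obtain ⟨-, ha', ha'z, -⟩ := mirror_mem F hg (x := a)
    obtain ⟨x, hx, hxa⟩ := act_sg F' (ha' ha) (ha'z haw)
    have hne : x ≠ 0 ∧ x ≠ dc 1 := by
      rw [← not_or]
      intro h
      have hid : S.act (g⁻¹ * a * g) = 1 := ext_oG fun y => by
        rcases h with rfl | rfl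
        · rw [hxa, sg_zero, oG_one_apply]
        · rw [hxa, sg_e, oG_one_apply]
      have h1 := conj_mem_oc (g := g) (S.act_ker _ (ha'z haw) hid)
      rw [hg, show g * (g⁻¹ * a * g) * g⁻¹ = a by group] at h1
      obtain ⟨i, j, e⟩ := k_cases F ha h1
      have := congrArg (fun y : V => Bp y (dc 32)) (hae.symm.trans ((congrArg S.pr e).trans (k_spec F i j).2.2))
      simp only [Bp_smul_left, Bp_dc (by norm_num : (2 : ℕ) < 256) (by norm_num : (32 : ℕ) < 256),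
        Bp_dc (by norm_num : (1 : ℕ) < 256) (by norm_num : (32 : ℕ) < 256)] at this
      rw [show Bn 1 32 = false from rfl, show Bn 2 32 = true from rfl, show bz false = 0 from rfl,
        mul_zero] at this
      exact absurd this (by decide)
    obtain ⟨r, hr, hrx⟩ := exists_perp hne.1 hne.2
    obtain ⟨b', hb', hbe⟩ := S.pr_surj r
    have hb'w : b' * (g⁻¹ * z * g) = g⁻¹ * z * g * b' := comm_of_perp F' hb' (by rw [hbe]; exact hr)
    set b := g * b' * g⁻¹ with hb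
    have hbm : b ∈ oc w := hg ▸ conj_mem_oc hb'
    have hbz' : b * z = z * b := by
      calc b * z = g * (b' * (g⁻¹ * z * g)) * g⁻¹ := by rw [hb]; group
        _ = z * b := by rw [hb'w, hb]; group
    obtain ⟨u, hu, hbu⟩ := act_sg F hbm hbz'
    refine ⟨u, dc 2, hu, by rw [← hae]; exact h21, ?_⟩
    have h := hdl u (dc 2) hu (by rw [← hae]; exact h21) a b ha hae hbm hbz' hbu
    have hcm := S.nrm (ha'z haw) hb'
    have h' : g⁻¹ * a * g * b' * (g⁻¹ * a * g)⁻¹ * b'⁻¹ ∈ oc z := mul_mem hcm (inv_mem hb')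
    have hp : S.pr (g⁻¹ * a * g * b' * (g⁻¹ * a * g)⁻¹ * b'⁻¹) = dc 1 := by
      rw [S.pr_mul _ hcm _ (inv_mem hb'), S.act_spec _ (ha'z haw) b' hb', S.pr_inv hb', hbe, hxa,
        sg_perp hr, hrx, one_smul, add_right_comm, v_add_self, zero_add]
    have hback : a * b * a⁻¹ * b⁻¹ = g * (g⁻¹ * a * g * b' * (g⁻¹ * a * g)⁻¹ * b'⁻¹) * g⁻¹ := by
      rw [hb]; group
    have hzz : g * (g⁻¹ * z * g) * g⁻¹ = z := by group
    rcases S.pr_eq F'.mem h' (F'.pr_eq.trans hp.symm) with e | e <;> rw [e] at hback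
    · rw [h, hzz] at hback
      exact (k_inj F (i' := 0) (j' := 1) (hback.trans (by rw [zp_zero, zp_one, one_mul]))).2
    · rw [h, show g * (g⁻¹ * z * g * z) * g⁻¹ = g * (g⁻¹ * z * g) * g⁻¹ * (g * z * g⁻¹) by group,
        hzz, hg] at hback
      exact (k_inj F (i' := 1) (j' := 1) (hback.trans (by rw [zp_one, zp_one, wz F]))).2
  have hB₀ : ∀ v, Bp v (dc 1) = 0 → dl u₀ v = Bp v u₀ :=
    (hshape u₀ hu₀).resolve_left fun h => by rw [h v₀ hv₀] at hd₀; exact zero_ne_one hd₀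
  have huv₀ : Bp v₀ u₀ = 1 := (hB₀ v₀ hv₀).symm.trans hd₀
  have hall : ∀ u v, Bp u (dc 1) = 0 → Bp v (dc 1) = 0 → dl u v = Bp v u := by
    intro u v hu hv
    rcases hshape u hu with h | h
    swap
    · exact h v hv
    rw [h v hv]
    symm
    rcases hshape (u₀ + u) (by rw [Bp_add_left, hu₀, hu, add_zero]) with h' | h'
    · have := h' v₀ hv₀
      rw [hadd_u _ _ _ hu₀ hu hv₀, h v₀ hv₀, hd₀, add_zero] at this
      exact absurd this one_ne_zero
    · have := h' v hv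
      rw [hadd_u _ _ _ hu₀ hu hv, h v hv, hB₀ v hv, add_zero, Bp_add_right, left_eq_add] at this
      exact this
  rw [hdl u _ hu hv a b ha rfl hb hbz hbu, hall u _ hu hv]

theorem commute_of_perp {a b : G} (ha : a ∈ oc z) (hv : Bp (S.pr a) (dc 1) = 0) (hb : b ∈ oc w)
    (hbz : b * z = z * b) {u : V} (hu : Bp u (dc 1) = 0) (hbu : ∀ y, (S.act b).1 y = sg u y)
    (h : Bp (S.pr a) u = 0) : a * b = b * a := by
  have e := mix F ha hv hb hbz hu hbu
  rw [h, zp_zero, zp_zero, one_mul] at e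
  calc a * b = a * b * a⁻¹ * b⁻¹ * (b * a) := by group
    _ = b * a := by rw [e, one_mul]

/-- Conjugation by an element of `oc z` above the partner of `e`. -/
theorem conj_y {y b : G} (hy : y ∈ oc z) (hye : S.pr y = dc 16) (hbz : b * z = z * b) {u : V}
    (hu : Bp u (dc 1) = 0) (hbu : ∀ x, (S.act b).1 x = sg u x) :
    ∃ a' ∈ oc z, (S.pr a' = u ∨ S.pr a' = u + dc 1) ∧ y * b * y⁻¹ = b * a' := by
  have hbi : b⁻¹ * z = z * b⁻¹ := (Commute.inv_left hbz).eq
  have hm : b⁻¹ * y * b ∈ oc z := by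
    have := S.nrm hbi hy
    rwa [inv_inv] at this
  refine ⟨b⁻¹ * y * b * y⁻¹, mul_mem hm (inv_mem hy), ?_, by group⟩
  have hinv : ∀ x, ((S.act b)⁻¹).1 x = sg u x := fun x => (S.act b).1.injective (by
    rw [oG_apply_inv, hbu, sg_invol hu])
  have hp : S.pr (b⁻¹ * y * b) = sg u (dc 16) := by
    conv_lhs => rw [show b⁻¹ * y * b = b⁻¹ * y * b⁻¹⁻¹ by rw [inv_inv]]
    rw [S.act_spec b⁻¹ hbi y hy, S.act_inv hbz, hinv, hye]
  rw [S.pr_mul _ hm _ (inv_mem hy), S.pr_inv hy, hp, hye, sg, B16e, one_smul]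
  rcases zmod_cases (Bp (dc 16) u + qP 4 u) with e | e
  · left
    rw [show dc 16 + Bp (dc 16) u • dc 1 + (u + qP 4 u • dc 1) + dc 16 =
      (dc 16 + dc 16) + (Bp (dc 16) u + qP 4 u) • dc 1 + u by rw [add_smul]; abel, v_add_self, e]
    simp
  · right
    rw [show dc 16 + Bp (dc 16) u • dc 1 + (u + qP 4 u • dc 1) + dc 16 =
      (dc 16 + dc 16) + (Bp (dc 16) u + qP 4 u) • dc 1 + u by rw [add_smul]; abel, v_add_self, e]
    simp [add_comm]

omit F in
theorem shift_facts {v u : V} (hv : Bp v (dc 1) = 0) {x : V} (hx : Bp x (dc 1) = 0)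
    (h : u = v ∨ u = v + dc 1) : Bp u (dc 1) = 0 ∧ qP 4 u = qP 4 v ∧ Bp u x = Bp v x ∧ Bp x u = Bp x v := by
  rcases h with rfl | rfl
  · exact ⟨hv, rfl, rfl, rfl⟩
  · refine ⟨by rw [Bp_add_left, hv, e_self, add_zero], by rw [q_add, q_e, hv, add_zero, add_zero], ?_, ?_⟩
    · rw [Bp_add_left, Bp_comm (dc 1), hx, add_zero]
    · rw [Bp_add_right, hx, add_zero]

/-- The square of an element of `oc w` centralising `z`. -/
theorem sq_X {b : G} (hb : b ∈ oc w) (hbz : b * z = z * b) {u : V} (hu : Bp u (dc 1) = 0)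
    (hbu : ∀ y, (S.act b).1 y = sg u y) : b * b = zp w (qP 4 u) := by
  obtain ⟨Qv, hQ⟩ : ∃ e, b * b = zp w e := by
    rcases sq_cases F hb with h | h
    · exact ⟨0, by rw [h, zp_zero]⟩
    · exact ⟨1, by rw [h, zp_one]⟩
  obtain ⟨y, hy, hye⟩ := S.pr_surj (dc 16)
  obtain ⟨a', ha', hpa, hconj⟩ := conj_y F hy hye hbz hu hbu
  obtain ⟨hp1, hpq, hpu, -⟩ := shift_facts hu hu hpa
  have hc : a' * b = b * a' := commute_of_perp F ha' hp1 hb hbz hu hbu (by rw [hpu, Bp_self])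
  have hyw := k_conj_y F hy (by rw [hye, B16e])
  have hl : y * (b * b) * y⁻¹ = zp w Qv * zp z Qv := by
    rw [hQ]
    rcases zmod_cases Qv with rfl | rfl
    · simp [zp_zero]
    · rw [zp_one, zp_one, hyw]
  have hr : y * (b * b) * y⁻¹ = zp w Qv * zp z (qP 4 u) := by
    calc y * (b * b) * y⁻¹ = (y * b * y⁻¹) * (y * b * y⁻¹) := by group
      _ = b * (a' * b) * a' := by rw [hconj]; group
      _ = b * b * (a' * a') := by rw [hc]; group
      _ = _ := by rw [hQ, S.pr_sq a' ha', hpq]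
  rw [hQ, (k_inj F (hl.symm.trans hr)).2]

/-- Products of elements above given vectors. -/
def InT (S : CoOne z) (w t : G) (v u : V) : Prop :=
  ∃ a b : G, a ∈ oc z ∧ (S.pr a = v ∨ S.pr a = v + dc 1) ∧ b ∈ oc w ∧ b * z = z * b ∧
    (∀ y, (S.act b).1 y = sg u y) ∧ t = a * b

theorem T_exists {v u : V} (hu : Bp u (dc 1) = 0) : ∃ t, InT S w t v u := by
  obtain ⟨a, ha, hae⟩ := S.pr_surj v
  obtain ⟨b, hb, hbz, hbu⟩ := exists_sg F hu
  exact ⟨a * b, a, b, ha, Or.inl hae, hb, hbz, hbu, rfl⟩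

theorem T_basic {t : G} {v u : V} (hv : Bp v (dc 1) = 0) (hu : Bp u (dc 1) = 0) (h : InT S w t v u) :
    t * z = z * t ∧ t * w = w * t ∧ (∀ y, (S.act t).1 y = sg u y) ∧
      t * t = zp w (qP 4 u + Bp v u) * zp z (qP 4 v + Bp v u) := by
  obtain ⟨a, b, ha, hpa, hb, hbz, hbu, rfl⟩ := h
  obtain ⟨hp1, hpq, hpu, -⟩ := shift_facts hv hu hpa
  have haw := comm_of_perp F ha hp1
  refine ⟨(Commute.mul_left (S.comm ha) hbz).eq, (Commute.mul_left haw (comm_w F hb)).eq,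
    fun y => by rw [S.act_mul (S.comm ha) hbz, S.act_inner ha, one_mul, hbu], ?_⟩
  have hk := mix F ha hp1 hb hbz hu hbu
  rw [hpu] at hk
  set i := Bp v u
  have hkk : (a * b * a⁻¹ * b⁻¹)⁻¹ = zp w i * zp z i := by
    rw [hk]
    refine inv_eq_of_mul_eq_one_right ?_
    rw [k_mul F, two_zero, zp_zero, zp_zero, one_mul]
  calc a * b * (a * b) = a * ((a * b * a⁻¹ * b⁻¹)⁻¹ * (a * b)) * b := by group
    _ = a * (zp w i * zp z i) * (a * (b * b)) := by rw [hkk]; group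
    _ = zp w i * zp z i * (a * a) * (b * b) := by rw [k_comm F (S.comm ha) haw]; group
    _ = _ := by
      rw [S.pr_sq a ha, hpq, sq_X F hb hbz hu hbu,
        show zp z (qP 4 v) = zp w 0 * zp z (qP 4 v) by rw [zp_zero, one_mul],
        show zp w (qP 4 u) = zp w (qP 4 u) * zp z 0 by rw [zp_zero, mul_one], k_mul F, k_mul F,
        add_zero, add_zero, add_comm i, add_comm i]

theorem T_invol {t : G} {v u : V} (hv : Bp v (dc 1) = 0) (hu : Bp u (dc 1) = 0) (h : InT S w t v u) :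
    t * t = 1 ↔ qP 4 u = Bp v u ∧ qP 4 v = Bp v u := by
  rw [(T_basic F hv hu h).2.2.2]
  constructor
  · intro e
    obtain ⟨e1, e2⟩ := k_inj F (i' := 0) (j' := 0) (e.trans (by rw [zp_zero, zp_zero, one_mul]))
    exact ⟨(by decide : ∀ a b : ZMod 2, a + b = 0 → a = b) _ _ e1,
      (by decide : ∀ a b : ZMod 2, a + b = 0 → a = b) _ _ e2⟩
  · rintro ⟨e1, e2⟩
    rw [e1, e2, two_zero, zp_zero, zp_zero, one_mul]

theorem T_mul_k {t : G} {v u : V} (h : InT S w t v u) (i j : ZMod 2) :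
    InT S w (t * (zp w i * zp z j)) v u := by
  obtain ⟨a, b, ha, hpa, hb, hbz, hbu, rfl⟩ := h
  obtain ⟨hkz, hkw, -⟩ := k_spec F i j
  refine ⟨a, b * (zp w i * zp z j), ha, hpa, mul_mem hb hkw, (Commute.mul_left hbz (S.comm hkz)).eq,
    fun y => ?_, by group⟩
  rw [S.act_mul hbz (S.comm hkz), S.act_inner hkz, mul_one, hbu]

theorem T_same {t t' : G} {v u : V} (hv : Bp v (dc 1) = 0) (hu : Bp u (dc 1) = 0) (h : InT S w t v u)
    (h' : InT S w t' v u) : ∃ i j, t' = t * (zp w i * zp z j) := by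
  obtain ⟨a, b, ha, hpa, hb, hbz, hbu, rfl⟩ := h
  obtain ⟨a', b', ha', hpa', hb', hbz', hbu', rfl⟩ := h'
  obtain ⟨k, hk, hk', rfl⟩ := same_act F hb hbz hb' hbz' fun y => by rw [hbu, hbu']
  obtain ⟨i, j, rfl⟩ := k_cases F hk hk'
  have hm : a⁻¹ * a' ∈ oc z := mul_mem (inv_mem ha) ha'
  have hp : S.pr (a⁻¹ * a') = 0 ∨ S.pr (a⁻¹ * a') = dc 1 := by
    rw [S.pr_mul _ (inv_mem ha) _ ha', S.pr_inv ha]
    rcases hpa with e | e <;> rcases hpa' with e' | e' <;> rw [e, e']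
    · exact Or.inl (v_add_self v)
    · exact Or.inr (by rw [← add_assoc, v_add_self, zero_add])
    · exact Or.inr (by rw [add_right_comm, v_add_self, zero_add])
    · exact Or.inl (v_add_self _)
  obtain ⟨i', j', e⟩ : ∃ i' j', a⁻¹ * a' = zp w i' * zp z j' := by
    rcases hp with e | e
    · rcases S.pr_ker _ hm e with h | h
      · exact ⟨0, 0, by simp [h, zp_zero]⟩
      · exact ⟨0, 1, by simp [h, zp_zero, zp_one]⟩
    · rcases S.pr_eq F.mem hm (F.pr_eq.trans e.symm) with h | h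
      · exact ⟨1, 0, by simp [h, zp_zero, zp_one]⟩
      · exact ⟨1, 1, by simp [h, zp_one]⟩
  refine ⟨i' + i, j' + j, ?_⟩
  calc a' * (b * (zp w i * zp z j)) = a * ((a⁻¹ * a') * b) * (zp w i * zp z j) := by group
    _ = a * (b * (zp w i' * zp z j')) * (zp w i * zp z j) := by rw [e, k_comm F hbz (comm_w F hb)]
    _ = a * b * (zp w (i' + i) * zp z (j' + j)) := by rw [← k_mul F]; group

theorem T_swap {a b : G} {v u : V} (hv : Bp v (dc 1) = 0) (hu : Bp u (dc 1) = 0) (ha : a ∈ oc z)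
    (hpa : S.pr a = v ∨ S.pr a = v + dc 1) (hb : b ∈ oc w) (hbz : b * z = z * b)
    (hbu : ∀ y, (S.act b).1 y = sg u y) : InT S w (b * a) v u := by
  obtain ⟨hp1, -, -, -⟩ := shift_facts hv hu hpa
  obtain ⟨d, hd⟩ := mix_w F ha hp1 hb hbz hbu
  have e : b * a = a * b * (zp w (Bp (S.pr a) u) * zp z d)⁻¹ := by
    have hab : a * b * (zp w (Bp (S.pr a) u) * zp z d) = zp w (Bp (S.pr a) u) * zp z d * (a * b) :=
      k_comm F (Commute.mul_left (S.comm ha) hbz).eq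
        (Commute.mul_left (comm_of_perp F ha hp1) (comm_w F hb)).eq _ _
    rw [(Commute.inv_right hab).eq, ← hd]
    group
  have h2 : (zp w (Bp (S.pr a) u) * zp z d)⁻¹ = zp w (Bp (S.pr a) u) * zp z d :=
    inv_eq_of_mul_eq_one_right (by rw [k_mul F, two_zero, two_zero, zp_zero, zp_zero, one_mul])
  rw [e, h2]
  exact T_mul_k F ⟨a, b, ha, hpa, hb, hbz, hbu, rfl⟩ _ _

theorem T_conj {t c : G} {v u : V} (h : InT S w t v u) (hcz : c * z = z * c) (hcw : c * w = w * c) :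
    InT S w (c * t * c⁻¹) ((S.act c).1 v) ((S.act c).1 u) := by
  obtain ⟨a, b, ha, hpa, hb, hbz, hbu, rfl⟩ := h
  have he : (S.act c).1 (dc 1) = dc 1 := by
    rw [← F.pr_eq, ← S.act_spec c hcz w F.mem, mul_inv_eq_of_eq_mul hcw]
  refine ⟨c * a * c⁻¹, c * b * c⁻¹, S.nrm hcz ha, ?_, nrm_w F hcw hb,
    ((Commute.mul_left (Commute.mul_left hcz hbz) (Commute.inv_left hcz)).eq), fun y => ?_, by group⟩
  · rw [S.act_spec c hcz a ha]
    rcases hpa with e | e <;> rw [e]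
    · exact Or.inl rfl
    · exact Or.inr (by rw [map_add, he])
  · rw [S.act_mul (Commute.mul_left hcz hbz).eq (Commute.inv_left hcz).eq, S.act_mul hcz hbz,
      S.act_inv hcz, oG_mul_apply, oG_mul_apply, hbu, sg_equiv _ he, oG_apply_inv]

theorem T_conj_y {t y : G} {v u : V} (hv : Bp v (dc 1) = 0) (hu : Bp u (dc 1) = 0) (h : InT S w t v u)
    (hy : y ∈ oc z) (hye : S.pr y = dc 16) : InT S w (y * t * y⁻¹) (v + u) u := by
  obtain ⟨a, b, ha, hpa, hb, hbz, hbu, rfl⟩ := h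
  obtain ⟨a', ha', hpa', hconj⟩ := conj_y F hy hye hbz hu hbu
  obtain ⟨hp1, -, -, -⟩ := shift_facts hv hu hpa
  obtain ⟨hp1', -, -, -⟩ := shift_facts hu hu hpa'
  have hya : y * a * y⁻¹ ∈ oc z := mul_mem (mul_mem hy ha) (inv_mem hy)
  have hpy : S.pr (y * a * y⁻¹) = S.pr a := by
    rw [S.act_spec y (S.comm hy) a ha, S.act_inner hy, oG_one_apply]
  obtain ⟨a'', b'', ha'', hpa'', hb'', hbz'', hbu'', e⟩ := T_swap F hu hu ha' hpa' hb hbz hbu
  refine ⟨y * a * y⁻¹ * a'', b'', mul_mem hya ha'', ?_, hb'', hbz'', hbu'', ?_⟩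
  · rw [S.pr_mul _ hya _ ha'', hpy]
    rcases hpa with e1 | e1 <;> rcases hpa'' with e2 | e2 <;> rw [e1, e2]
    · exact Or.inl rfl
    · exact Or.inr (by abel)
    · exact Or.inr (by abel)
    · refine Or.inl ?_
      rw [show v + dc 1 + (u + dc 1) = v + u + (dc 1 + dc 1) by abel, v_add_self, add_zero]
  · calc y * (a * b) * y⁻¹ = y * a * y⁻¹ * (y * b * y⁻¹) := by group
      _ = y * a * y⁻¹ * a'' * b'' := by rw [hconj, e]; group

theorem T_shift {t r : G} {v u : V} (hv : Bp v (dc 1) = 0) (hu : Bp u (dc 1) = 0) (h : InT S w t v u)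
    (hr : r ∈ oc z) (hre : Bp (S.pr r) (dc 1) = 0) :
    r * t * r⁻¹ = t * (zp w (Bp (S.pr r) u) * zp z (Bp (S.pr r) v + Bp (S.pr r) u)) := by
  obtain ⟨a, b, ha, hpa, hb, hbz, hbu, rfl⟩ := h
  obtain ⟨hp1, -, -, hxa⟩ := shift_facts hv hre hpa
  have h1 : r * a * r⁻¹ = a * zp z (Bp (S.pr r) v) := by
    have := S.commutator_eq hr ha
    rw [mul_inv_eq_iff_eq_mul] at this
    rw [this, hxa, S.comm_zp (S.comm ha)]
  have h2 : r * b * r⁻¹ = b * (zp w (Bp (S.pr r) u) * zp z (Bp (S.pr r) u)) := by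
    have := mix F hr hre hb hbz hu hbu
    rw [mul_inv_eq_iff_eq_mul] at this
    rw [this, k_comm F hbz (comm_w F hb)]
  have h3 : zp z (Bp (S.pr r) v) * b = b * zp z (Bp (S.pr r) v) := (S.comm_zp hbz _).symm
  calc r * (a * b) * r⁻¹ = r * a * r⁻¹ * (r * b * r⁻¹) := by group
    _ = a * (zp z (Bp (S.pr r) v) * b) * (zp w (Bp (S.pr r) u) * zp z (Bp (S.pr r) u)) := by
      rw [h1, h2]; group
    _ = a * b * (zp z (Bp (S.pr r) v) * (zp w (Bp (S.pr r) u) * zp z (Bp (S.pr r) u))) := by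
      rw [h3]; group
    _ = _ := by
      rw [show zp z (Bp (S.pr r) v) = zp w 0 * zp z (Bp (S.pr r) v) by rw [zp_zero, one_mul], k_mul F,
        zero_add]

/-- All elements above given vectors are conjugate, if the vectors are independent. -/
theorem T_isConj {t t' : G} {v u : V} (hv : Bp v (dc 1) = 0) (hu : Bp u (dc 1) = 0)
    (h : InT S w t v u) (h' : InT S w t' v u)
    (hx : ∀ i j : ZMod 2, ∃ x, Bp x (dc 1) = 0 ∧ Bp x u = i ∧ Bp x v = j) :
    ∃ r, r ∈ oc z ∧ r * w = w * r ∧ r * t * r⁻¹ = t' := by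
  obtain ⟨i, j, rfl⟩ := T_same F hv hu h h'
  obtain ⟨x, hx1, hxu, hxv⟩ := hx i (i + j)
  obtain ⟨r, hr, rfl⟩ := S.pr_surj x
  refine ⟨r, hr, comm_of_perp F hr hx1, ?_⟩
  rw [T_shift F hv hu h hr hx1, hxu, hxv, add_comm i j, add_assoc, two_zero, add_zero]

end CoOne

end Cfsg.Agent.CoOneType
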