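import Cfsg.Agent.CoOneType.Pair

/-!
Involutions of the centraliser acting as Siegel maps.
-/

set_option autoImplicit false

open Cfsg Cfsg.Agent.ThreeTrans.OrthCohom Cfsg.Agent.Classical.Quad QuadraticMap Cfsg.Agent.LargeExtra

namespace Cfsg.Agent.CoOneType

theorem dc_perp (i : ℕ) (hi : i < 256) (h : Bn i 1 = false) : Bp (dc i) (dc 1) = 0 := by
  rw [Bp_dc hi (by norm_num), h]; rfl

variable {G : Type*} [Group G] [Finite G]

namespace CoOne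

variable {z : G} {S : CoOne z} {w : G} (F : S.Fr w)
include F

omit F in
theorem T_congr {t : G} {v v' u u' : V} (hu : Bp u (dc 1) = 0) (hv' : v' = v ∨ v' = v + dc 1)
    (hu' : u' = u ∨ u' = u + dc 1) (h : InT S w t v u) : InT S w t v' u' := by
  obtain ⟨a, b, ha, hpa, hb, hbz, hbu, rfl⟩ := h
  refine ⟨a, b, ha, ?_, hb, hbz, fun y => ?_, rfl⟩
  · rcases hv' with rfl | rfl <;> rcases hpa with e | e <;> rw [e]
    · exact Or.inl rfl
    · exact Or.inr rfl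
    · exact Or.inr (add_cancel_pair _ _).symm
    · exact Or.inl rfl
  · rw [hbu]
    rcases hu' with rfl | rfl
    · rfl
    · rw [sg_shift hu]

/-- A non-trivial element of `oc w` modulo `oc z`. -/
theorem T_notMem {t : G} {v u : V} (hv : Bp v (dc 1) = 0) (hu : Bp u (dc 1) = 0) (h0 : u ≠ 0)
    (h1 : u ≠ dc 1) (h : InT S w t v u) : t ∉ oc z := fun hm => by
  rcases sg_inj hu (fun x => by rw [← (T_basic F hv hu h).2.2.1, S.act_inner hm, oG_one_apply])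
    with e | e
  exacts [h0 e, h1 e]

theorem conj_of_T_zero {t : G} {v u : V} (hv : v = 0 ∨ v = dc 1) (h2 : t * t = 1) (h1 : t ≠ 1)
    (h : InT S w t v u) : IsConj z t := by
  obtain ⟨a, b, ha, hpa, hb, hbz, hbu, rfl⟩ := h
  refine conj_of_invol F (mul_mem ?_ hb) h2 h1
  obtain ⟨hwm, hzm⟩ : w ∈ oc w ∧ z ∈ oc w := ⟨mem_oc_self (wset F).ord, zmem_oc F⟩
  have hp : S.pr a = 0 ∨ S.pr a = dc 1 := by
    rcases hv with rfl | rfl <;> rcases hpa with e | e <;> rw [e]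
    exacts [Or.inl rfl, Or.inr (zero_add _), Or.inr rfl, Or.inl (v_add_self _)]
  rcases hp with e | e
  · rcases S.pr_ker a ha e with rfl | rfl
    exacts [one_mem _, hzm]
  · rcases S.pr_eq F.mem ha (F.pr_eq.trans e.symm) with rfl | rfl
    exacts [hwm, mul_mem hwm hzm]

/-- An involution acting as a Siegel map is conjugate to `z` or to one above standard vectors. -/
theorem rank2 {t : G} (ht : t * z = z * t) (h2 : t * t = 1) (hn : t ∉ oc z) {u : V}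
    (hu : Bp u (dc 1) = 0) (hA : ∀ x, (S.act t).1 x = sg u x) :
    (IsConj z t ∧ IsConj z (t * z)) ∨ ∃ t', IsConj t t' ∧
      (InT S w t' (dc 4) (dc 2) ∨ InT S w t' (dc 70) (dc 34)) := by
  have h01 : u ≠ 0 ∧ u ≠ dc 1 := by
    rw [← not_or]
    intro h
    refine hn (S.act_ker t ht (ext_oG fun y => ?_))
    rw [hA, oG_one_apply]
    rcases h with rfl | rfl
    · rw [sg_zero]
    · rw [sg_e]
  obtain ⟨b, hb, hbz, hbu⟩ := exists_sg F hu
  have hbi := (Commute.inv_left hbz).eq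
  have ha : t * b⁻¹ ∈ oc z := S.act_ker _ (Commute.mul_left ht hbi).eq (by
    rw [S.act_mul ht hbi, S.act_inv hbz, ext_oG (g := S.act t) (h := S.act b) (fun y => by rw [hA, hbu]),
      mul_inv_cancel])
  set a := t * b⁻¹ with had
  have htab : t = a * b := by rw [had, inv_mul_cancel_right]
  have hcm := S.nrm hbz ha
  obtain ⟨hk1, hk2, hk3⟩ := k_spec F (qP 4 u) 0
  have hsum : S.pr a + sg u (S.pr a) = qP 4 u • dc 1 := by
    have e : a * (b * a * b⁻¹) = (zp w (qP 4 u) * zp z 0)⁻¹ := by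
      refine eq_inv_of_mul_eq_one_left ?_
      rw [zp_zero, mul_one, ← sq_X F hb hbz hu hbu]
      calc a * (b * a * b⁻¹) * (b * b) = a * b * (a * b) := by group
        _ = 1 := by rw [← htab, h2]
    have e' := congrArg S.pr e
    rwa [S.pr_mul _ ha _ hcm, S.act_spec b hbz a ha, hbu, S.pr_inv hk1, hk3] at e'
  have hv : Bp (S.pr a) (dc 1) = 0 := by
    refine (zmod_cases _).resolve_right fun hv1 => ?_
    rw [sg, hv1, one_smul] at hsum
    have e : u = (Bp (S.pr a) u + qP 4 u + qP 4 u) • dc 1 := by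
      funext i
      have hi := congrFun hsum i
      simp only [Pi.add_apply, Pi.smul_apply, smul_eq_mul] at hi ⊢
      exact (by decide : ∀ u a x q o : ZMod 2, a + (a + x * o + (u + q * o)) = q * o → u = (x + q + q) * o)
        _ _ _ _ _ hi
    rcases zmod_cases (Bp (S.pr a) u + qP 4 u + qP 4 u) with e' | e' <;> rw [e'] at e
    · exact h01.1 (e.trans (zero_smul _ _))
    · exact h01.2 (e.trans (one_smul _ _))
  have hT : InT S w t (S.pr a) u := ⟨a, b, ha, Or.inl rfl, hb, hbz, hbu, htab⟩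
  obtain ⟨hqu, hqv⟩ := (T_invol F hv hu hT).1 h2
  have ht1 : t ≠ 1 := fun e => hn (e ▸ one_mem _)
  have hstep : ∀ {t₁ : G} {v₁ u₁ : V}, InT S w t₁ v₁ u₁ → t₁ * t₁ = 1 → t₁ ≠ 1 → ∀ g : O, dsign g = 1 →
      g.1 (dc 1) = dc 1 →
      ∃ t₂, IsConj t₁ t₂ ∧ IsConj (t₁ * z) (t₂ * z) ∧ InT S w t₂ (g.1 v₁) (g.1 u₁) ∧ t₂ * t₂ = 1 ∧
        t₂ ≠ 1 := by
    intro t₁ v₁ u₁ h₁ hsq hne g hg he
    obtain ⟨c, hc, hcw, rfl⟩ := exists_stab F g hg he
    have hcz : c * (t₁ * z) * c⁻¹ = c * t₁ * c⁻¹ * z := by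
      calc c * (t₁ * z) * c⁻¹ = c * t₁ * (z * c⁻¹) := by group
        _ = c * t₁ * c⁻¹ * z := by rw [← (Commute.inv_left hc).eq]; group
    refine ⟨c * t₁ * c⁻¹, isConj_iff.2 ⟨c, rfl⟩, isConj_iff.2 ⟨c, hcz⟩, T_conj F h₁ hc hcw, ?_, fun e => hne (conj_eq_one_iff.1 e)⟩
    calc c * t₁ * c⁻¹ * (c * t₁ * c⁻¹) = c * (t₁ * t₁) * c⁻¹ := by group
      _ = 1 := by rw [hsq]; group
  have hge : ∀ {g : O}, g.1 (dc 1) = dc 1 → ∀ x, Bp (g.1 x) (dc 1) = Bp x (dc 1) := fun {g} he x => by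
    conv_lhs => rw [← he]
    exact polar_g _ _ _
  rcases zmod_cases (qP 4 u) with hq | hq
  · -- singular
    obtain ⟨g, hg, he, hgu⟩ := move_two hu hq h01.1 h01.2
    obtain ⟨t₁, hc₁, hc₁z, hT₁, hsq₁, hne₁⟩ := hstep hT h2 ht1 g hg he
    have hu1 : Bp (g.1 u) (dc 1) = 0 := by rw [hge he, hu]
    have hT₁' : InT S w t₁ (g.1 (S.pr a)) (dc 2) := T_congr hu1 (Or.inl rfl) (by
      rcases hgu with e | e <;> rw [e]
      · exact Or.inl rfl
      · exact Or.inr (add_cancel_pair _ _).symm) hT₁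
    set v₁ := g.1 (S.pr a)
    have hv1 : Bp v₁ (dc 1) = 0 := by rw [hge he, hv]
    have h21 := dc_perp 2 (by norm_num) rfl
    obtain ⟨hq1, hq1'⟩ := (T_invol F hv1 h21 hT₁').1 hsq₁
    rw [show qP 4 (dc 2) = 0 by rw [q_dc (by norm_num)]; rfl] at hq1
    have hpure : ∀ {t₃ : G} {v₃ : V}, v₃ = 0 ∨ v₃ = dc 1 → InT S w t₃ v₃ (dc 2) →
        Bp v₃ (dc 1) = 0 → t₃ * t₃ = 1 → IsConj z t₃ ∧ IsConj z (t₃ * z) := by
      intro t₃ v₃ hz3 hT₃ hv3 hsq₃
      have hm : t₃ * z = t₃ * (zp w 0 * zp z 1) := by rw [zp_zero, zp_one, one_mul]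
      have hT₃z : InT S w (t₃ * z) v₃ (dc 2) := hm ▸ T_mul_k F hT₃ 0 1
      have hne : ∀ {t₄ : G}, InT S w t₄ v₃ (dc 2) → t₄ ≠ 1 := fun {t₄} h4 e =>
        T_notMem F hv3 h21 (fun e' => absurd (dc_inj (by norm_num) (by norm_num) (e'.trans dc_zero.symm)) (by norm_num))
          (fun e' => absurd (dc_inj (by norm_num) (by norm_num) e') (by norm_num)) h4 (e ▸ one_mem _)
      exact ⟨conj_of_T_zero F hz3 hsq₃ (hne hT₃) hT₃, conj_of_T_zero F hz3
        ((T_invol F hv3 h21 hT₃z).2 ((T_invol F hv3 h21 hT₃).1 hsq₃)) (hne hT₃z) hT₃z⟩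
    by_cases hz0 : v₁ = 0 ∨ v₁ = dc 1
    · obtain ⟨h1, h1z⟩ := hpure hz0 hT₁' hv1 hsq₁
      exact Or.inl ⟨h1.trans hc₁.symm, h1z.trans hc₁z.symm⟩
    by_cases hz2 : v₁ = dc 2 ∨ v₁ = dc 2 + dc 1
    · obtain ⟨y, hy, hye⟩ := S.pr_surj (dc 16)
      have hT₂ := T_conj_y F hv1 h21 hT₁' hy hye
      have hyz : y * (t₁ * z) * y⁻¹ = y * t₁ * y⁻¹ * z := by
        calc y * (t₁ * z) * y⁻¹ = y * t₁ * (z * y⁻¹) := by group
          _ = y * t₁ * y⁻¹ * z := by rw [← (Commute.inv_left (S.comm hy)).eq]; group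
      obtain ⟨h1, h1z⟩ := hpure (v₃ := v₁ + dc 2) (by
        rcases hz2 with e | e <;> rw [e]
        · exact Or.inl (v_add_self _)
        · exact Or.inr (by rw [add_right_comm, v_add_self, zero_add])) hT₂
        (by rw [Bp_add_left, hv1, h21, add_zero]) (by
        calc y * t₁ * y⁻¹ * (y * t₁ * y⁻¹) = y * (t₁ * t₁) * y⁻¹ := by group
          _ = 1 := by rw [hsq₁]; group)
      exact Or.inl ⟨(h1.trans (isConj_iff.2 ⟨y, rfl⟩ : IsConj t₁ _).symm).trans hc₁.symm,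
        (h1z.trans (isConj_iff.2 ⟨y, hyz⟩ : IsConj (t₁ * z) _).symm).trans hc₁z.symm⟩
    push Not at hz0 hz2
    obtain ⟨g', hg', he', hg2, hgv⟩ := move_four hv1 (by rw [← hq1])
      (by rw [hq1', ← hq1]) ⟨hz0.1, hz0.2, hz2.1, hz2.2⟩
    obtain ⟨t₂, hc₂, -, hT₂, -, -⟩ := hstep hT₁' hsq₁ hne₁ g' hg' he'
    rw [hg2] at hT₂
    refine Or.inr ⟨t₂, hc₁.trans hc₂, Or.inl (T_congr h21 ?_ (Or.inl rfl) hT₂)⟩
    rcases hgv with e | e <;> rw [e]
    · exact Or.inl rfl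
    · exact Or.inr (add_cancel_pair _ _).symm
  · -- non-singular
    obtain ⟨g, hg, he, hgu⟩ := move_ns hu hq
    obtain ⟨t₁, hc₁, hc₁z, hT₁, hsq₁, hne₁⟩ := hstep hT h2 ht1 g hg he
    have hu1 : Bp (g.1 u) (dc 1) = 0 := by rw [hge he, hu]
    have hT₁' : InT S w t₁ (g.1 (S.pr a)) (dc 34) := T_congr hu1 (Or.inl rfl) (by
      rcases hgu with e | e <;> rw [e]
      · exact Or.inl rfl
      · exact Or.inr (add_cancel_pair _ _).symm) hT₁
    set v₁ := g.1 (S.pr a)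
    have hv1 : Bp v₁ (dc 1) = 0 := by rw [hge he, hv]
    have h341 := dc_perp 34 (by norm_num) rfl
    obtain ⟨hq1, hq1'⟩ := (T_invol F hv1 h341 hT₁').1 hsq₁
    rw [show qP 4 (dc 34) = 1 by rw [q_dc (by norm_num)]; rfl] at hq1
    obtain ⟨g', hg', he', hg34, hgv⟩ := move_seventy hv1 hq1.symm (by rw [hq1', ← hq1])
    obtain ⟨t₂, hc₂, -, hT₂, -, -⟩ := hstep hT₁' hsq₁ hne₁ g' hg' he'
    rw [hg34] at hT₂
    refine Or.inr ⟨t₂, hc₁.trans hc₂, Or.inr (T_congr h341 ?_ (Or.inl rfl) hT₂)⟩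
    rcases hgv with e | e <;> rw [e]
    · exact Or.inl rfl
    · exact Or.inr (add_cancel_pair _ _).symm

omit F in
theorem code_shift : ∀ i j : Bool, (∃ x : Fin 256, Bn x.val 1 = false ∧ Bn x.val 2 = i ∧ Bn x.val 4 = j) ∧
    ∃ x : Fin 256, Bn x.val 1 = false ∧ Bn x.val 34 = i ∧ Bn x.val 70 = j := by decide +kernel

omit F in
theorem shift_reps (i j : ZMod 2) : (∃ x, Bp x (dc 1) = 0 ∧ Bp x (dc 2) = i ∧ Bp x (dc 4) = j) ∧
    ∃ x, Bp x (dc 1) = 0 ∧ Bp x (dc 34) = i ∧ Bp x (dc 70) = j := by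
  obtain ⟨a, rfl⟩ : ∃ a, bz a = i := (by decide : ∀ i : ZMod 2, ∃ a, bz a = i) i
  obtain ⟨b, rfl⟩ : ∃ b, bz b = j := (by decide : ∀ i : ZMod 2, ∃ a, bz a = i) j
  obtain ⟨⟨x, x1, x2, x3⟩, y, y1, y2, y3⟩ := code_shift a b
  refine ⟨⟨dc x.val, ?_, ?_, ?_⟩, dc y.val, ?_, ?_, ?_⟩
  all_goals rw [Bp_dc (Fin.isLt _) (by norm_num)]
  · rw [x1]; rfl
  · rw [x2]
  · rw [x3]
  · rw [y1]; rfl
  · rw [y2]
  · rw [y3]

/-- The standard classes. -/
theorem conj_N {t t' : G} (h : InT S w t (dc 4) (dc 2)) (h' : InT S w t' (dc 4) (dc 2)) : IsConj t t' := by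
  obtain ⟨r, -, -, hr⟩ := T_isConj F (dc_perp 4 (by norm_num) rfl) (dc_perp 2 (by norm_num) rfl) h h'
    fun i j => (shift_reps i j).1
  exact isConj_iff.2 ⟨r, hr⟩

theorem conj_P {t t' : G} (h : InT S w t (dc 70) (dc 34)) (h' : InT S w t' (dc 70) (dc 34)) :
    IsConj t t' := by
  obtain ⟨r, -, -, hr⟩ := T_isConj F (dc_perp 70 (by norm_num) rfl) (dc_perp 34 (by norm_num) rfl) h h'
    fun i j => (shift_reps i j).2
  exact isConj_iff.2 ⟨r, hr⟩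

theorem invol_N {t : G} (h : InT S w t (dc 4) (dc 2)) : t * t = 1 := by
  refine (T_invol F (dc_perp 4 (by norm_num) rfl) (dc_perp 2 (by norm_num) rfl) h).2 ⟨?_, ?_⟩ <;>
    rw [q_dc (by norm_num), Bp_dc (by norm_num) (by norm_num)] <;> rfl

theorem invol_P {t : G} (h : InT S w t (dc 70) (dc 34)) : t * t = 1 := by
  refine (T_invol F (dc_perp 70 (by norm_num) rfl) (dc_perp 34 (by norm_num) rfl) h).2 ⟨?_, ?_⟩ <;>
    rw [q_dc (by norm_num), Bp_dc (by norm_num) (by norm_num)] <;> rfl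

end CoOne

end Cfsg.Agent.CoOneType
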