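import Cfsg.Agent.CoOneType.Norm
import Cfsg.Agent.LargeExtra.SingularSubgroup

/-!
The centre-of-involution setting with extraspecial group of order `2^9` of hyperbolic type.
-/

set_option autoImplicit false

open Cfsg Cfsg.Agent.ThreeTrans.OrthCohom Cfsg.Agent.Classical.Quad QuadraticMap Cfsg.Agent.LargeExtra

namespace Cfsg.Agent.CoOneType

variable {G : Type*} [Group G]

/-- Powers of `z` with exponent modulo two. -/
def zp (z : G) (a : ZMod 2) : G := if a = 0 then 1 else z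

theorem zp_zero (z : G) : zp z 0 = 1 := if_pos rfl

theorem zp_one (z : G) : zp z 1 = z := if_neg one_ne_zero

theorem zp_add {z : G} (hz : z * z = 1) (a b : ZMod 2) : zp z (a + b) = zp z a * zp z b := by
  rcases zmod_cases a with rfl | rfl <;> rcases zmod_cases b with rfl | rfl
  · simp [zp_zero]
  · simp [zp_zero]
  · simp [zp_zero]
  · rw [show (1 : ZMod 2) + 1 = 0 by decide, zp_zero, zp_one, hz]

theorem zp_inj {z : G} (hz : z ≠ 1) {a b : ZMod 2} (h : zp z a = zp z b) : a = b := by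
  rcases zmod_cases a with rfl | rfl <;> rcases zmod_cases b with rfl | rfl
  · rfl
  · exact absurd (by rwa [zp_zero, zp_one, eq_comm] at h) hz
  · exact absurd (by rwa [zp_zero, zp_one] at h) hz
  · rfl

variable [Finite G]

/-- The data attached to the involution. -/
structure CoOne (z : G) where
  sett : Setting z
  card : Nat.card ↥(oc z) = 2 ^ 9
  /-- the projection to the quadratic space -/
  pr : G → V
  pr_mul : ∀ a ∈ oc z, ∀ b ∈ oc z, pr (a * b) = pr a + pr b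
  pr_ker : ∀ a ∈ oc z, pr a = 0 → a = 1 ∨ a = z
  pr_z : pr z = 0
  pr_surj : ∀ v, ∃ a ∈ oc z, pr a = v
  pr_sq : ∀ a ∈ oc z, a * a = zp z (qP 4 (pr a))
  /-- the action of the centraliser -/
  act : G → O
  act_spec : ∀ c, c * z = z * c → ∀ a ∈ oc z, pr (c * a * c⁻¹) = (act c).1 (pr a)
  act_even : ∀ c, c * z = z * c → dsign (act c) = 1
  act_surj : ∀ g : O, dsign g = 1 → ∃ c, c * z = z * c ∧ act c = g
  act_ker : ∀ c, c * z = z * c → act c = 1 → c ∈ oc z
  cent_card : Nat.card ↥(Subgroup.centralizer ({z} : Set G)) = 512 * 174182400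
  nwc : ∃ g : G, g * z * g⁻¹ ∈ oc z ∧ g * z * g⁻¹ ≠ z

namespace CoOne

variable {z : G} (S : CoOne z)
include S

theorem zmem : z ∈ oc z := mem_oc_self S.sett.ord

theorem zz : z * z = 1 := S.sett.sq_one

theorem zne : z ≠ 1 := S.sett.ne_one

theorem comm {a : G} (ha : a ∈ oc z) : a * z = z * a := (S.sett.comm_z ha).eq

theorem comm_zp {a : G} (ha : a * z = z * a) (e : ZMod 2) : a * zp z e = zp z e * a := by
  rcases zmod_cases e with rfl | rfl <;> simp [zp_zero, zp_one, ha]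

theorem zp_mem (e : ZMod 2) : zp z e ∈ oc z := by
  rcases zmod_cases e with rfl | rfl
  · rw [zp_zero]; exact one_mem _
  · rw [zp_one]; exact S.zmem

theorem pr_zp (e : ZMod 2) : S.pr (zp z e) = 0 := by
  rcases zmod_cases e with rfl | rfl
  · rw [zp_zero]
    exact add_eq_left.1 (by rw [← S.pr_mul 1 (one_mem _) 1 (one_mem _), one_mul])
  · rw [zp_one]; exact S.pr_z

theorem pr_one : S.pr 1 = 0 := by rw [← zp_zero z]; exact S.pr_zp 0

theorem pr_inv {a : G} (ha : a ∈ oc z) : S.pr a⁻¹ = S.pr a := by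
  refine v_eq_of_add ?_
  rw [← S.pr_mul _ (inv_mem ha) _ ha, inv_mul_cancel, S.pr_one]

theorem pr_eq {a b : G} (ha : a ∈ oc z) (hb : b ∈ oc z) (h : S.pr a = S.pr b) :
    b = a ∨ b = a * z := by
  have hm := mul_mem (inv_mem ha) hb
  rcases S.pr_ker _ hm (by rw [S.pr_mul _ (inv_mem ha) _ hb, S.pr_inv ha, h, v_add_self]) with e | e
  · exact Or.inl (inv_mul_eq_one.1 e).symm
  · exact Or.inr (inv_mul_eq_iff_eq_mul.1 e)

theorem commutator_eq {a b : G} (ha : a ∈ oc z) (hb : b ∈ oc z) :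
    a * b * a⁻¹ * b⁻¹ = zp z (Bp (S.pr a) (S.pr b)) := by
  have h1 := S.pr_sq a ha
  have h2 := S.pr_sq b hb
  have h3 := S.pr_sq (a * b) (mul_mem ha hb)
  rw [S.pr_mul a ha b hb] at h3
  have hi : ∀ e, (zp z e)⁻¹ = zp z e := fun e => inv_eq_of_mul_eq_one_right (by
    rw [← zp_add S.zz, (by decide : ∀ e : ZMod 2, e + e = 0), zp_zero])
  have hbc := S.comm_zp (S.comm hb) (qP 4 (S.pr a))
  calc a * b * a⁻¹ * b⁻¹ = a * b * a * ((a * a)⁻¹ * b) * (b * b)⁻¹ := by group
    _ = a * b * a * (b * zp z (qP 4 (S.pr a))) * zp z (qP 4 (S.pr b)) := by rw [h1, h2, hi, hi, hbc]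
    _ = (a * b * (a * b)) * (zp z (qP 4 (S.pr a)) * zp z (qP 4 (S.pr b))) := by group
    _ = zp z (Bp (S.pr a) (S.pr b)) := by
      rw [h3, ← zp_add S.zz, ← zp_add S.zz]
      congr 1
      rw [Bp, polar]
      have : ∀ x y w : ZMod 2, x + (y + w) = x - y - w := by decide
      exact this _ _ _

theorem commute_iff {a b : G} (ha : a ∈ oc z) (hb : b ∈ oc z) :
    a * b = b * a ↔ Bp (S.pr a) (S.pr b) = 0 := by
  constructor
  · intro h
    refine zp_inj S.zne ?_
    rw [← S.commutator_eq ha hb, zp_zero]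
    calc a * b * a⁻¹ * b⁻¹ = a * b * (b * a)⁻¹ := by group
      _ = 1 := by rw [← h, mul_inv_cancel]
  · intro h
    have e := S.commutator_eq ha hb
    rw [h, zp_zero] at e
    calc a * b = a * b * a⁻¹ * b⁻¹ * (b * a) := by group
      _ = b * a := by rw [e, one_mul]

theorem nrm {c a : G} (hc : c * z = z * c) (ha : a ∈ oc z) : c * a * c⁻¹ ∈ oc z :=
  oc_conj_mem (Subgroup.mem_centralizer_singleton_iff.2 hc) ha

theorem act_inner {a : G} (ha : a ∈ oc z) : S.act a = 1 := by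
  refine ext_oG fun x => ?_
  obtain ⟨b, hb, rfl⟩ := S.pr_surj x
  rw [← S.act_spec a (S.comm ha) b hb, S.pr_mul _ (mul_mem ha hb) _ (inv_mem ha),
    S.pr_mul a ha b hb, S.pr_inv ha, oG_one_apply, add_comm (S.pr a), add_assoc, v_add_self, add_zero]

theorem act_mul {c d : G} (hc : c * z = z * c) (hd : d * z = z * d) :
    S.act (c * d) = S.act c * S.act d := by
  refine ext_oG fun x => ?_
  obtain ⟨b, hb, rfl⟩ := S.pr_surj x
  have hcd : c * d * z = z * (c * d) := Commute.mul_left hc hd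
  rw [oG_mul_apply, ← S.act_spec d hd b hb, ← S.act_spec c hc _ (S.nrm hd hb),
    ← S.act_spec _ hcd b hb]
  congr 1
  group

theorem act_one : S.act 1 = 1 := S.act_inner (one_mem _)

theorem act_inv {c : G} (hc : c * z = z * c) : S.act c⁻¹ = (S.act c)⁻¹ := by
  refine (inv_eq_of_mul_eq_one_right ?_).symm
  rw [← S.act_mul hc (Commute.inv_left hc).eq, mul_inv_cancel, S.act_one]

theorem zp_sq (e : ZMod 2) : zp z e * zp z e = 1 := by
  rw [← zp_add S.zz, (by decide : ∀ e : ZMod 2, e + e = 0), zp_zero]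

/-- The image of a non-central involution of `oc z` is singular and non-zero. -/
theorem pr_conj {g : G} (hg : g * z * g⁻¹ ∈ oc z) (hne : g * z * g⁻¹ ≠ z) :
    S.pr (g * z * g⁻¹) ≠ 0 ∧ qP 4 (S.pr (g * z * g⁻¹)) = 0 := by
  refine ⟨fun h => ?_, zp_inj S.zne ?_⟩
  · rcases S.pr_ker _ hg h with h1 | h1
    · exact S.zne (conj_eq_one_iff.1 h1)
    · exact hne h1
  · rw [← S.pr_sq _ hg, zp_zero]
    calc g * z * g⁻¹ * (g * z * g⁻¹) = g * (z * z) * g⁻¹ := by group
      _ = 1 := by rw [S.zz]; group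

/-- A conjugate of `z` above the first coordinate vector. -/
theorem exists_frame : ∃ g : G, g * z * g⁻¹ ∈ oc z ∧ S.pr (g * z * g⁻¹) = dc 1 := by
  obtain ⟨g, hg, hne⟩ := S.nwc
  obtain ⟨h0, hq⟩ := S.pr_conj hg hne
  obtain ⟨r, hr, hre⟩ := move_e h0 hq
  obtain ⟨c, hc, rfl⟩ := S.act_surj r hr
  have e : c * (g * z * g⁻¹) * c⁻¹ = c * g * z * (c * g)⁻¹ := by group
  refine ⟨c * g, e ▸ S.nrm hc hg, ?_⟩
  rw [← e, S.act_spec c hc _ hg, hre]

/-- All non-central involutions of `oc z` are conjugate to `z`. -/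
theorem conj_of_singular {a : G} (ha : a ∈ oc z) (h0 : S.pr a ≠ 0) (hq : qP 4 (S.pr a) = 0) :
    IsConj z a := by
  obtain ⟨g, hg, hge⟩ := S.exists_frame
  set b := g * z * g⁻¹ with hb
  obtain ⟨r, hr, hre⟩ := move_e h0 hq
  obtain ⟨c, hc, rfl⟩ := S.act_surj r hr
  have hp : S.pr b = S.pr (c * a * c⁻¹) := by
    rw [hge, S.act_spec c hc a ha, hre]
  have hzb : IsConj z b := isConj_iff.2 ⟨g, rfl⟩
  have hca : IsConj a (c * a * c⁻¹) := isConj_iff.2 ⟨c, rfl⟩
  rcases S.pr_eq hg (S.nrm hc ha) hp with e | e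
  · exact (hzb.trans (e ▸ IsConj.refl b)).trans hca.symm
  · obtain ⟨m, -, hm⟩ := S.sett.exists_mover hg (fun e => S.zne (conj_eq_one_iff.1 (hb ▸ e)))
      (fun e1 => h0 ((S.act c).1.map_eq_zero_iff.1 (by
        rw [← S.act_spec c hc a ha, ← hp, e1, S.pr_z])))
    exact (hzb.trans (e ▸ hm ▸ (isConj_iff.2 ⟨m, rfl⟩ : IsConj b _))).trans hca.symm

end CoOne

end Cfsg.Agent.CoOneType
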