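import Cfsg.Agent.CoOneType.Fix

/-!
Normal forms of the action of an involution of the centraliser.
-/

set_option autoImplicit false

open Cfsg Cfsg.Agent.ThreeTrans.OrthCohom Cfsg.Agent.Classical.Quad QuadraticMap Cfsg.Agent.LargeExtra

namespace Cfsg.Agent.CoOneType

/-- An isometry centralising `p⊥ / p` for a singular fixed vector `p`. -/
def HasAxis (g : O) : Prop :=
  ∃ p : V, p ≠ 0 ∧ qP 4 p = 0 ∧ g.1 p = p ∧ ∀ x, Bp x p = 0 → g.1 x + x = 0 ∨ g.1 x + x = p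

theorem HasAxis.conj {g : O} (c : O) (h : HasAxis (c * g * c⁻¹)) : HasAxis g := by
  obtain ⟨p, h0, hq, hf, hN⟩ := h
  have happ : ∀ x, (c * g * c⁻¹).1 x = c.1 (g.1 (c⁻¹.1 x)) := fun x => by
    rw [oG_mul_apply, oG_mul_apply]
  refine ⟨c⁻¹.1 p, fun e => h0 ?_, by rw [c⁻¹.2, hq], c.1.injective ?_, fun x hx => ?_⟩
  · rw [← map_zero c⁻¹.1] at e
    exact c⁻¹.1.injective e
  · rw [← happ, hf, oG_apply_inv]
  · have hcx : Bp (c.1 x) p = 0 := by
      conv_lhs => rw [← oG_apply_inv c p]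
      rw [polar_g, hx]
    have e : (c * g * c⁻¹).1 (c.1 x) + c.1 x = c.1 (g.1 x + x) := by
      rw [happ, oG_inv_apply, map_add]
    rcases hN _ hcx with e' | e' <;> rw [e] at e'
    · rw [← map_zero c.1] at e'
      exact Or.inl (c.1.injective e')
    · exact Or.inr (by rw [← oG_inv_apply c (g.1 x + x), e'])

theorem s0_fix {v : V} (h : v + s0 v = 0 ∨ v + s0 v = dc 1) : Bp v (dc 2) = 0 ∧ Bp v (dc 4) = 0 := by
  have e : v + s0 v = Bp v (dc 4) • dc 2 + Bp v (dc 2) • dc 4 := by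
    rw [s0, ← add_assoc, ← add_assoc, v_add_self, zero_add]
  rw [e] at h
  rcases zmod_cases (Bp v (dc 4)) with p | p <;> rcases zmod_cases (Bp v (dc 2)) with q | q <;>
    rw [p, q] at h <;> simp only [zero_smul, one_smul, zero_add, add_zero, ← dc_xor, ← dc_zero] at h
  · exact ⟨q, p⟩
  all_goals
    exfalso
    rcases h with h | h <;> exact absurd (dc_inj (by decide) (by decide) h) (by decide)

theorem s0_eq {v : V} (h2 : Bp v (dc 2) = 0) (h4 : Bp v (dc 4) = 0) : s0 v = v := by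
  rw [s0, h2, h4, zero_smul, zero_smul, add_zero, add_zero]

theorem s0_sg (v x : V) : s0 (sg v x) = sg (s0 v) (s0 x) := by
  rw [← s0O_apply, sg_equiv s0O (by rw [s0O_apply, s0_one]), s0O_apply, s0O_apply]

/-- The class of a vector of `e⊥` perpendicular to the line, as a code. -/
noncomputable def cls (v : V) : ℕ := (cd v).val &&& 136

theorem cls_facts {v : V} (h1 : Bp v (dc 1) = 0) (h2 : Bp v (dc 2) = 0) (h4 : Bp v (dc 4) = 0) :
    (cls v = 0 ∨ cls v = 8 ∨ cls v = 128 ∨ cls v = 136) ∧ qP 4 v = bz (decide (cls v = 136)) := by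
  obtain ⟨-, -, hc, hq, -, -⟩ := class_code (cd v) (code_Bn (by norm_num) h1) (code_Bn (by norm_num) h2)
    (code_Bn (by norm_num) h4)
  refine ⟨hc, ?_⟩
  rw [← dc_cd v, q_dc (cd v).isLt, hq, dc_cd]
  rfl

theorem cls_add (v u : V) : cls (v + u) = cls v ^^^ cls u := by
  have e : cd (v + u) = ⟨(cd v).val ^^^ (cd u).val, xor_lt (cd v).isLt (cd u).isLt⟩ :=
    Fin.ext (dc_inj (cd _).isLt (xor_lt (cd v).isLt (cd u).isLt) (by rw [dc_cd, dc_xor, dc_cd, dc_cd]))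
  rw [cls, cls, cls, e]
  exact Nat.and_xor_distrib_right

/-- Changing `u` inside its class. -/
theorem norm_sigma {u : V} (h1 : Bp u (dc 1) = 0) (h2 : Bp u (dc 2) = 0) (h4 : Bp u (dc 4) = 0) :
    ∃ y, Bp y (dc 1) = 0 ∧ ∀ x, sg y (sg u (s0 (sg y x))) = sg (dc (cls u)) (s0 x) := by
  obtain ⟨y, hy, he⟩ := norm_code (cd u) (code_Bn (by norm_num) h1) (code_Bn (by norm_num) h2)
    (code_Bn (by norm_num) h4)
  have hkey : y < 256 ∧ Bn y 1 = false := by
    clear he; revert y; decide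
  have hy256 : y < 256 := hkey.1
  have hy1 : Bp (dc y) (dc 1) = 0 := by
    rw [Bp_dc hy256 (by norm_num), hkey.2]; rfl
  have hs : Bp (s0 (dc y)) (dc 1) = 0 := by rw [s0_Bp_one, hy1]
  refine ⟨dc y, hy1, fun x => ?_⟩
  rw [s0_sg, sg_comp h1 hs, sg_comp hy1 (by rw [Bp_add_left, h1, hs, add_zero]), ← add_assoc,
    s0_dc hy256]
  conv_lhs => rw [← dc_cd u]
  rw [← dc_xor, ← dc_xor]
  rcases he with e | e <;> rw [e]
  · rfl
  · rw [dc_xor]
    refine sg_shift ?_ _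
    have key : ∀ v : Fin 256, Bn (v.val &&& 136) 1 = false ∧ v.val &&& 136 < 256 := by decide +kernel
    rw [Bp_dc (key (cd u)).2 (by norm_num), (key (cd u)).1]; rfl

variable {G : Type*} [Group G] [Finite G]

namespace CoOne

variable {z : G} {S : CoOne z} {w : G} (F : S.Fr w)
include F

omit F in
theorem conj_z {c t : G} (hc : c * z = z * c) : c * (t * z) * c⁻¹ = c * t * c⁻¹ * z := by
  calc c * (t * z) * c⁻¹ = c * t * (z * c⁻¹) := by group
    _ = c * t * c⁻¹ * z := by rw [← (Commute.inv_left hc).eq]; group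

omit F in
theorem conj_facts {c t : G} (hc : c * z = z * c) (ht : t * z = z * t) :
    c * t * c⁻¹ * z = z * (c * t * c⁻¹) ∧
      S.act (c * t * c⁻¹) = S.act c * S.act t * (S.act c)⁻¹ := by
  refine ⟨((Commute.mul_left hc ht).mul_left (Commute.inv_left hc)).eq, ?_⟩
  rw [S.act_mul (Commute.mul_left hc ht).eq (Commute.inv_left hc).eq, S.act_mul hc ht, S.act_inv hc]

omit F in
theorem sq_conj {c t : G} (h2 : t * t = 1) : c * t * c⁻¹ * (c * t * c⁻¹) = 1 := by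
  calc c * t * c⁻¹ * (c * t * c⁻¹) = c * (t * t) * c⁻¹ := by group
    _ = 1 := by rw [h2]; group

omit F in
theorem notMem_conj {c t : G} (hc : c * z = z * c) (hn : t ∉ oc z) : c * t * c⁻¹ ∉ oc z := fun h =>
  hn (by
    have := oc_conj_mem (Subgroup.mem_centralizer_singleton_iff.2 (Commute.inv_left hc).eq) h
    rwa [show c⁻¹ * (c * t * c⁻¹) * c⁻¹⁻¹ = t by group] at this)

/-- An involution with an axis is of Siegel type. -/
theorem of_axis {t : G} (ht : t * z = z * t) (h2 : t * t = 1) (hn : t ∉ oc z) (h : HasAxis (S.act t)) :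
    (IsConj z t ∧ IsConj z (t * z)) ∨ ∃ t', IsConj t t' ∧
      (InT S w t' (dc 4) (dc 2) ∨ InT S w t' (dc 70) (dc 34)) := by
  obtain ⟨p, hp0, hpq, hpf, hpn⟩ := h
  obtain ⟨r, hr, hre⟩ := move_e hp0 hpq
  obtain ⟨c, hc, rfl⟩ := S.act_surj r hr
  obtain ⟨ht', hact⟩ := conj_facts hc ht
  have happ : ∀ x, (S.act (c * t * c⁻¹)).1 ((S.act c).1 x) = (S.act c).1 ((S.act t).1 x) := fun x => by
    rw [hact, oG_mul_apply, oG_mul_apply, oG_inv_apply]
  obtain ⟨u, hu, hA⟩ := exists_sg_of (S.act (c * t * c⁻¹)) (by rw [← hre, happ, hpf]) fun y hy => by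
    obtain ⟨x, rfl⟩ := (S.act c).1.surjective y
    rw [← hre, polar_g] at hy
    rcases hpn x hy with e | e
    · exact Or.inl (by rw [happ, ← map_add, e, map_zero])
    · exact Or.inr (by rw [happ, ← map_add, e, hre])
  have htc : IsConj t (c * t * c⁻¹) := isConj_iff.2 ⟨c, rfl⟩
  rcases rank2 F ht' (sq_conj h2) (notMem_conj hc hn) hu hA with ⟨h1, h1z⟩ | ⟨t', h1, h2'⟩
  · exact Or.inl ⟨h1.trans htc.symm,
      h1z.trans (isConj_iff.2 ⟨c, conj_z hc⟩ : IsConj (t * z) _).symm⟩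
  · exact Or.inr ⟨t', htc.trans h1, h2'⟩

/-- Conjugation to an exact class representative. -/
theorem exact_sigma {t : G} (ht : t * z = z * t) {u : V} (h1 : Bp u (dc 1) = 0) (h2 : Bp u (dc 2) = 0)
    (h4 : Bp u (dc 4) = 0) (hA : ∀ x, (S.act t).1 x = sg u (s0 x)) :
    ∃ c, c * z = z * c ∧ c * w = w * c ∧
      ∀ x, (S.act (c * t * c⁻¹)).1 x = sg (dc (cls u)) (s0 x) := by
  obtain ⟨y, hy, hyx⟩ := norm_sigma h1 h2 h4
  obtain ⟨c, hc, hcz, hca⟩ := exists_sg F hy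
  refine ⟨c, hcz, comm_w F hc, fun x => ?_⟩
  have hci : ((S.act c)⁻¹).1 x = sg y x := (S.act c).1.injective (by
    rw [oG_apply_inv, hca, sg_invol hy])
  rw [(conj_facts hcz ht).2, oG_mul_apply, oG_mul_apply, hci, hA, hca, hyx]

/-- Normal form for an involution fixing `e`. -/
theorem nf_fixed {t : G} (ht : t * z = z * t) (h2 : t * t = 1) (he : (S.act t).1 (dc 1) = dc 1)
    (hy : ∃ y, dc 1 = (S.act t).1 y + y) (hk : ∀ x, (S.act t).1 x = x → Bp x (dc 1) = 0)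
    (hts : ∀ x, Bp x (dc 1) = 0 → qP 4 ((S.act t).1 x + x) = 0) :
    HasAxis (S.act t) ∨ ∃ c k, c * z = z * c ∧ c * w = w * c ∧ (k = 8 ∨ k = 128 ∨ k = 136) ∧
      ∀ x, (S.act (c * t * c⁻¹)).1 x = sg (dc k) (s0 x) := by
  have hAA : S.act t * S.act t = 1 := by rw [← S.act_mul ht ht, h2, S.act_one]
  rcases nf_sigma _ hAA he hy hk hts with ⟨v, hv, hvx⟩ | ⟨r, hr, hre, u, h1, h2', h4, hux⟩
  · refine Or.inl ⟨dc 1, fun e => ?_, q_e, he, fun x hx => ?_⟩
    · exact absurd (dc_inj (by norm_num) (by norm_num) (e.trans dc_zero.symm)) (by norm_num)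
    · rw [hvx, sg_perp hx, add_right_comm, v_add_self, zero_add]
      rcases zmod_cases (Bp x v) with e | e <;> rw [e]
      · exact Or.inl (zero_smul _ _)
      · exact Or.inr (one_smul _ _)
  obtain ⟨c, hc, hcw, rfl⟩ := exists_stab F r hr hre
  obtain ⟨ht', hact⟩ := conj_facts hc ht
  have hA' : ∀ x, (S.act (c * t * c⁻¹)).1 x = sg u (s0 x) := fun x => by
    rw [hact, oG_mul_apply, oG_mul_apply, hux]
  obtain ⟨d, hd, hdw, hdA⟩ := exact_sigma F ht' h1 h2' h4 hA'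
  by_cases h0 : cls u = 0
  · left
    refine HasAxis.conj (S.act c) (HasAxis.conj (S.act d) ⟨dc 2, fun e => ?_, by rw [q_dc (by norm_num)]; rfl, ?_, ?_⟩)
    · exact absurd (dc_inj (by norm_num) (by norm_num) (e.trans dc_zero.symm)) (by norm_num)
    · rw [← hact, ← (conj_facts hd ht').2, hdA, h0, dc_zero, sg_zero, s0_dc (by norm_num)]
      rfl
    · intro x hx
      rw [← hact, ← (conj_facts hd ht').2, hdA, h0, dc_zero, sg_zero, s0, hx, zero_smul, add_zero,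
        add_right_comm, v_add_self, zero_add]
      rcases zmod_cases (Bp x (dc 4)) with e | e <;> rw [e]
      · exact Or.inl (zero_smul _ _)
      · exact Or.inr (one_smul _ _)
  refine Or.inr ⟨d * c, cls u, (Commute.mul_left hd hc).eq, (Commute.mul_left hdw hcw).eq,
    (cls_facts h1 h2' h4).1.resolve_left h0, fun x => ?_⟩
  rw [show d * c * t * (d * c)⁻¹ = d * (c * t * c⁻¹) * d⁻¹ by group, hdA]

/-- Normal form for an involution of the centraliser. -/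
theorem nf {t : G} (ht : t * z = z * t) (h2 : t * t = 1) (hn : t ∉ oc z) :
    HasAxis (S.act t) ∨ ∃ c k, c * z = z * c ∧ (k = 8 ∨ k = 128 ∨ k = 136) ∧
      ∀ x, (S.act (c * t * c⁻¹)).1 x = sg (dc k) (s0 x) := by
  have hAA : S.act t * S.act t = 1 := by rw [← S.act_mul ht ht, h2, S.act_one]
  obtain ⟨p, hp0, hpq, hpk, ⟨y, hy⟩, hts⟩ := exists_axis _ hAA (fun e => hn (S.act_ker t ht e))
    (S.act_even t ht)
  obtain ⟨r, hr, hre⟩ := move_e hp0 hpq
  obtain ⟨c, hc, rfl⟩ := S.act_surj r hr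
  obtain ⟨ht', hact⟩ := conj_facts hc ht
  have happ : ∀ x, (S.act (c * t * c⁻¹)).1 ((S.act c).1 x) = (S.act c).1 ((S.act t).1 x) := fun x => by
    rw [hact, oG_mul_apply, oG_mul_apply, oG_inv_apply]
  have hpf : (S.act t).1 p = p := by
    rw [hy, map_add, ← oG_mul_apply, hAA, oG_one_apply, add_comm]
  rcases nf_fixed F ht' (sq_conj h2) (by rw [← hre, happ, hpf])
      ⟨(S.act c).1 y, by rw [happ, ← map_add, ← hy, hre]⟩
      (fun x hx => by
        obtain ⟨x, rfl⟩ := (S.act c).1.surjective x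
        rw [happ] at hx
        rw [← hre, polar_g]
        exact hpk x ((S.act c).1.injective hx))
      (fun x hx => by
        obtain ⟨x, rfl⟩ := (S.act c).1.surjective x
        rw [← hre, polar_g] at hx
        rw [happ, ← map_add, (S.act c).2]
        exact hts x hx) with h | ⟨d, k, hd, -, hk, hA⟩
  · rw [hact] at h
    exact Or.inl (HasAxis.conj (S.act c) h)
  · refine Or.inr ⟨d * c, k, (Commute.mul_left hd hc).eq, hk, fun x => ?_⟩
    rw [show d * c * t * (d * c)⁻¹ = d * (c * t * c⁻¹) * d⁻¹ by group, hA]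

omit F in
/-- Two involutions with the same action of singular type. -/
theorem same_sigma {t₁ t₂ : G} (h₁ : t₁ * z = z * t₁) (h₂ : t₂ * z = z * t₂) (s₁ : t₁ * t₁ = 1)
    (s₂ : t₂ * t₂ = 1) {k : ℕ} (hk : k = 8 ∨ k = 128)
    (A₁ : ∀ x, (S.act t₁).1 x = sg (dc k) (s0 x)) (A₂ : ∀ x, (S.act t₂).1 x = sg (dc k) (s0 x)) :
    IsConj t₂ t₁ ∨ IsConj t₂ (t₁ * z) := by
  have hk256 : k < 256 := by omega
  have hi : t₁⁻¹ = t₁ := inv_eq_of_mul_eq_one_right s₁
  have hd : t₁ * t₂ ∈ oc z := S.act_ker _ (Commute.mul_left h₁ h₂).eq (ext_oG fun x => by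
    rw [S.act_mul h₁ h₂, oG_mul_apply, A₂, ← A₁, ← oG_mul_apply, ← S.act_mul h₁ h₁, s₁, S.act_one])
  set a := t₁ * t₂ with ha
  have hfix : (S.act t₁).1 (S.pr a) = S.pr a := by
    have e : t₁ * a * t₁⁻¹ = a⁻¹ := by
      refine eq_inv_of_mul_eq_one_left ?_
      rw [ha]
      calc t₁ * (t₁ * t₂) * t₁⁻¹ * (t₁ * t₂) = t₁ * t₁ * (t₂ * t₂) := by group
        _ = 1 := by rw [s₁, s₂, one_mul]
    rw [← S.act_spec t₁ h₁ a hd, e, S.pr_inv hd]
  obtain ⟨y, hy⟩ : ∃ y, (S.act t₁).1 y + y = S.pr a := by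
    have hs : ∀ x : Fin 256, s0n x.val < 256 := by decide +kernel
    obtain ⟨y, hy⟩ := kernel_code ⟨k, hk256⟩ hk (cd (S.pr a)) (dc_inj (by
        unfold sgn
        refine xor_lt (xor_lt (hs _) (by split_ifs <;> norm_num)) ?_
        split_ifs <;> first | (exact xor_lt hk256 (by norm_num)) | norm_num) (cd _).isLt (by
      rw [← sg_dc hk256 (hs _), ← s0_dc (cd _).isLt, dc_cd, ← A₁, hfix]))
    refine ⟨dc y.val, ?_⟩
    rw [A₁, s0_dc y.isLt, sg_dc hk256 (hs y), ← dc_xor, hy, dc_cd]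
  obtain ⟨r, hr, rfl⟩ := S.pr_surj y
  have hm : t₁ * r * t₁⁻¹ * r⁻¹ ∈ oc z := mul_mem (S.nrm h₁ hr) (inv_mem hr)
  have hp : S.pr (t₁ * r * t₁⁻¹ * r⁻¹) = S.pr a := by
    rw [S.pr_mul _ (S.nrm h₁ hr) _ (inv_mem hr), S.act_spec t₁ h₁ r hr, S.pr_inv hr, hy]
  have ht2 : t₂ = t₁ * a := by rw [ha, ← mul_assoc, s₁, one_mul]
  have hr1 : t₁ * (t₁ * r * t₁⁻¹ * r⁻¹) = r * t₁ * r⁻¹ := by
    rw [hi]
    calc t₁ * (t₁ * r * t₁ * r⁻¹) = t₁ * t₁ * (r * t₁ * r⁻¹) := by group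
      _ = r * t₁ * r⁻¹ := by rw [s₁, one_mul]
  rcases S.pr_eq hm hd hp with e | e
  · exact Or.inl (isConj_iff.2 ⟨r⁻¹, by rw [ht2, e, hr1]; group⟩)
  · refine Or.inr (isConj_iff.2 ⟨r⁻¹, ?_⟩)
    have e2 : t₂ = r * (t₁ * z) * r⁻¹ := by
      rw [ht2, e, ← mul_assoc t₁, hr1, conj_z (S.comm hr)]
    rw [e2]; group

end CoOne

end Cfsg.Agent.CoOneType
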