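import Cfsg.Agent.CoOneType.Codes
import Cfsg.Agent.Classical.OrthSpinor

/-!
Isometries of the hyperbolic space of dimension eight over the field with two elements.
-/

set_option autoImplicit false

open Cfsg.Agent.ThreeTrans.OrthCohom Cfsg.Agent.Classical.Quad QuadraticMap Module

namespace Cfsg.Agent.CoOneType

/-- The isometry group. -/
abbrev O : Type := ↥(oG (qP 4))

/-- The polar form. -/
noncomputable def Bp (x y : V) : ZMod 2 := polar (qP 4) x y

theorem zmod_cases : ∀ a : ZMod 2, a = 0 ∨ a = 1 := by decide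

theorem zmod_ne_zero : ∀ a : ZMod 2, a ≠ 0 → a = 1 := by decide

theorem v_add_self (x : V) : x + x = 0 := funext fun i => (by decide : ∀ a : ZMod 2, a + a = 0) (x i)

theorem v_sub_eq_add (x y : V) : x - y = x + y := by
  rw [sub_eq_iff_eq_add, add_assoc, v_add_self, add_zero]

theorem v_eq_of_add {x y : V} (h : x + y = 0) : x = y := by
  rw [← v_sub_eq_add] at h
  exact sub_eq_zero.1 h

theorem dc_inj {i j : ℕ} (hi : i < 256) (hj : j < 256) (h : dc i = dc j) : i = j :=
  (dc_inj' ⟨i, hi⟩).symm.trans ((congrArg enc h).trans (dc_inj' ⟨j, hj⟩))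

theorem dc_surj : ∀ v : V, ∃ i : Fin 256, dc i.val = v := by
  have hinj : Function.Injective fun i : Fin 256 => dc i.val :=
    fun i j h => Fin.ext (dc_inj i.isLt j.isLt h)
  exact ((Fintype.bijective_iff_injective_and_card _).2 ⟨hinj, by simp⟩).surjective

/-- The code of a vector. -/
noncomputable def cd (x : V) : Fin 256 := (dc_surj x).choose

theorem dc_cd (x : V) : dc (cd x).val = x := (dc_surj x).choose_spec

theorem cd_dc (i : Fin 256) : cd (dc i.val) = i :=
  Fin.ext (dc_inj (cd _).isLt i.isLt (dc_cd _))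

theorem xor_lt {i j : ℕ} (hi : i < 256) (hj : j < 256) : i ^^^ j < 256 :=
  Nat.xor_lt_two_pow (n := 8) hi hj

theorem dc_xor (i j : ℕ) : dc (i ^^^ j) = dc i + dc j := dec_xor _ _ _

theorem Bp_dc {i j : ℕ} (hi : i < 256) (hj : j < 256) : Bp (dc i) (dc j) = bz (Bn i j) :=
  polar_dc ⟨i, hi⟩ ⟨j, hj⟩

theorem q_dc {i : ℕ} (hi : i < 256) : qP 4 (dc i) = bz (qn i) := qP_dc ⟨i, hi⟩

theorem Bp_add_left (x y t : V) : Bp (x + y) t = Bp x t + Bp y t := polar_add_left _ _ _ _

theorem Bp_add_right (x y t : V) : Bp x (y + t) = Bp x y + Bp x t := polar_add_right _ _ _ _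

theorem Bp_smul_left (a : ZMod 2) (x y : V) : Bp (a • x) y = a * Bp x y := polar_smul_left _ _ _ _

theorem Bp_smul_right (a : ZMod 2) (x y : V) : Bp x (a • y) = a * Bp x y := polar_smul_right _ _ _ _

theorem Bp_comm (x y : V) : Bp x y = Bp y x := polar_comm _ _ _

theorem Bp_self (x : V) : Bp x x = 0 := by
  show polar (qP 4) x x = 0
  rw [polar_self]
  exact (by decide : ∀ a : ZMod 2, 2 • a = 0) _

theorem Bp_zero_left (x : V) : Bp 0 x = 0 := polar_zero_left _ _

theorem Bp_zero_right (x : V) : Bp x 0 = 0 := polar_zero_right _ _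

theorem q_add (x y : V) : qP 4 (x + y) = qP 4 x + qP 4 y + Bp x y := by
  show _ = _ + _ + polar (qP 4) x y
  rw [polar]; ring

theorem q_smul (a : ZMod 2) (x : V) : qP 4 (a • x) = a * qP 4 x := by
  rcases zmod_cases a with rfl | rfl <;> simp

theorem polar_g (g : O) (x y : V) : Bp (g.1 x) (g.1 y) = Bp x y := polar_oG g x y

theorem bz_true {b : Bool} (h : bz b = 1) : b = true := (bz_eq_one b).1 h

theorem split_code : ∀ v : Fin 256, v.val = ((((v.val &&& 1) ^^^ (v.val &&& 2)) ^^^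
    ((v.val &&& 4) ^^^ (v.val &&& 8))) ^^^ (((v.val &&& 16) ^^^ (v.val &&& 32)) ^^^
    ((v.val &&& 64) ^^^ (v.val &&& 128)))) := by decide +kernel

theorem part_cases : ∀ v : Fin 256, ∀ k ∈ [1, 2, 4, 8, 16, 32, 64, 128],
    v.val &&& k = 0 ∨ v.val &&& k = k := by decide +kernel

/-- Induction over the eight unit vectors. -/
theorem basis_induction {P : V → Prop} (h0 : P 0) (hadd : ∀ x y, P x → P y → P (x + y)) (i : Fin 256)
    (hk : ∀ k ∈ [1, 2, 4, 8, 16, 32, 64, 128], i.val &&& k = k → P (dc k)) : P (dc i.val) := by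
  have hp : ∀ k ∈ [1, 2, 4, 8, 16, 32, 64, 128], P (dc (i.val &&& k)) := fun k hk' => by
    rcases part_cases i k hk' with e | e
    · rw [e, dc_zero]; exact h0
    · rw [e]; exact hk k hk' e
  rw [split_code i]
  simp only [dc_xor]
  exact hadd _ _ (hadd _ _ (hadd _ _ (hp 1 (by simp)) (hp 2 (by simp)))
    (hadd _ _ (hp 4 (by simp)) (hp 8 (by simp)))) (hadd _ _ (hadd _ _ (hp 16 (by simp)) (hp 32 (by simp)))
    (hadd _ _ (hp 64 (by simp)) (hp 128 (by simp))))

theorem ext_basis {f g : V →ₗ[ZMod 2] V} (h : ∀ k ∈ [1, 2, 4, 8, 16, 32, 64, 128], f (dc k) = g (dc k))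
    (x : V) : f x = g x := by
  rw [← dc_cd x]
  exact basis_induction (P := fun x => f x = g x) (by simp) (fun x y hx hy => by rw [map_add, map_add, hx, hy])
    (cd x) fun k hk _ => h k hk

theorem rep_code : ∀ k ∈ [1, 2, 4, 8, 16, 32, 64, 128], k < 256 ∧
    ∀ l ∈ [1, 2, 4, 8, 16, 32, 64, 128],
      Bn k l = decide ((if k < 16 then k * 16 else k / 16) = l) := by
  decide +kernel

/-- An additive functional is given by a vector. -/
theorem exists_rep (f : V → ZMod 2) (hf : ∀ x y, f (x + y) = f x + f y) :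
    ∃ c : V, ∀ x, f x = Bp x c := by
  have h0 : f 0 = 0 := by
    have := hf 0 0
    rw [add_zero] at this
    exact add_eq_left.1 this.symm
  refine ⟨f (dc 1) • dc 16 + f (dc 2) • dc 32 + (f (dc 4) • dc 64 + f (dc 8) • dc 128) +
    (f (dc 16) • dc 1 + f (dc 32) • dc 2 + (f (dc 64) • dc 4 + f (dc 128) • dc 8)), fun x => ?_⟩
  rw [← dc_cd x]
  refine basis_induction (P := fun x => f x = Bp x _) (by rw [h0, Bp_zero_left])
    (fun x y hx hy => by rw [hf, Bp_add_left, hx, hy]) (cd x) fun k hk _ => ?_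
  obtain ⟨hk256, hbn⟩ := rep_code k hk
  simp only [Bp_add_right, Bp_smul_right, Bp_dc hk256 (by norm_num : (1 : ℕ) < 256),
    Bp_dc hk256 (by norm_num : (2 : ℕ) < 256), Bp_dc hk256 (by norm_num : (4 : ℕ) < 256),
    Bp_dc hk256 (by norm_num : (8 : ℕ) < 256), Bp_dc hk256 (by norm_num : (16 : ℕ) < 256),
    Bp_dc hk256 (by norm_num : (32 : ℕ) < 256), Bp_dc hk256 (by norm_num : (64 : ℕ) < 256),
    Bp_dc hk256 (by norm_num : (128 : ℕ) < 256), hbn 1 (by simp), hbn 2 (by simp), hbn 4 (by simp),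
    hbn 8 (by simp), hbn 16 (by simp), hbn 32 (by simp), hbn 64 (by simp), hbn 128 (by simp)]
  simp only [List.mem_cons, List.not_mem_nil, or_false] at hk
  rcases hk with rfl | rfl | rfl | rfl | rfl | rfl | rfl | rfl <;> simp [bz]

theorem refl_apply {a : V} (hq : qP 4 a = 1) (x : V) :
    (rO (show qP 4 a ≠ 0 by rw [hq]; exact one_ne_zero)).1 x = x + Bp x a • a := by
  rw [rO_apply, hq, div_one, v_sub_eq_add]; rfl

/-- A product of two reflections. -/
theorem exists_rr {a b : V} (ha : qP 4 a = 1) (hb : qP 4 b = 1) : ∃ g : O, dsign g = 1 ∧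
    ∀ x, g.1 x = (x + Bp x b • b) + Bp (x + Bp x b • b) a • a := by
  have hna : qP 4 a ≠ 0 := by rw [ha]; exact one_ne_zero
  have hnb : qP 4 b ≠ 0 := by rw [hb]; exact one_ne_zero
  refine ⟨rO hna * rO hnb, ?_, fun x => ?_⟩
  · rw [dsign_mul_rO nondegP4, ← one_mul (rO hna), dsign_mul_rO nondegP4, dsign_one]
    decide
  · rw [oG_mul_apply, refl_apply hb, refl_apply ha]

theorem g2n_lt {a b v : ℕ} (ha : a < 256) (hb : b < 256) (hv : v < 256) : g2n a b v < 256 := by
  have h1 := xor_lt hv hb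
  unfold g2n
  dsimp only
  split_ifs <;> first | exact xor_lt h1 ha | exact xor_lt hv ha | exact h1 | exact hv

theorem step_dc {a : ℕ} (ha : a < 256) {v : ℕ} (hv : v < 256) :
    dc v + Bp (dc v) (dc a) • dc a = dc (if Bn v a then v ^^^ a else v) := by
  rw [Bp_dc hv ha]
  rcases Bn v a with _ | _
  · simp [bz]
  · simp [bz, dc_xor]

/-- A product of two reflections, on codes. -/
theorem exists_rrn {a b : ℕ} (ha : a < 256) (hb : b < 256) (hqa : qn a = true) (hqb : qn b = true) :
    ∃ g : O, dsign g = 1 ∧ ∀ v, v < 256 → g.1 (dc v) = dc (g2n a b v) := by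
  obtain ⟨g, hg, hgx⟩ := exists_rr (a := dc a) (b := dc b) (by rw [q_dc ha, hqa]; rfl)
    (by rw [q_dc hb, hqb]; rfl)
  refine ⟨g, hg, fun v hv => ?_⟩
  rw [hgx, step_dc hb hv, step_dc ha]
  · rfl
  · split_ifs
    exacts [xor_lt hv hb, hv]

/-- The Siegel map of `v` at the first coordinate vector. -/
noncomputable def sg (v x : V) : V :=
  x + Bp x v • dc 1 + Bp x (dc 1) • (v + qP 4 v • dc 1)

/-- The Siegel map of the line spanned by the second and third coordinate vectors. -/
noncomputable def s0 (x : V) : V := x + Bp x (dc 4) • dc 2 + Bp x (dc 2) • dc 4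

theorem bz_smul (b : Bool) (m : ℕ) : bz b • dc m = dc (if b then m else 0) := by
  rcases b with _ | _
  · rw [show bz false = 0 from rfl, zero_smul, if_neg Bool.false_ne_true, dc_zero]
  · rw [show bz true = 1 from rfl, one_smul, if_pos rfl]

theorem sg_dc {w v : ℕ} (hw : w < 256) (hv : v < 256) : sg (dc w) (dc v) = dc (sgn w v) := by
  rw [sg, q_dc hw, Bp_dc hv hw, Bp_dc hv (by norm_num), bz_smul, bz_smul, ← dc_xor, ← dc_xor, bz_smul,
    ← dc_xor]
  rfl

theorem s0_dc {v : ℕ} (hv : v < 256) : s0 (dc v) = dc (s0n v) := by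
  rw [s0, Bp_dc hv (by norm_num), Bp_dc hv (by norm_num), bz_smul, bz_smul, ← dc_xor, ← dc_xor]
  rfl

theorem e_self : Bp (dc 1) (dc 1) = 0 := Bp_self _

theorem q_e : qP 4 (dc 1) = 0 := by rw [q_dc (by norm_num)]; rfl

theorem sg_comp {v u : V} (hv : Bp v (dc 1) = 0) (hu : Bp u (dc 1) = 0) (x : V) :
    sg v (sg u x) = sg (v + u) x := by
  have hev : Bp (dc 1) v = 0 := (Bp_comm _ _).trans hv
  set c := Bp x (dc 1) with hc
  have h1 : Bp (sg u x) (dc 1) = c := by
    simp [sg, Bp_add_left, Bp_smul_left, e_self, hu, hc]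
  have h2 : Bp (sg u x) v = Bp x v + c * Bp u v := by
    simp [sg, Bp_add_left, Bp_smul_left, hev, hc]
  have h3 : qP 4 (v + u) = qP 4 v + qP 4 u + Bp u v := by rw [q_add, Bp_comm v u]
  rw [sg, h1, h2, sg, sg, ← hc, h3, Bp_add_right]
  funext i
  simp only [Pi.add_apply, Pi.smul_apply, smul_eq_mul]
  ring

theorem sg_zero (x : V) : sg 0 x = x := by
  rw [sg, Bp_zero_right, map_zero]
  simp

theorem sg_equiv (g : O) (he : g.1 (dc 1) = dc 1) (v x : V) : g.1 (sg v x) = sg (g.1 v) (g.1 x) := by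
  simp only [sg, map_add, map_smul, he]
  rw [polar_g, g.2 v, show Bp (g.1 x) (dc 1) = Bp x (dc 1) by
    conv_lhs => rw [← he]
    exact polar_g g x (dc 1)]

theorem sg_e (x : V) : sg (dc 1) x = x := by
  rw [sg, q_e, zero_smul, add_zero, add_assoc, ← add_smul]
  rw [(by decide : ∀ a : ZMod 2, a + a = 0)]
  simp

theorem sg_shift {v : V} (hv : Bp v (dc 1) = 0) (x : V) : sg (v + dc 1) x = sg v x := by
  rw [← sg_comp hv e_self, sg_e]

theorem sg_fix {v : V} (hv : Bp v (dc 1) = 0) : sg v (dc 1) = dc 1 := by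
  rw [sg, e_self, zero_smul, add_zero, Bp_comm, hv, zero_smul, add_zero]

theorem sg_invol {v : V} (hv : Bp v (dc 1) = 0) (x : V) : sg v (sg v x) = x := by
  rw [sg_comp hv hv, v_add_self, sg_zero]

theorem sg_perp {v x : V} (hx : Bp x (dc 1) = 0) : sg v x = x + Bp x v • dc 1 := by
  rw [sg, hx, zero_smul, add_zero]

theorem sg_polar {w : V} (hw : Bp w (dc 1) = 0) (x y : V) : Bp (sg w x) (sg w y) = Bp x y := by
  have hew : Bp (dc 1) w = 0 := (Bp_comm _ _).trans hw
  simp only [sg, Bp_add_left, Bp_add_right, Bp_smul_left, Bp_smul_right, e_self, hw, hew, Bp_self,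
    Bp_comm (dc 1) x, Bp_comm (dc 1) y, Bp_comm w y, mul_zero, add_zero, zero_add]
  generalize Bp x w = a
  generalize Bp x (dc 1) = b
  generalize Bp y w = c
  generalize Bp y (dc 1) = d
  generalize Bp x y = p
  generalize qP 4 w = r
  revert a b c d p r
  decide

theorem sg_q {w : V} (hw : Bp w (dc 1) = 0) (x : V) : qP 4 (sg w x) = qP 4 x := by
  have hew : Bp (dc 1) w = 0 := (Bp_comm _ _).trans hw
  simp only [sg, q_add, q_smul, q_e, Bp_add_left, Bp_add_right, Bp_smul_left, Bp_smul_right, e_self,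
    hw, hew, Bp_self, mul_zero, add_zero, zero_add]
  generalize Bp x w = a
  generalize Bp x (dc 1) = b
  generalize qP 4 x = p
  generalize qP 4 w = r
  revert a b p r
  decide

theorem perp_e_code : ∀ d : Fin 256,
    (∀ k ∈ [1, 2, 4, 8, 32, 64, 128], Bn d.val k = false) → d.val = 0 ∨ d.val = 1 := by decide +kernel

theorem perp_e {d : V} (h : ∀ k ∈ [1, 2, 4, 8, 32, 64, 128], Bp d (dc k) = 0) : d = 0 ∨ d = dc 1 := by
  rcases perp_e_code (cd d) fun k hk => by
      rw [← bz_eq_zero, ← Bp_dc (cd d).isLt (by revert k; decide), dc_cd]; exact h k hk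
    with e | e
  · exact Or.inl (by rw [← dc_cd d, e, dc_zero])
  · exact Or.inr (by rw [← dc_cd d, e])

theorem sg_inj {v : V} (hv : Bp v (dc 1) = 0) (h : ∀ x, sg v x = x) : v = 0 ∨ v = dc 1 := by
  refine perp_e fun k hk => ?_
  rw [Bp_comm]
  have hk1 : Bp (dc k) (dc 1) = 0 := by
    rw [Bp_dc (by revert k; decide) (by norm_num), bz_eq_zero]; revert k; decide
  have := h (dc k)
  rw [sg_perp hk1, add_eq_left] at this
  rcases zmod_cases (Bp (dc k) v) with e | e
  · exact e
  · rw [e, one_smul] at this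
    exact absurd (dc_inj (by norm_num) (by norm_num) (this.trans dc_zero.symm)) (by norm_num)

/-- The isometries centralising the quotient `e⊥ / e` are the Siegel maps. -/
theorem exists_sg_of (g : O) (he : g.1 (dc 1) = dc 1)
    (hN : ∀ x : V, Bp x (dc 1) = 0 → g.1 x + x = 0 ∨ g.1 x + x = dc 1) :
    ∃ w : V, Bp w (dc 1) = 0 ∧ ∀ x, g.1 x = sg w x := by
  classical
  let s : ℕ → ZMod 2 := fun k => if g.1 (dc k) + dc k = 0 then 0 else 1
  let w : V := s 2 • dc 32 + s 4 • dc 64 + s 8 • dc 128 + (s 32 • dc 2 + s 64 • dc 4 + s 128 • dc 8)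
  have hw : Bp w (dc 1) = 0 := by
    simp only [w, Bp_add_left, Bp_smul_left, Bp_dc (by norm_num : (32 : ℕ) < 256) (by norm_num : (1 : ℕ) < 256),
      Bp_dc (by norm_num : (64 : ℕ) < 256) (by norm_num : (1 : ℕ) < 256),
      Bp_dc (by norm_num : (128 : ℕ) < 256) (by norm_num : (1 : ℕ) < 256),
      Bp_dc (by norm_num : (2 : ℕ) < 256) (by norm_num : (1 : ℕ) < 256),
      Bp_dc (by norm_num : (4 : ℕ) < 256) (by norm_num : (1 : ℕ) < 256),
      Bp_dc (by norm_num : (8 : ℕ) < 256) (by norm_num : (1 : ℕ) < 256),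
      show bz (Bn 32 1) = 0 from rfl, show bz (Bn 64 1) = 0 from rfl, show bz (Bn 128 1) = 0 from rfl,
      show bz (Bn 2 1) = 0 from rfl, show bz (Bn 4 1) = 0 from rfl, show bz (Bn 8 1) = 0 from rfl,
      mul_zero, add_zero]
  refine ⟨w, hw, ?_⟩
  have hlow : ∀ k ∈ [1, 2, 4, 8, 32, 64, 128], g.1 (dc k) = sg w (dc k) := by
    intro k hk
    have hk256 : k < 256 := by revert k; decide
    have hperp : Bp (dc k) (dc 1) = 0 := by
      rw [Bp_dc hk256 (by norm_num), bz_eq_zero]; revert k; decide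
    simp only [List.mem_cons, List.not_mem_nil, or_false] at hk
    rcases hk with rfl | hk
    · rw [he, sg_fix hw]
    have hB : Bp (dc k) w = s k := by
      simp only [w, Bp_add_right, Bp_smul_right]
      obtain ⟨-, hbn⟩ := rep_code k (by rcases hk with rfl | rfl | rfl | rfl | rfl | rfl <;> simp)
      rw [Bp_dc hk256 (by norm_num), Bp_dc hk256 (by norm_num), Bp_dc hk256 (by norm_num),
          Bp_dc hk256 (by norm_num), Bp_dc hk256 (by norm_num), Bp_dc hk256 (by norm_num)]
      rw [hbn 2 (by simp), hbn 4 (by simp), hbn 8 (by simp), hbn 32 (by simp), hbn 64 (by simp), hbn 128 (by simp)]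
      rcases hk with rfl | rfl | rfl | rfl | rfl | rfl <;> simp [bz]
    rw [sg_perp hperp, hB]
    rcases hN _ hperp with e | e
    · simp only [s, if_pos e, zero_smul, add_zero]
      exact v_eq_of_add e
    · have hne : g.1 (dc k) + dc k ≠ 0 := fun e' =>
        absurd (dc_inj (by norm_num) (by norm_num) (e.symm.trans (e'.trans dc_zero.symm))) (by norm_num)
      simp only [s, if_neg hne, one_smul]
      rw [← e, add_left_comm, v_add_self, add_zero]
  have htop : g.1 (dc 16) = sg w (dc 16) := by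
    refine v_eq_of_add ?_
    set d := g.1 (dc 16) + sg w (dc 16) with hd
    have hperp : ∀ k ∈ [1, 2, 4, 8, 32, 64, 128], Bp d (dc k) = 0 := fun k hk => by
      have hp : Bp (dc k) (dc 1) = 0 := by
        rw [Bp_dc (by revert k; decide) (by norm_num), bz_eq_zero]; revert k; decide
      have hw' : Bp (sg w (dc k)) (dc 1) = 0 := by rw [← sg_fix hw, sg_polar hw, hp]
      have e : dc k = sg w (sg w (dc k)) := (sg_invol hw _).symm
      obtain ⟨t, ht⟩ : ∃ t, sg w (dc k) = t := ⟨_, rfl⟩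
      have hgt : g.1 t = sg w t := by
        rw [← ht, sg_perp hp, map_add, map_smul, he, hlow k hk]
        rw [show sg w (dc k + Bp (dc k) w • dc 1) = sg w (dc k) + Bp (dc k) w • dc 1 by
          rw [sg_perp (by rw [Bp_add_left, hp, Bp_smul_left, e_self, mul_zero, add_zero]), sg_perp hp,
            Bp_add_left, Bp_smul_left, (Bp_comm (dc 1) w).trans hw, mul_zero, add_zero, add_right_comm]]
      rw [hd, Bp_add_left, e, ht, sg_polar hw, ← hgt, polar_g]
      exact (by decide : ∀ a : ZMod 2, a + a = 0) _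
    rcases perp_e hperp with e | e
    · exact e
    · exfalso
      have h1 : g.1 (dc 16) = sg w (dc 16) + dc 1 := by
        rw [← e, hd, ← add_assoc, add_comm (sg w (dc 16)), add_assoc, v_add_self, add_zero]
      have h2 := g.2 (dc 16)
      rw [show g.1 (dc 16) = _ from h1, q_add, sg_q hw, q_e, add_zero, add_eq_left] at h2
      have h3 : Bp (sg w (dc 16)) (sg w (dc 1)) = 0 := by rw [sg_fix hw]; exact h2
      rw [sg_polar hw, Bp_dc (by norm_num) (by norm_num)] at h3
      exact absurd h3 (by decide)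
  let f : V →ₗ[ZMod 2] V :=
    { toFun := sg w
      map_add' := fun x y => by
        simp only [sg, Bp_add_left, add_smul]; abel
      map_smul' := fun c x => by
        rcases zmod_cases c with rfl | rfl
        · simp [sg, Bp_zero_left]
        · simp }
  refine fun x => ext_basis (f := (g.1 : V →ₗ[ZMod 2] V)) (g := f) (fun k hk => ?_) x
  simp only [List.mem_cons, List.not_mem_nil, or_false] at hk
  rcases hk with rfl | rfl | rfl | rfl | rfl | rfl | rfl | rfl
  exacts [hlow 1 (by simp), hlow 2 (by simp), hlow 4 (by simp), hlow 8 (by simp), htop,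
    hlow 32 (by simp), hlow 64 (by simp), hlow 128 (by simp)]

/-- An involution of trivial Dickson invariant has a singular vector `p` in its range such that the
image of the perpendicular space of `p` is totally singular. -/
theorem exists_axis (g : O) (h2 : g * g = 1) (h1 : g ≠ 1) (hd : dsign g = 1) :
    ∃ p : V, p ≠ 0 ∧ qP 4 p = 0 ∧ (∀ x : V, g.1 x = x → Bp x p = 0) ∧ (∃ y, p = g.1 y + y) ∧
      ∀ x : V, Bp x p = 0 → qP 4 (g.1 x + x) = 0 := by
  classical
  let N : V →ₗ[ZMod 2] V := (g.1 : V →ₗ[ZMod 2] V) + LinearMap.id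
  have hN : ∀ x, N x = g.1 x + x := fun x => rfl
  have hgg : ∀ x, g.1 (g.1 x) = x := fun x => by rw [← oG_mul_apply, h2, oG_one_apply]
  have hker : LinearMap.ker N = fixSub g := by
    ext x
    rw [LinearMap.mem_ker, hN, mem_fixSub]
    exact ⟨v_eq_of_add, fun e => by rw [e, v_add_self]⟩
  have hNN : ∀ x, N (N x) = 0 := fun x => by
    rw [hN, hN, map_add, hgg, add_comm (g.1 x), v_add_self]
  have hfix : ∀ x, g.1 (N x) = N x := fun x => v_eq_of_add (hNN x)
  have hself : ∀ x y : V, Bp (N x) y = Bp x (N y) := fun x y => by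
    have hxy : Bp (g.1 x) y = Bp x (g.1 y) := by
      conv_lhs => rw [← hgg y]
      exact polar_g g x (g.1 y)
    rw [hN, hN, Bp_add_left, Bp_add_right, hxy]
  have hperp : ∀ x y, Bp (N x) (N y) = 0 := fun x y => by rw [hself, hNN, Bp_zero_right]
  have hself0 : ∀ x : V, Bp x (N x) = qP 4 (N x) := fun x => by
    rw [hN, q_add, g.2 x, Bp_add_right, Bp_self, add_zero, Bp_comm (g.1 x) x]
    exact (by decide : ∀ a b : ZMod 2, b = a + a + b) _ _
  obtain ⟨c, hc⟩ := exists_rep (fun x => qP 4 (N x)) fun x y => by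
    show qP 4 (N (x + y)) = _
    rw [map_add, q_add, hperp, add_zero]
  have hck : ∀ x, g.1 x = x → Bp x c = 0 := fun x hx => by
    rw [← hc x]
    show qP 4 (N x) = 0
    rw [hN, hx, v_add_self, map_zero]
  by_cases hc0 : c = 0
  · obtain ⟨x, hx⟩ : ∃ x, N x ≠ 0 := by
      by_contra hcon
      push Not at hcon
      exact h1 (ext_oG fun x => v_eq_of_add (hcon x))
    refine ⟨N x, hx, (hc x).trans (by rw [hc0, Bp_zero_right]), fun y hy => ?_, ⟨x, rfl⟩,
      fun y _ => (hc y).trans (by rw [hc0, Bp_zero_right])⟩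
    rw [← hself, hN, hy, v_add_self, Bp_zero_left]
  have hwell : ∀ x y, N x = N y → Bp x c = Bp y c := fun x y h => by rw [← hc, ← hc, h]
  obtain ⟨d, hd'⟩ : ∃ d, c = N d := by
    let f₀ : ↥(LinearMap.range N) →+ ZMod 2 := AddMonoidHom.mk' (fun r => Bp r.2.choose c) fun r s => by
      rw [← Bp_add_left]
      exact hwell _ _ (by rw [(r + s).2.choose_spec, map_add, r.2.choose_spec, s.2.choose_spec]; rfl)
    obtain ⟨f, hf⟩ := LinearMap.exists_extend (f₀.toZModLinearMap 2)
    obtain ⟨d, hd'⟩ := exists_rep (fun x => f x) fun x y => map_add f x y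
    refine ⟨d, v_eq_of_add (eq_zero_of_polar nondegP4 fun y => ?_)⟩
    show Bp (c + N d) y = 0
    rw [Bp_add_left, Bp_comm c, hself, Bp_comm d, ← hd' (N y)]
    have h := LinearMap.congr_fun hf ⟨N y, ⟨y, rfl⟩⟩
    rw [show f (N y) = _ from h]
    show Bp y c + Bp _ c = 0
    rw [hwell _ y (⟨y, rfl⟩ : N y ∈ LinearMap.range N).choose_spec]
    exact (by decide : ∀ a : ZMod 2, a + a = 0) _
  refine ⟨c, hc0, ?_, hck, ⟨d, hd'⟩, fun x hx => (hc x).trans hx⟩
  by_contra hqc
  have hqc1 : qP 4 c = 1 := zmod_ne_zero _ hqc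
  have hdc : Bp d c = 1 := by rw [← hc, ← hd']; exact hqc1
  have hrank := N.finrank_range_add_finrank_ker
  have hle : LinearMap.range N ≤ LinearMap.ker N := by
    rintro _ ⟨x, rfl⟩
    exact LinearMap.mem_ker.2 (hNN x)
  have hle' := Submodule.finrank_mono hle
  have hV : finrank (ZMod 2) V = 8 := by simp
  have heven : Even (finrank (ZMod 2) V + finrank (ZMod 2) (fixSub g)) := by
    rcases Nat.even_or_odd (finrank (ZMod 2) V + finrank (ZMod 2) (fixSub g)) with h | h
    · exact h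
    · rw [dsign, h.neg_one_pow] at hd
      exact absurd hd (by decide)
  obtain ⟨j, hj⟩ := heven
  rw [hker] at hrank hle'
  obtain ⟨r, hr⟩ : ∃ r, r = finrank (ZMod 2) (LinearMap.range N) := ⟨_, rfl⟩
  have hr24 : r = 0 ∨ r = 2 ∨ r = 4 := by
    obtain ⟨k, hk⟩ : ∃ k, k = finrank (ZMod 2) (fixSub g) := ⟨_, rfl⟩
    have i1 : r + k = 8 := by rw [hr, hk, ← hV]; exact hrank
    have i2 : r ≤ k := by rw [hr, hk]; exact hle'
    have i3 : 8 + k = j + j := by rw [hk, ← hV]; exact hj
    omega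
  have hproj : ∀ x, Bp (x + Bp x c • d) c = 0 := fun x => by
    rw [Bp_add_left, Bp_smul_left, hdc, mul_one]
    exact (by decide : ∀ a : ZMod 2, a + a = 0) _
  have hNproj : ∀ x, N x = N (x + Bp x c • d) + Bp x c • c := fun x => by
    rw [map_add, map_smul, ← hd', add_assoc, v_add_self, add_zero]
  have hdperp : ∀ x, Bp x c = 0 → Bp d (N x) = 0 := fun x hx => by
    rw [← hself, ← hd', Bp_comm, hx]
  have hindep : ∀ (n : ℕ) (a y : Fin n → V), (∀ i j, Bp (y i) (a j) = if i = j then 1 else 0) →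
      (∀ i, a i ∈ LinearMap.range N) → n ≤ r := by
    intro n a y h ha
    have hli : LinearIndependent (ZMod 2) (fun i => (⟨a i, ha i⟩ : LinearMap.range N)) := by
      rw [Fintype.linearIndependent_iff]
      intro co hco i
      have := congrArg (fun v : LinearMap.range N => Bp (y i) (v : V)) hco
      simp only [Submodule.coe_sum, Submodule.coe_smul, Submodule.coe_zero, Bp_zero_right] at this
      rw [show Bp (y i) (∑ j, co j • a j) = ∑ j, co j * Bp (y i) (a j) from
        (map_sum ((polarBilin (qP 4)) (y i)) _ _).trans (Finset.sum_congr rfl fun j _ =>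
          Bp_smul_right _ _ _)] at this
      simpa [h] using this
    have := hli.fintype_card_le_finrank
    rwa [Fintype.card_fin, ← hr] at this
  -- a nonzero image of the perpendicular space
  obtain ⟨x, hxc, hx⟩ : ∃ x, Bp x c = 0 ∧ N x ≠ 0 := by
    by_contra hcon
    push Not at hcon
    have hle1 : LinearMap.range N ≤ Submodule.span (ZMod 2) {c} := by
      rintro _ ⟨x, rfl⟩
      rw [hNproj x, hcon _ (hproj x), zero_add]
      exact Submodule.smul_mem _ _ (Submodule.subset_span rfl)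
    have h := (Submodule.finrank_mono hle1).trans_eq (finrank_span_singleton hc0)
    have h' := hindep 1 ![c] ![d] (fun i j => by fin_cases i; fin_cases j; simp [hdc]) fun i => by
      fin_cases i; exact ⟨d, hd'.symm⟩
    rw [← hr] at h
    omega
  obtain ⟨y, hyc, hy⟩ : ∃ y, Bp y c = 0 ∧ Bp x (N y) = 1 := by
    obtain ⟨y, hy⟩ : ∃ y, Bp x (N y) ≠ 0 := by
      by_contra hcon
      push Not at hcon
      exact hx (eq_zero_of_polar nondegP4 fun y => (hself x y).trans (hcon y))
    refine ⟨_, hproj y, ?_⟩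
    rw [map_add, map_smul, ← hd', Bp_add_right, Bp_smul_right, hxc, mul_zero, add_zero]
    exact zmod_ne_zero _ hy
  have hθ : ∀ u, Bp u c = 0 → Bp u (N u) = 0 := fun u hu => (hself0 u).trans ((hc u).trans hu)
  have hxy : Bp y (N x) = 1 := by rw [← hself, Bp_comm, hy]
  have h3 := hindep 3 ![N x, N y, c] ![y, x, d] (fun i j => by
    fin_cases i <;> fin_cases j <;> simp [hxy, hθ y hyc, hθ x hxc, hy, hyc, hxc, hdperp x hxc,
      hdperp y hyc, hdc]) fun i => by
    fin_cases i <;> [exact ⟨x, rfl⟩; exact ⟨y, rfl⟩; exact ⟨d, hd'.symm⟩]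
  -- the rank is four: a further pair
  let pz : V → V := fun u => u + Bp u (N y) • x + Bp u (N x) • y
  have hpz : ∀ u, Bp u c = 0 → Bp (pz u) c = 0 ∧ Bp (pz u) (N x) = 0 ∧ Bp (pz u) (N y) = 0 := fun u hu => by
    simp only [pz, Bp_add_left, Bp_smul_left, hu, hxc, hyc, hθ x hxc, hθ y hyc, hxy, hy, mul_zero,
      mul_one, add_zero, (by decide : ∀ a : ZMod 2, a + a = 0), and_self]
  obtain ⟨u, huc, hu⟩ : ∃ u, Bp u c = 0 ∧ N (pz u) ≠ 0 := by
    by_contra hcon
    push Not at hcon
    have hle3 : LinearMap.range N ≤ Submodule.span (ZMod 2) (Set.range ![N x, N y, c]) := by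
      rintro _ ⟨u, rfl⟩
      rw [hNproj u]
      set u' := u + Bp u c • d
      have := hcon u' (hproj u)
      simp only [pz, map_add, map_smul] at this
      rw [add_assoc] at this
      rw [v_eq_of_add this]
      refine Submodule.add_mem _ (Submodule.add_mem _ ?_ ?_) ?_ <;>
        refine Submodule.smul_mem _ _ (Submodule.subset_span ?_)
      exacts [⟨0, rfl⟩, ⟨1, rfl⟩, ⟨2, rfl⟩]
    have h := (Submodule.finrank_mono hle3).trans (finrank_range_le_card _)
    rw [← hr, Fintype.card_fin] at h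
    omega
  obtain ⟨hu1, hu2, hu3⟩ := hpz u huc
  obtain ⟨v, hvc, hv⟩ : ∃ v, Bp v c = 0 ∧ Bp (pz u) (N v) = 1 := by
    obtain ⟨v, hv⟩ : ∃ v, Bp (pz u) (N v) ≠ 0 := by
      by_contra hcon
      push Not at hcon
      exact hu (eq_zero_of_polar nondegP4 fun y => (hself _ y).trans (hcon y))
    refine ⟨_, hproj v, ?_⟩
    rw [map_add, map_smul, ← hd', Bp_add_right, Bp_smul_right, hu1, mul_zero, add_zero]
    exact zmod_ne_zero _ hv
  obtain ⟨hv1, hv2, hv3⟩ := hpz v hvc
  have hsym : ∀ a b, Bp a (N b) = Bp b (N a) := fun a b => by rw [← hself, Bp_comm]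
  have huv : Bp (pz u) (N (pz v)) = 1 := by
    simp only [pz, map_add, map_smul, Bp_add_right, Bp_smul_right]
    simp only [pz] at hu2 hu3 hv
    rw [hu2, hu3, hv]
    simp
  have h5 := hindep 5 ![N x, N y, c, N (pz u), N (pz v)] ![y, x, d, pz v, pz u] (fun i j => by
    fin_cases i <;> fin_cases j <;> simp [hxy, hθ y hyc, hθ x hxc, hy, hyc, hxc, hdperp x hxc,
      hdperp y hyc, hdc, hu1, hu2, hu3, hv1, hv2, hv3, hθ _ hu1, hθ _ hv1, hdperp _ hu1, hdperp _ hv1,
      huv, hsym y (pz u), hsym y (pz v), hsym x (pz u), hsym x (pz v), hsym (pz v) (pz u)]) fun i => by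
    fin_cases i
    exacts [⟨x, rfl⟩, ⟨y, rfl⟩, ⟨d, hd'.symm⟩, ⟨pz u, rfl⟩, ⟨pz v, rfl⟩]
  omega

end Cfsg.Agent.CoOneType
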